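import Mathlib
import Cfsg.Prelude.Def_OddOrderLocal
import Cfsg.Agent.Lib.helper1.Hall
import Cfsg.Agent.Lib.helper29.Basic
import Cfsg.Agent.Lib.helper69.BGKappaB

/-!
# Abstract group theory for S1438 (fusion in a Hall subgroup of `M_σ`)

Pure lemmas: Hall subgroups of nilpotent groups are normal; if `V` has a normal Sylow `q`-subgroup
`Q` all of whose complements are nilpotent, then for a Hall subgroup `H` of `V` and a group `M`
normalizing `V` and `Q`, the normalizer of `H` in `M` controls `M`-fusion in `H`.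
-/

set_option autoImplicit false

namespace Cfsg.Agent.Lib.helper1.BG1438

open Cfsg Subgroup

universe u
variable {G : Type u} [Group G]

/-- In a finite group, an element whose order divides the order of a normal Hall subgroup lies in
it. -/
theorem mem_of_pow_card_eq_one {X : Type*} [Group X] [Finite X] (N : Subgroup X) [N.Normal]
    (hcop : (Nat.card N).Coprime N.index) {x : X} (hx : x ^ Nat.card N = 1) : x ∈ N := by
  rw [← QuotientGroup.eq_one_iff]
  have h1 : (QuotientGroup.mk x : X ⧸ N) ^ Nat.card N = 1 := by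
    rw [← QuotientGroup.mk_pow, hx]; rfl
  have h2 : (QuotientGroup.mk x : X ⧸ N) ^ N.index = 1 := by
    rw [Subgroup.index_eq_card]
    exact pow_card_eq_one'
  have h3 := orderOf_dvd_of_pow_eq_one h1
  have h4 := orderOf_dvd_of_pow_eq_one h2
  have h5 : orderOf (QuotientGroup.mk x : X ⧸ N) = 1 := Nat.eq_one_of_dvd_coprimes hcop h3 h4
  exact orderOf_eq_one_iff.mp h5

/-- Relative version of `mem_of_pow_card_eq_one`. -/
theorem mem_of_pow_card_eq_one_rel [Finite G] {H N : Subgroup G} (hHN : H ≤ N)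
    (hn : N ≤ normalizer (H : Set G)) (hcop : (Nat.card H).Coprime (H.relIndex N))
    {y : G} (hy : y ∈ N) (hpow : y ^ Nat.card H = 1) : y ∈ H := by
  have : (H.subgroupOf N).Normal := (Subgroup.normal_subgroupOf_iff_le_normalizer hHN).mpr hn
  have hc : Nat.card (H.subgroupOf N) = Nat.card H :=
    Nat.card_congr (Subgroup.subgroupOfEquivOfLe hHN).toEquiv
  have h1 : (⟨y, hy⟩ : N) ∈ H.subgroupOf N := by
    apply mem_of_pow_card_eq_one (H.subgroupOf N)
    · rw [hc]; exact hcop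
    · rw [hc]; apply Subtype.ext; simpa using hpow
  exact Subgroup.mem_subgroupOf.mp h1

/-- An element conjugating a finite subgroup into itself normalizes it. -/
theorem mem_normalizer_of_conj_mem [Finite G] {D : Subgroup G} {n : G}
    (h : ∀ d ∈ D, n * d * n⁻¹ ∈ D) : n ∈ normalizer (D : Set G) := by
  rw [Subgroup.mem_normalizer_iff]
  intro d
  refine ⟨h d, fun hd => ?_⟩
  let f : D → D := fun d => ⟨n * d * n⁻¹, h d d.2⟩
  have hinj : Function.Injective f := by
    intro a b hab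
    have h1 : n * (a : G) * n⁻¹ = n * (b : G) * n⁻¹ := congrArg Subtype.val hab
    apply Subtype.ext
    exact mul_left_cancel (mul_right_cancel h1)
  have hsurj := Finite.surjective_of_injective hinj
  obtain ⟨e, he⟩ := hsurj ⟨n * d * n⁻¹, hd⟩
  have h1 : n * (e : G) * n⁻¹ = n * d * n⁻¹ := congrArg Subtype.val he
  have hed : (e : G) = d := mul_left_cancel (mul_right_cancel h1)
  rw [← hed]; exact e.2

/-- A Hall subgroup of a finite nilpotent group is normal. -/
theorem normal_of_hall_nilpotent {X : Type*} [Group X] [Finite X] [Group.IsNilpotent X]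
    (H : Subgroup X) (hcop : (Nat.card H).Coprime H.index) : H.Normal := by
  have hN : Subgroup.normalizer (H : Set X) = ⊤ := by
    by_contra hne
    have hlt : Subgroup.normalizer (H : Set X) < ⊤ := lt_top_iff_ne_top.mpr hne
    have hnc := Group.normalizerCondition_of_isNilpotent (G := X) _ hlt
    obtain ⟨g, hg, hgn⟩ := SetLike.exists_of_lt hnc
    apply hgn
    have hHN : H ≤ Subgroup.normalizer (H : Set X) := Subgroup.le_normalizer
    have hcop' : (Nat.card H).Coprime (H.relIndex (Subgroup.normalizer (H : Set X))) := by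
      apply Nat.Coprime.coprime_dvd_right _ hcop
      exact Subgroup.relIndex_dvd_index_of_le hHN
    have key : ∀ g' : X, g' ∈ Subgroup.normalizer ((Subgroup.normalizer (H : Set X) : Subgroup X) : Set X) →
        ∀ h ∈ H, g' * h * g'⁻¹ ∈ H := by
      intro g' hg' h hh
      have h1 : g' * h * g'⁻¹ ∈ Subgroup.normalizer (H : Set X) :=
        (Subgroup.mem_normalizer_iff.mp hg' h).mp (hHN hh)
      apply mem_of_pow_card_eq_one_rel hHN le_rfl hcop' h1
      rw [conj_pow, ← Subgroup.coe_mk H h hh, ← Subgroup.coe_pow, pow_card_eq_one']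
      simp
    exact mem_normalizer_of_conj_mem (key g hg)
  exact Subgroup.normalizer_eq_top_iff.mp hN

/-- Conjugation by an element normalizing a nilpotent subgroup `V` preserves each Hall subgroup
of `V`. -/
theorem hall_nilpotent_conj [Finite G] {V H : Subgroup G} (hnil : Group.IsNilpotent V)
    (hHV : H ≤ V) (hcop : (Nat.card H).Coprime (H.relIndex V)) {m : G}
    (hm : ∀ v ∈ V, m * v * m⁻¹ ∈ V) : ∀ h ∈ H, m * h * m⁻¹ ∈ H := by
  have := hnil
  have hc : Nat.card (H.subgroupOf V) = Nat.card H :=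
    Nat.card_congr (Subgroup.subgroupOfEquivOfLe hHV).toEquiv
  have hnorm : (H.subgroupOf V).Normal :=
    normal_of_hall_nilpotent (H.subgroupOf V) (by rw [hc]; exact hcop)
  have hVN : V ≤ normalizer (H : Set G) :=
    (Subgroup.normal_subgroupOf_iff_le_normalizer hHV).mp hnorm
  intro h hh
  apply mem_of_pow_card_eq_one_rel hHV hVN hcop (hm h (hHV hh))
  rw [conj_pow, ← Subgroup.coe_mk H h hh, ← Subgroup.coe_pow, pow_card_eq_one']
  simp

open Cfsg.Agent.Lib.helper69 in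
/-- A complement of a normal Sylow `q`-subgroup `Q` of the solvable group `V` containing a given
`q'`-subgroup. -/
theorem exists_compl_ge [Finite G] {V Q K : Subgroup G} {q : ℕ} [hq : Fact q.Prime]
    (hVsolv : Group.IsSolvable V) (hQV : Q ≤ V) (hQ : IsPGroup q Q) (hQs : ¬ q ∣ Q.relIndex V)
    (hKV : K ≤ V) (hK : (Nat.card K).Coprime q) :
    ∃ D : Subgroup G, IsComplIn Q D V ∧ K ≤ D := by
  have := hVsolv
  obtain ⟨k, hk⟩ := IsPGroup.iff_card.mp hQ
  have hcardV : Nat.card V = Q.relIndex V * Nat.card Q := by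
    rw [mul_comm]; exact (bgk_card_mul_relIndex hQV).symm
  have hcopQ : (Q.relIndex V).Coprime (Nat.card Q) := by
    rw [hk]; exact Nat.Coprime.pow_right _ ((Nat.Prime.coprime_iff_not_dvd hq.out).mpr hQs).symm
  obtain ⟨-, hcont⟩ :=
    Cfsg.Agent.Lib.helper1.hallProp ↥V (Q.relIndex V) (Nat.card Q) hcardV hcopQ
  have hKc : Nat.card (K.subgroupOf V) = Nat.card K :=
    Nat.card_congr (Subgroup.subgroupOfEquivOfLe hKV).toEquiv
  obtain ⟨D', hD'c, hKD'⟩ := hcont (K.subgroupOf V)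
    (by rw [hKc, hk]; exact Nat.Coprime.pow_right _ hK)
  refine ⟨D'.map V.subtype, ?_, ?_⟩
  · have hDc : Nat.card (D'.map V.subtype) = Q.relIndex V := by
      rw [Subgroup.card_map_of_injective V.subtype_injective, hD'c]
    apply bgk_isComplIn_of_card hQV (Subgroup.map_subtype_le _)
    · apply disjoint_iff.mp
      apply Subgroup.disjoint_of_coprime_natCard
      rw [hDc]; exact hcopQ.symm
    · rw [hDc, mul_comm]; exact hcardV.symm
  · intro x hx
    exact ⟨⟨x, hKV hx⟩, hKD' (Subgroup.mem_subgroupOf.mpr hx), rfl⟩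

/-- Complements of a normal Sylow `q`-subgroup are Hall subgroups for the primes `≠ q`. -/
theorem compl_isPiHallOf [Finite G] {V Q D : Subgroup G} {q : ℕ} [hq : Fact q.Prime]
    (hQ : IsPGroup q Q) (hQs : ¬ q ∣ Q.relIndex V) (h : IsComplIn Q D V) :
    IsPiHallOf {p | p ≠ q} D V := by
  refine ⟨h.2.1, ?_, ?_⟩
  · intro p _ hpd hpq
    rw [Cfsg.Agent.Lib.helper29.IsComplIn.card_right h] at hpd
    have hpq' : p = q := hpq
    subst hpq'
    exact hQs hpd
  · intro p hp hpq hpd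
    rw [← Cfsg.Agent.Lib.helper29.IsComplIn.card_left h] at hpd
    obtain ⟨k, hk⟩ := IsPGroup.iff_card.mp hQ
    rw [hk] at hpd
    exact hpq ((Nat.prime_dvd_prime_iff_eq hp hq.out).mp (hp.dvd_of_dvd_pow hpd))

open Cfsg.Agent.Lib.helper69 in
/-- Frattini argument: `M = Q N_M(D)`, and `N_M(D)` normalizes the Hall subgroups of the nilpotent
complement `D`. -/
theorem frattini_compl [Finite G] {M V Q H₁ : Subgroup G} {q : ℕ} [hq : Fact q.Prime]
    (hVsolv : Group.IsSolvable V) (hVM : V ≤ M) (hMV : M ≤ normalizer (V : Set G))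
    (hQV : Q ≤ V) (hQ : IsPGroup q Q) (hQs : ¬ q ∣ Q.relIndex V)
    (hD : ∀ D : Subgroup G, IsComplIn Q D V → Group.IsNilpotent D)
    (hH₁V : H₁ ≤ V) (hH₁q : (Nat.card H₁).Coprime q)
    (hH₁ : ∀ D : Subgroup G, IsComplIn Q D V → H₁ ≤ D → (Nat.card H₁).Coprime (H₁.relIndex D))
    {m : G} (hm : m ∈ M) :
    ∃ u ∈ Q, ∃ n ∈ M, m = u * n ∧ ∀ h ∈ H₁, n * h * n⁻¹ ∈ H₁ := by
  obtain ⟨D, hDc, hHD⟩ := exists_compl_ge hVsolv hQV hQ hQs hH₁V hH₁q
  have hmV : ∀ v ∈ V, m * v * m⁻¹ ∈ V :=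
    fun v hv => (Subgroup.mem_normalizer_iff.mp (hMV hm) v).mp hv
  have hD₂V : D.map (MulAut.conj m).toMonoidHom ≤ V := by
    rintro _ ⟨d, hd, rfl⟩
    exact hmV d (hDc.2.1 hd)
  have hcardD₂ : Nat.card (D.map (MulAut.conj m).toMonoidHom) = Nat.card D :=
    Subgroup.card_map_of_injective (MulAut.conj m).injective
  have hπ₁ := compl_isPiHallOf hQ hQs hDc
  have hπ₂ : IsPiHallOf {p | p ≠ q} (D.map (MulAut.conj m).toMonoidHom) V := by
    refine ⟨hD₂V, ?_, ?_⟩
    · intro p hp hpd; rw [hcardD₂] at hpd; exact hπ₁.2.1 p hp hpd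
    · intro p hp hpq hpd
      apply hπ₁.2.2 p hp hpq
      have e1 := bgk_card_mul_relIndex hD₂V
      have e2 := bgk_card_mul_relIndex hDc.2.1
      rw [hcardD₂, ← e2] at e1
      have e3 := Nat.eq_of_mul_eq_mul_left Nat.card_pos e1
      rwa [← e3]
  obtain ⟨m', hm'V, hm'⟩ := bgk_hall_conj hVsolv hπ₁ hπ₂
  obtain ⟨a, ha, b, hb, hab⟩ := hDc.2.2.2 m' hm'V
  have key : ∀ d : G, d ∈ D ↔ a * d * a⁻¹ ∈ D.map (MulAut.conj m).toMonoidHom := by
    intro d
    have h1 := hm' (b⁻¹ * d * b)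
    have h2 : m' * (b⁻¹ * d * b) * m'⁻¹ = a * d * a⁻¹ := by rw [hab]; group
    rw [h2] at h1
    rw [← h1]
    constructor
    · intro hd; exact D.mul_mem (D.mul_mem (D.inv_mem hb) hd) hb
    · intro hd
      have h3 : d = b * (b⁻¹ * d * b) * b⁻¹ := by group
      rw [h3]; exact D.mul_mem (D.mul_mem hb hd) (D.inv_mem hb)
  refine ⟨a, ha, a⁻¹ * m, M.mul_mem (M.inv_mem (hVM (hQV ha))) hm, by group, ?_⟩
  have hnD : ∀ d ∈ D, (a⁻¹ * m) * d * (a⁻¹ * m)⁻¹ ∈ D := by
    intro d hd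
    rw [key]
    have h3 : a * ((a⁻¹ * m) * d * (a⁻¹ * m)⁻¹) * a⁻¹ = m * d * m⁻¹ := by group
    rw [h3]
    exact ⟨d, hd, rfl⟩
  exact hall_nilpotent_conj (hD D hDc) hHD (hH₁ D hDc hHD) hnD

open Cfsg.Agent.Lib.helper69 in
/-- A normal Sylow `q`-subgroup lies in every Hall subgroup whose order is divisible by `q`. -/
theorem sylow_le_hall [Finite G] {V Q H : Subgroup G} {q : ℕ} [hq : Fact q.Prime]
    (hVsolv : Group.IsSolvable V) (hVQ : V ≤ normalizer (Q : Set G))
    (hQV : Q ≤ V) (hQ : IsPGroup q Q)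
    (hHV : H ≤ V) (hHall : (Nat.card H).Coprime (H.relIndex V)) (hqH : q ∣ Nat.card H) :
    Q ≤ H := by
  have := hVsolv
  have hcardV : Nat.card V = Nat.card H * H.relIndex V := (bgk_card_mul_relIndex hHV).symm
  obtain ⟨hconj, hcont⟩ :=
    Cfsg.Agent.Lib.helper1.hallProp ↥V (Nat.card H) (H.relIndex V) hcardV hHall
  obtain ⟨k, hk⟩ := IsPGroup.iff_card.mp hQ
  have hqi : ¬ q ∣ H.relIndex V := fun h => hq.out.ne_one (Nat.eq_one_of_dvd_coprimes hHall hqH h)
  have hQc : Nat.card (Q.subgroupOf V) = Nat.card Q :=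
    Nat.card_congr (Subgroup.subgroupOfEquivOfLe hQV).toEquiv
  have hHc : Nat.card (H.subgroupOf V) = Nat.card H :=
    Nat.card_congr (Subgroup.subgroupOfEquivOfLe hHV).toEquiv
  obtain ⟨H', hH'c, hQH'⟩ := hcont (Q.subgroupOf V)
    (by rw [hQc, hk]; exact Nat.Coprime.pow_left _ ((Nat.Prime.coprime_iff_not_dvd hq.out).mpr hqi))
  obtain ⟨g, hg⟩ := hconj (H.subgroupOf V) H' hHc hH'c
  intro y hy
  have hz : (g : G) * y * (g : G)⁻¹ ∈ Q := (Subgroup.mem_normalizer_iff.mp (hVQ g.2) y).mp hy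
  have hz' : g * ⟨y, hQV hy⟩ * g⁻¹ ∈ H' := hQH' (Subgroup.mem_subgroupOf.mpr (by simpa using hz))
  rw [← hg, Subgroup.mem_pointwise_smul_iff_inv_smul_mem] at hz'
  have h3 : (MulAut.conj g)⁻¹ • (g * (⟨y, hQV hy⟩ : V) * g⁻¹) = ⟨y, hQV hy⟩ := by
    simp [MulAut.smul_def]
    group
  rw [h3] at hz'
  exact Subgroup.mem_subgroupOf.mp hz'

open Cfsg.Agent.Lib.helper69 in
/-- **Fusion control.** Let `V ≤ M` be solvable, normalized by `M`, with a Sylow `q`-subgroup `Q`
normalized by `M` all of whose complements in `V` are nilpotent, and let `H` be a Hall subgroup of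
`V`.  Then `N_M(H)` controls `M`-fusion in `H`. -/
theorem fusion_normal_sylow [Finite G] {M V Q H : Subgroup G} {q : ℕ} [hq : Fact q.Prime]
    (hVsolv : Group.IsSolvable V)
    (hVM : V ≤ M) (hMV : M ≤ normalizer (V : Set G)) (hMQ : M ≤ normalizer (Q : Set G))
    (hQV : Q ≤ V) (hQ : IsPGroup q Q) (hQs : ¬ q ∣ Q.relIndex V)
    (hD : ∀ D : Subgroup G, IsComplIn Q D V → Group.IsNilpotent D)
    (hHV : H ≤ V) (hHall : (Nat.card H).Coprime (H.relIndex V))
    {x m : G} (hx : x ∈ H) (hm : m ∈ M) (hy : m * x * m⁻¹ ∈ H) :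
    ∃ n ∈ M ⊓ normalizer (H : Set G), n * x * n⁻¹ = m * x * m⁻¹ := by
  have hmQ : ∀ m ∈ M, ∀ a ∈ Q, m * a * m⁻¹ ∈ Q :=
    fun m hm a ha => (Subgroup.mem_normalizer_iff.mp (hMQ hm) a).mp ha
  by_cases hqH : q ∣ Nat.card H
  · -- `Q ≤ H`, and `m` normalizes `H`
    have hQH : Q ≤ H := sylow_le_hall hVsolv (hVM.trans hMQ) hQV hQ hHV hHall hqH
    have hHsolv : Group.IsSolvable H := by
      have := hVsolv
      exact Group.isSolvable_of_isSolvable_injective (f := Subgroup.inclusion hHV) (Subgroup.inclusion_injective hHV)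
    have hQsH : ¬ q ∣ Q.relIndex H :=
      fun h => hQs (h.trans (Dvd.intro _ (Subgroup.relIndex_mul_relIndex Q H V hQH hHV)))
    obtain ⟨H₁, hH₁c, -⟩ := exists_compl_ge (K := ⊥) hHsolv hQH hQ hQsH bot_le (by simp)
    have hH₁H : H₁ ≤ H := hH₁c.2.1
    have hH₁card : Nat.card H₁ = Q.relIndex H := Cfsg.Agent.Lib.helper29.IsComplIn.card_right hH₁c
    have hH₁q : (Nat.card H₁).Coprime q := by
      rw [hH₁card]; exact ((Nat.Prime.coprime_iff_not_dvd hq.out).mpr hQsH).symm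
    obtain ⟨u, hu, n, hn, hmun, hnH₁⟩ := frattini_compl hVsolv hVM hMV hQV hQ hQs hD
      (hH₁H.trans hHV) hH₁q (fun D hDc hHD => by
        have e1 := bgk_card_mul_relIndex hHD
        have e2 := Cfsg.Agent.Lib.helper29.IsComplIn.card_mul hDc
        have e3 := Cfsg.Agent.Lib.helper29.IsComplIn.card_mul hH₁c
        have e4 := bgk_card_mul_relIndex hHV
        have e5 : H₁.relIndex D = H.relIndex V := by
          have e6 : Nat.card Q * Nat.card H₁ * H₁.relIndex D =
              Nat.card Q * Nat.card H₁ * H.relIndex V := by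
            rw [mul_assoc, e1, e2, e3, e4]
          exact Nat.eq_of_mul_eq_mul_left (Nat.mul_pos Nat.card_pos Nat.card_pos) e6
        rw [e5]
        exact Nat.Coprime.coprime_dvd_left (Dvd.intro_left _ e3) hHall) hm
    have hmH : ∀ h ∈ H, m * h * m⁻¹ ∈ H := by
      intro h hh
      obtain ⟨a, ha, b, hb, rfl⟩ := hH₁c.2.2.2 h hh
      have h3 : m * (a * b) * m⁻¹ = u * ((n * a * n⁻¹) * (n * b * n⁻¹)) * u⁻¹ := by
        rw [hmun]; group
      rw [h3]
      exact H.mul_mem (H.mul_mem (hQH hu)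
        (H.mul_mem (hQH (hmQ n hn a ha)) (hH₁H (hnH₁ b hb)))) (H.inv_mem (hQH hu))
    exact ⟨m, ⟨hm, mem_normalizer_of_conj_mem hmH⟩, rfl⟩
  · have hcopH : (Nat.card H).Coprime q :=
      ((Nat.Prime.coprime_iff_not_dvd hq.out).mpr hqH).symm
    obtain ⟨u, hu, n, hn, hmun, hnH⟩ := frattini_compl hVsolv hVM hMV hQV hQ hQs hD hHV hcopH
      (fun D hDc hHD => by
        apply Nat.Coprime.coprime_dvd_right _ hHall
        exact Dvd.intro _ (Subgroup.relIndex_mul_relIndex H D V hHD hDc.2.1)) hm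
    have hnN : n ∈ normalizer (H : Set G) := mem_normalizer_of_conj_mem hnH
    refine ⟨n, ⟨hn, hnN⟩, ?_⟩
    have hx'H : n * x * n⁻¹ ∈ H := hnH x hx
    have hyx : m * x * m⁻¹ = u * (n * x * n⁻¹) * u⁻¹ := by rw [hmun]; group
    have hc : u * (n * x * n⁻¹) * u⁻¹ * (n * x * n⁻¹)⁻¹ ∈ H ⊓ Q := by
      refine ⟨?_, ?_⟩
      · rw [← hyx]; exact H.mul_mem hy (H.inv_mem hx'H)
      · have h3 : u * (n * x * n⁻¹) * u⁻¹ * (n * x * n⁻¹)⁻¹ =
            u * ((n * x * n⁻¹) * u⁻¹ * (n * x * n⁻¹)⁻¹) := by group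
        rw [h3]
        exact Q.mul_mem hu (hmQ _ (hVM (hHV hx'H)) u⁻¹ (Q.inv_mem hu))
    have hbot : H ⊓ Q = ⊥ := by
      apply disjoint_iff.mp
      apply Subgroup.disjoint_of_coprime_natCard
      obtain ⟨k, hk⟩ := IsPGroup.iff_card.mp hQ
      rw [hk]; exact Nat.Coprime.pow_right _ hcopH
    rw [hbot, Subgroup.mem_bot] at hc
    rw [hyx]
    exact (mul_inv_eq_one.mp hc).symm

end Cfsg.Agent.Lib.helper1.BG1438
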