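import Mathlib
import Cfsg.Agent.S0031
import Cfsg.Agent.S0032
import Cfsg.Agent.Lib.helper1.GT
import Cfsg.Agent.Lib.helper40.PNil
import Cfsg.Agent.Lib.helper67.Frobenius

/-!
# Thompson's theorem on fixed-point-free automorphisms of prime order (helper1)

* `prod_smul_eq_pow_card`: abstract trace lemma.
* `fpf_trace_centralizes`: `φ` fixed-point-free with `φ^r = 1` (`r` prime), `W` an abelian normal
  `φ`-invariant subgroup, `Q` a `φ`-invariant subgroup of order prime to `|W|` ⇒ `Q` centralises `W`.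
* `commute_of_coprime_orderOf_of_isNilpotent`, `frobCond_of_isNilpotent`.
* `center_ne_bot_of_solvable_fpf`: a nontrivial finite solvable group with such a `φ` has nontrivial
  centre.
* `nilpotent_of_fpf_prime_aux`: **Thompson's theorem**: a finite group with a fixed-point-free
  automorphism `φ`, `φ^r = 1`, `r` prime, is nilpotent.
-/

set_option autoImplicit false

namespace Cfsg.Agent.Lib.helper1

open scoped commutatorElement

section trace

theorem list_range_map_prod {M : Type*} [CommMonoid M] (g : ℕ → M) (n : ℕ) :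
    ((List.range n).map g).prod = ∏ i ∈ Finset.range n, g i := by
  induction n with
  | zero => simp
  | succ n ih =>
    rw [List.range_succ, List.map_append, List.prod_append, ih, Finset.prod_range_succ]
    simp

/-- **Abstract trace lemma.**  `Q` acts on the commutative group `A` via `ρ`; `f` is an
endomorphism of `A` compatible with an endomorphism `σ` of `Q`, with `∏_{i<r} f^i = 1` on `A` and
`z ↦ z σ^i(z)⁻¹` bijective for `0 < i < r`.  Then `∏_{w ∈ Q} w • a = a ^ |Q|`. -/
theorem prod_smul_eq_pow_card {A : Type*} [CommGroup A] {Q : Type*} [Group Q] [Fintype Q]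
    (ρ : Q →* MulAut A) (f : A →* A) (σ : Q →* Q)
    (hcompat : ∀ z a, f (ρ z a) = ρ (σ z) (f a))
    (r : ℕ) (hr : 0 < r) (htrace : ∀ a, ∏ i ∈ Finset.range r, f^[i] a = 1)
    (hbij : ∀ i, 0 < i → i < r → Function.Bijective (fun z : Q => z * (σ^[i] z)⁻¹)) (a : A) :
    ∏ w : Q, ρ w a = a ^ Fintype.card Q := by
  have hit : ∀ (i : ℕ) (z : Q) (a : A), f^[i] (ρ z a) = ρ (σ^[i] z) (f^[i] a) := by
    intro i
    induction i with
    | zero => intro z a; rfl
    | succ i ih =>
      intro z a
      rw [Function.iterate_succ_apply', Function.iterate_succ_apply', Function.iterate_succ_apply',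
        ih, hcompat]
  have hσinv : ∀ (i : ℕ) (z : Q), σ^[i] z⁻¹ = (σ^[i] z)⁻¹ := by
    intro i z
    induction i with
    | zero => rfl
    | succ i ih => rw [Function.iterate_succ_apply', Function.iterate_succ_apply', ih, map_inv]
  have h1 : ∀ z : Q, ∏ i ∈ Finset.range r, ρ (z * (σ^[i] z)⁻¹) (f^[i] a) = 1 := by
    intro z
    have h2 : ∀ i, ρ (z * (σ^[i] z)⁻¹) (f^[i] a) = ρ z (f^[i] (ρ z⁻¹ a)) := by
      intro i
      rw [hit, hσinv, map_mul]
      rfl
    simp_rw [h2]
    rw [← map_prod (ρ z), htrace, map_one]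
  have h3 : ∏ z : Q, ∏ i ∈ Finset.range r, ρ (z * (σ^[i] z)⁻¹) (f^[i] a) = 1 := by
    simp_rw [h1]
    exact Finset.prod_const_one
  rw [Finset.prod_comm] at h3
  obtain ⟨r', rfl⟩ : ∃ r', r = r' + 1 := ⟨r - 1, by omega⟩
  rw [Finset.prod_range_succ'] at h3
  have h0 : ∏ z : Q, ρ (z * (σ^[0] z)⁻¹) (f^[0] a) = a ^ Fintype.card Q := by
    simp
  let S : A →* A := ∏ w : Q, ((ρ w : A ≃* A) : A →* A)
  have hS : ∀ b, S b = ∏ w : Q, ρ w b := fun b => by simp [S]
  have hi : ∀ i ∈ Finset.range r',
      ∏ z : Q, ρ (z * (σ^[i + 1] z)⁻¹) (f^[i + 1] a) = S (f^[i + 1] a) := by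
    intro i hi
    rw [hS]
    exact Function.Bijective.prod_comp
      (hbij (i + 1) (Nat.succ_pos i) (by simpa using hi)) (fun w => ρ w (f^[i + 1] a))
  rw [Finset.prod_congr rfl hi, ← map_prod, h0] at h3
  have h4 : ∏ i ∈ Finset.range r', f^[i + 1] a = a⁻¹ := by
    have := htrace a
    rw [Finset.prod_range_succ'] at this
    exact eq_inv_of_mul_eq_one_left this
  rw [h4, map_inv, hS] at h3
  exact inv_mul_eq_one.mp h3

end trace

section fpf

variable {G : Type*} [Group G]

/-- a fixed point of `φ^i` (`i` prime to `r`) which is fixed by `φ^r` is a fixed point of `φ` -/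
theorem fixed_of_iterate_fixed {α : Type*} (φ : α → α) (r i : ℕ) (hr : 1 < r) (hcop : Nat.Coprime i r)
    (u : α) (hi : φ^[i] u = u) (hru : φ^[r] u = u) : φ u = u := by
  obtain ⟨m, -, hm⟩ := Nat.exists_mul_mod_eq_one_of_coprime hcop hr
  have h1 : φ^[i * m] u = u := by
    rw [Function.iterate_mul]
    exact Function.iterate_fixed hi m
  have h2 : φ^[r * (i * m / r)] u = u := by
    rw [Function.iterate_mul]
    exact Function.iterate_fixed hru _
  have h3 : i * m = 1 + r * (i * m / r) := by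
    have := Nat.div_add_mod (i * m) r
    omega
  rw [h3, Function.iterate_add_apply, h2] at h1
  exact h1

/-- restriction of an automorphism to an invariant subgroup of a finite group -/
noncomputable def restrictAut [Finite G] (φ : G ≃* G) (H : Subgroup G) (hH : ∀ h ∈ H, φ h ∈ H) :
    ↥H ≃* ↥H :=
  MulEquiv.ofBijective
    ({ toFun := fun h => ⟨φ (h : G), hH h h.2⟩
       map_one' := Subtype.ext (map_one φ)
       map_mul' := fun a b => Subtype.ext (map_mul φ (a : G) (b : G)) } : ↥H →* ↥H)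
    (Finite.injective_iff_bijective.mp
      (fun a b hab => Subtype.ext (φ.injective (congrArg Subtype.val hab))))

theorem restrictAut_apply [Finite G] (φ : G ≃* G) (H : Subgroup G) (hH : ∀ h ∈ H, φ h ∈ H)
    (h : H) : (restrictAut φ H hH h : G) = φ h := rfl

theorem restrictAut_iterate [Finite G] (φ : G ≃* G) (H : Subgroup G) (hH : ∀ h ∈ H, φ h ∈ H)
    (i : ℕ) (h : H) : (((⇑(restrictAut φ H hH))^[i] h : H) : G) = (⇑φ)^[i] h := by
  induction i with
  | zero => rfl
  | succ i ih =>
    rw [Function.iterate_succ_apply', Function.iterate_succ_apply', restrictAut_apply, ih]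

/-- the automorphism induced on the quotient by an invariant normal subgroup -/
noncomputable def quotAut [Finite G] (φ : G ≃* G) (N : Subgroup G) [N.Normal]
    (hN : ∀ n ∈ N, φ n ∈ N) : G ⧸ N ≃* G ⧸ N :=
  QuotientGroup.congr N N φ (by
    apply Subgroup.eq_of_le_of_card_ge
    · rintro _ ⟨n, hn, rfl⟩
      exact hN n hn
    · rw [Subgroup.card_map_of_injective φ.injective])

theorem quotAut_mk [Finite G] (φ : G ≃* G) (N : Subgroup G) [N.Normal]
    (hN : ∀ n ∈ N, φ n ∈ N) (x : G) :
    quotAut φ N hN (QuotientGroup.mk x) = QuotientGroup.mk (φ x) := rfl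

theorem quotAut_iterate [Finite G] (φ : G ≃* G) (N : Subgroup G) [N.Normal]
    (hN : ∀ n ∈ N, φ n ∈ N) (i : ℕ) (x : G) :
    (⇑(quotAut φ N hN))^[i] (QuotientGroup.mk x) = QuotientGroup.mk ((⇑φ)^[i] x) := by
  induction i with
  | zero => rfl
  | succ i ih =>
    rw [Function.iterate_succ_apply', Function.iterate_succ_apply', ih, quotAut_mk]

theorem quotAut_fpf [Finite G] (φ : G ≃* G) (hφ : ∀ g, φ g = g → g = 1) (N : Subgroup G)
    [N.Normal] (hN : ∀ n ∈ N, φ n ∈ N) : ∀ y : G ⧸ N, quotAut φ N hN y = y → y = 1 := by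
  intro y hy
  obtain ⟨x, rfl⟩ := QuotientGroup.mk_surjective y
  rw [quotAut_mk] at hy
  rw [QuotientGroup.eq_one_iff]
  exact Cfsg.Agent.S0032.result φ (fun g hg => hφ g hg) N hN x (QuotientGroup.eq.mp hy)

open scoped IsMulCommutative in
/-- **Trace lemma.**  `φ` a fixed-point-free automorphism of the finite group `G` with `φ^r = 1`,
`r` prime; `W` an abelian normal `φ`-invariant subgroup and `Q` a `φ`-invariant subgroup of order
prime to `|W|`.  Then `Q` centralises `W`. -/
theorem fpf_trace_centralizes [Finite G] (φ : G ≃* G) (hφ : ∀ g, φ g = g → g = 1) (r : ℕ)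
    (hr : r.Prime) (hφr : ∀ g, (⇑φ)^[r] g = g)
    (W Q : Subgroup G) [hWn : W.Normal] (hWab : ∀ a ∈ W, ∀ b ∈ W, a * b = b * a)
    (hφW : ∀ w ∈ W, φ w ∈ W) (hφQ : ∀ x ∈ Q, φ x ∈ Q)
    (hcop : (Nat.card Q).Coprime (Nat.card W)) : Q ≤ Subgroup.centralizer (W : Set G) := by
  classical
  have : IsMulCommutative ↥W := ⟨⟨fun a b => Subtype.ext (hWab a a.2 b b.2)⟩⟩
  let _ : Fintype ↥Q := Fintype.ofFinite _
  let ρ : ↥Q →* MulAut ↥W := (MulAut.conjNormal (H := W)).comp Q.subtype
  let f : ↥W →* ↥W := (restrictAut φ W hφW).toMonoidHom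
  let σ : ↥Q →* ↥Q := (restrictAut φ Q hφQ).toMonoidHom
  have hρ : ∀ (z : ↥Q) (a : ↥W), ((ρ z a : ↥W) : G) = z * a * (z : G)⁻¹ := fun z a => rfl
  have hf : ∀ (i : ℕ) (a : ↥W), (((⇑f)^[i] a : ↥W) : G) = (⇑φ)^[i] a :=
    fun i a => restrictAut_iterate φ W hφW i a
  have hσ : ∀ (i : ℕ) (z : ↥Q), (((⇑σ)^[i] z : ↥Q) : G) = (⇑φ)^[i] z :=
    fun i z => restrictAut_iterate φ Q hφQ i z
  have hcompat : ∀ z a, f (ρ z a) = ρ (σ z) (f a) := by
    intro z a
    apply Subtype.ext
    show φ (z * a * (z : G)⁻¹) = φ z * φ a * (φ z)⁻¹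
    rw [map_mul, map_mul, map_inv]
  have hfpf : MonoidHom.FixedPointFree f :=
    fun a ha => Subtype.ext (hφ a (congrArg Subtype.val ha))
  have hfr : (⇑f)^[r] = id := funext fun a => Subtype.ext (by rw [hf]; exact hφr a)
  have htrace : ∀ a, ∏ i ∈ Finset.range r, (⇑f)^[i] a = 1 := by
    intro a
    rw [← list_range_map_prod]
    exact hfpf.prod_pow_eq_one hfr a
  have hbij : ∀ i, 0 < i → i < r → Function.Bijective (fun z : ↥Q => z * ((⇑σ)^[i] z)⁻¹) := by
    intro i hi0 hir
    apply Finite.injective_iff_bijective.mp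
    intro z z' hzz
    have hzz' : z * ((⇑σ)^[i] z)⁻¹ = z' * ((⇑σ)^[i] z')⁻¹ := hzz
    have h1 : (⇑σ)^[i] (z'⁻¹ * z) = z'⁻¹ * z := by
      rw [iterate_map_mul, iterate_map_inv]
      have e : z'⁻¹ * z = ((⇑σ)^[i] z')⁻¹ * (⇑σ)^[i] z := by
        calc z'⁻¹ * z = z'⁻¹ * (z * ((⇑σ)^[i] z)⁻¹) * (⇑σ)^[i] z := by group
          _ = z'⁻¹ * (z' * ((⇑σ)^[i] z')⁻¹) * (⇑σ)^[i] z := by rw [hzz']
          _ = ((⇑σ)^[i] z')⁻¹ * (⇑σ)^[i] z := by group
      exact e.symm
    have h2 : (⇑φ)^[i] ((z'⁻¹ * z : ↥Q) : G) = ((z'⁻¹ * z : ↥Q) : G) := by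
      rw [← hσ, h1]
    have hcop' : Nat.Coprime i r :=
      ((Nat.Prime.coprime_iff_not_dvd hr).mpr (Nat.not_dvd_of_pos_of_lt hi0 hir)).symm
    have h3 := fixed_of_iterate_fixed (⇑φ) r i hr.one_lt hcop' _ h2 (hφr _)
    have h4 := hφ _ h3
    have h5 : z'⁻¹ * z = 1 := Subtype.ext h4
    exact (inv_mul_eq_one.mp h5).symm
  have key := prod_smul_eq_pow_card ρ f σ hcompat r hr.pos htrace hbij
  intro x hx
  rw [Subgroup.mem_centralizer_iff]
  intro w hw
  have hkey := key ⟨w, hw⟩
  have hinv : ρ ⟨x, hx⟩ (∏ z : ↥Q, ρ z ⟨w, hw⟩) = ∏ z : ↥Q, ρ z ⟨w, hw⟩ := by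
    rw [map_prod]
    exact Fintype.prod_equiv (Equiv.mulLeft (⟨x, hx⟩ : ↥Q)) _ _ (fun z => by
      rw [Equiv.coe_mulLeft, map_mul]
      rfl)
  rw [hkey] at hinv
  have hinv' : x * w ^ Fintype.card ↥Q * x⁻¹ = w ^ Fintype.card ↥Q := by
    have := congrArg Subtype.val hinv
    rw [hρ] at this
    simpa using this
  have hcop2 : (Fintype.card ↥Q).Coprime (orderOf w) := by
    rw [← Nat.card_eq_fintype_card]
    have hd : orderOf w ∣ Nat.card W := by
      have := orderOf_dvd_natCard (⟨w, hw⟩ : ↥W)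
      rwa [Subgroup.orderOf_mk] at this
    exact Nat.Coprime.coprime_dvd_right hd hcop
  obtain ⟨t, ht⟩ := exists_pow_eq_self_of_coprime hcop2
  have h6 : x * w * x⁻¹ = w := by
    calc x * w * x⁻¹ = x * (w ^ Fintype.card ↥Q) ^ t * x⁻¹ := by rw [ht]
      _ = (x * w ^ Fintype.card ↥Q * x⁻¹) ^ t := by rw [conj_pow]
      _ = w := by rw [hinv', ht]
  calc w * x = (x * w * x⁻¹) * x := by rw [h6]
    _ = x * w := by group

end fpf

section nilp

/-- in a nilpotent group, elements of coprime orders commute -/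
theorem commute_of_coprime_orderOf_of_isNilpotent (N : Type*) [Group N] [Group.IsNilpotent N] :
    ∀ x y : N, (orderOf x).Coprime (orderOf y) → Commute x y := by
  refine Group.nilpotent_center_quotient_ind
    (P := fun G _ _ => ∀ x y : G, (orderOf x).Coprime (orderOf y) → Commute x y) N ?_ ?_
  · intro G _ _ x y _
    have : x = y := Subsingleton.elim x y
    rw [this]
  · intro G _ _ ih x y hxy
    have hx : orderOf (QuotientGroup.mk x : G ⧸ Subgroup.center G) ∣ orderOf x :=
      orderOf_dvd_of_pow_eq_one (by rw [← QuotientGroup.mk_pow, pow_orderOf_eq_one]; rfl)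
    have hy : orderOf (QuotientGroup.mk y : G ⧸ Subgroup.center G) ∣ orderOf y :=
      orderOf_dvd_of_pow_eq_one (by rw [← QuotientGroup.mk_pow, pow_orderOf_eq_one]; rfl)
    have hc := ih (QuotientGroup.mk x) (QuotientGroup.mk y)
      (Nat.Coprime.coprime_dvd_left hx (Nat.Coprime.coprime_dvd_right hy hxy))
    have hz : ⁅x, y⁆ ∈ Subgroup.center G := by
      rw [← QuotientGroup.eq_one_iff]
      show (QuotientGroup.mk' (Subgroup.center G)) ⁅x, y⁆ = 1
      rw [map_commutatorElement, commutatorElement_eq_one_iff_commute]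
      exact hc
    have hzc : ∀ g, g * ⁅x, y⁆ = ⁅x, y⁆ * g := Subgroup.mem_center_iff.mp hz
    have h1 : ⁅x, y⁆ ^ orderOf y = 1 := by
      have e : x * y * x⁻¹ = ⁅x, y⁆ * y := by rw [commutatorElement_def]; group
      have e2 : (x * y * x⁻¹) ^ orderOf y = 1 := by rw [conj_pow, pow_orderOf_eq_one]; simp
      rw [e, (show Commute ⁅x, y⁆ y from (hzc y).symm).mul_pow, pow_orderOf_eq_one, mul_one] at e2
      exact e2
    have h2 : ⁅x, y⁆ ^ orderOf x = 1 := by
      have e : y * x * y⁻¹ = ⁅x, y⁆⁻¹ * x := by rw [commutatorElement_def]; group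
      have e2 : (y * x * y⁻¹) ^ orderOf x = 1 := by rw [conj_pow, pow_orderOf_eq_one]; simp
      have hcz : Commute ⁅x, y⁆⁻¹ x := (show Commute ⁅x, y⁆ x from (hzc x).symm).inv_left
      rw [e, hcz.mul_pow, pow_orderOf_eq_one, mul_one, inv_pow, inv_eq_one] at e2
      exact e2
    have h3 : orderOf ⁅x, y⁆ = 1 :=
      (Nat.Coprime.coprime_dvd_left (orderOf_dvd_of_pow_eq_one h2) hxy).eq_one_of_dvd
        (orderOf_dvd_of_pow_eq_one h1)
    exact commutatorElement_eq_one_iff_commute.mp (orderOf_eq_one_iff.mp h3)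

/-- a nilpotent group satisfies Frobenius' condition for every prime -/
theorem frobCond_of_isNilpotent (q : ℕ) (N : Type*) [Group N] [Group.IsNilpotent N] :
    Cfsg.Agent.Lib.helper67.FrobCond q N := by
  intro Q hQ g _ hcop
  rw [Subgroup.mem_centralizer_iff]
  intro x hx
  obtain ⟨k, hk⟩ := hQ ⟨x, hx⟩
  have hxk : x ^ q ^ k = 1 := congrArg Subtype.val hk
  have hd : orderOf x ∣ q ^ k := orderOf_dvd_of_pow_eq_one hxk
  have : (orderOf x).Coprime (orderOf g) :=
    Nat.Coprime.coprime_dvd_left hd (Nat.Coprime.pow_left k hcop.symm)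
  exact (commute_of_coprime_orderOf_of_isNilpotent N x g this).eq

end nilp

section main

universe u

/-- a nontrivial subgroup `W` of a finite `p`-group `R`, normalised by `R`, contains a nontrivial
element centralised by `R` -/
theorem exists_central_of_le_isPGroup {G : Type*} [Group G] [Finite G] {p : ℕ} [Fact p.Prime]
    (R : Subgroup G) (hR : IsPGroup p R) :
    ∀ W : Subgroup G, W ≤ R → R ≤ Subgroup.normalizer (W : Set G) → W ≠ ⊥ →
      ∃ w ∈ W, w ≠ 1 ∧ ∀ x ∈ R, x * w = w * x := by
  intro W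
  induction hN : Nat.card W using Nat.strong_induction_on generalizing W with
  | _ N ih =>
    intro hWR hRW hW
    by_cases hc : ⁅W, R⁆ = ⊥
    · obtain ⟨w, hw⟩ := (Subgroup.ne_bot_iff_exists_ne_one).mp hW
      refine ⟨w, w.2, fun h => hw (Subtype.ext h), fun x hx => ?_⟩
      have : ⁅(w : G), x⁆ ∈ ⁅W, R⁆ := Subgroup.commutator_mem_commutator w.2 hx
      rw [hc, Subgroup.mem_bot, commutatorElement_eq_one_iff_commute] at this
      exact this.eq.symm
    · have hlt := commutator_lt_of_le_isPGroup hR hWR hRW hW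
      have hcard : Nat.card (⁅W, R⁆ : Subgroup G) < N := by
        rw [← hN]
        refine lt_of_le_of_ne (Subgroup.card_le_of_le hlt.le) ?_
        intro heq
        exact hlt.ne (Subgroup.eq_of_le_of_card_ge hlt.le heq.ge)
      obtain ⟨w, hw, hw1, hwc⟩ := ih _ hcard ⁅W, R⁆ rfl (hlt.le.trans hWR)
        (right_le_normalizer_commutator hRW) hc
      exact ⟨w, hlt.le hw, hw1, hwc⟩

/-- a nontrivial finite solvable group with a fixed-point-free automorphism `φ`, `φ^r = 1`,
`r` prime, has a nontrivial centre -/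
theorem center_ne_bot_of_solvable_fpf {G : Type*} [Group G] [Finite G] [Nontrivial G]
    (hsolv : Group.IsSolvable G) (φ : G ≃* G) (hφ : ∀ g, φ g = g → g = 1)
    (r : ℕ) (hr : r.Prime) (hφr : ∀ g, (⇑φ)^[r] g = g) : Subgroup.center G ≠ ⊥ := by
  classical
  obtain ⟨n, hn⟩ := hsolv.solvable
  have hex : ∃ n, derivedSeries G n = ⊥ := ⟨n, hn⟩
  have hn₀ : derivedSeries G (Nat.find hex) = ⊥ := Nat.find_spec hex
  have hn₀pos : Nat.find hex ≠ 0 := by
    intro h0
    rw [h0, derivedSeries_zero] at hn₀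
    exact top_ne_bot hn₀
  obtain ⟨k, hk⟩ := Nat.exists_eq_succ_of_ne_zero hn₀pos
  have hVne : derivedSeries G k ≠ ⊥ := Nat.find_min hex (by omega : k < Nat.find hex)
  have hVab : ∀ a ∈ derivedSeries G k, ∀ b ∈ derivedSeries G k, a * b = b * a := by
    intro a ha b hb
    have : ⁅a, b⁆ ∈ derivedSeries G (k + 1) := by
      rw [derivedSeries_succ]
      exact Subgroup.commutator_mem_commutator ha hb
    rw [← Nat.succ_eq_add_one, ← hk, hn₀, Subgroup.mem_bot,
      commutatorElement_eq_one_iff_commute] at this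
    exact this.eq
  have hVchar : (derivedSeries G k).Characteristic := derivedSeries_characteristic G k
  have hVn : (derivedSeries G k).Normal := inferInstance
  have hφV : ∀ v ∈ derivedSeries G k, φ v ∈ derivedSeries G k := by
    intro v hv
    have := (Subgroup.characteristic_iff_map_eq.mp hVchar) φ
    rw [← this]
    exact Subgroup.mem_map_of_mem _ hv
  have hcard1 : Nat.card (derivedSeries G k) ≠ 1 := fun h => hVne (Subgroup.card_eq_one.mp h)
  obtain ⟨q, hq, hqd⟩ := Nat.exists_prime_and_dvd hcard1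
  have : Fact q.Prime := ⟨hq⟩
  let W : Subgroup G :=
    { carrier := {v | v ∈ derivedSeries G k ∧ v ^ q = 1}
      one_mem' := ⟨Subgroup.one_mem _, one_pow q⟩
      mul_mem' := fun {a b} ha hb => ⟨Subgroup.mul_mem _ ha.1 hb.1, by
        rw [(show Commute a b from hVab a ha.1 b hb.1).mul_pow, ha.2, hb.2, one_mul]⟩
      inv_mem' := fun {a} ha => ⟨Subgroup.inv_mem _ ha.1, by rw [inv_pow, ha.2, inv_one]⟩ }
  have hWmem : ∀ v, v ∈ W ↔ v ∈ derivedSeries G k ∧ v ^ q = 1 := fun v => Iff.rfl
  have hWn : W.Normal := ⟨fun w hw g => (hWmem _).mpr ⟨hVn.conj_mem w ((hWmem w).mp hw).1 g, by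
    rw [conj_pow, ((hWmem w).mp hw).2]; simp⟩⟩
  have hWne : W ≠ ⊥ := by
    obtain ⟨v, hv⟩ := exists_prime_orderOf_dvd_card' q hqd
    intro h
    have hvW : (v : G) ∈ W := (hWmem _).mpr ⟨v.2, by
      have := pow_orderOf_eq_one v
      rw [hv] at this
      exact congrArg Subtype.val this⟩
    rw [h, Subgroup.mem_bot] at hvW
    have : v = 1 := Subtype.ext hvW
    rw [this, orderOf_one] at hv
    exact hq.one_lt.ne hv
  have hWq : IsPGroup q W := by
    intro w
    exact ⟨1, by rw [pow_one]; exact Subtype.ext ((hWmem _).mp w.2).2⟩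
  have hφW : ∀ w ∈ W, φ w ∈ W := fun w hw => (hWmem _).mpr
    ⟨hφV w ((hWmem w).mp hw).1, by rw [← map_pow, ((hWmem w).mp hw).2, map_one]⟩
  have hWab : ∀ a ∈ W, ∀ b ∈ W, a * b = b * a :=
    fun a ha b hb => hVab a ((hWmem a).mp ha).1 b ((hWmem b).mp hb).1
  have hCn : (Subgroup.centralizer (W : Set G)).Normal := inferInstance
  have hidx : ∀ s : ℕ, s.Prime → s ∣ (Subgroup.centralizer (W : Set G)).index → s = q := by
    intro s hs hsd
    by_contra hne
    have : Fact s.Prime := ⟨hs⟩
    obtain ⟨P, hP⟩ := Cfsg.Agent.S0031.result φ (fun g hg => hφ g hg) s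
    have hPφ : ∀ x ∈ (P : Subgroup G), φ x ∈ (P : Subgroup G) := fun x hx => by
      have : φ x ∈ (P : Subgroup G).map (φ : G →* G) := Subgroup.mem_map_of_mem _ hx
      rwa [hP] at this
    have hcop : (Nat.card (P : Subgroup G)).Coprime (Nat.card W) := by
      obtain ⟨a, ha⟩ := IsPGroup.iff_card.mp P.isPGroup'
      obtain ⟨b, hb⟩ := IsPGroup.iff_card.mp hWq
      rw [ha, hb]
      exact Nat.Coprime.pow _ _ ((Nat.coprime_primes hs hq).mpr hne)
    have hPC : (P : Subgroup G) ≤ Subgroup.centralizer (W : Set G) :=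
      fpf_trace_centralizes φ hφ r hr hφr W P hWab hφW hPφ hcop
    have : (Subgroup.centralizer (W : Set G)).index ∣ (P : Subgroup G).index :=
      Subgroup.index_dvd_of_le hPC
    exact P.not_dvd_index (hsd.trans this)
  obtain ⟨R⟩ : Nonempty (Sylow q G) := inferInstance
  have hCR : Subgroup.centralizer (W : Set G) ⊔ (R : Subgroup G) = ⊤ := by
    rw [← Subgroup.index_eq_one]
    by_contra hne
    obtain ⟨s, hs, hsd⟩ := Nat.exists_prime_and_dvd hne
    have h1 : s ∣ (Subgroup.centralizer (W : Set G)).index :=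
      hsd.trans (Subgroup.index_dvd_of_le le_sup_left)
    have h2 : s ∣ (R : Subgroup G).index := hsd.trans (Subgroup.index_dvd_of_le le_sup_right)
    rw [hidx s hs h1] at h2
    exact R.not_dvd_index h2
  have hWR : W ≤ R := normal_pgroup_le_sylow W hWq R
  obtain ⟨w, hw, hw1, hwc⟩ := exists_central_of_le_isPGroup (R : Subgroup G) R.isPGroup' W hWR
    (by rw [Subgroup.normalizer_eq_top_iff.mpr hWn]; exact le_top) hWne
  intro hZ
  apply hw1
  have hwZ : w ∈ Subgroup.center G := by
    rw [Subgroup.mem_center_iff]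
    intro g
    have hg : g ∈ Subgroup.centralizer (W : Set G) ⊔ (R : Subgroup G) := by rw [hCR]; trivial
    obtain ⟨c, hc, x, hx, rfl⟩ := mem_sup_normal_left (N := Subgroup.centralizer (W : Set G))
      (H := (R : Subgroup G)) (by rw [Subgroup.normalizer_eq_top_iff.mpr hCn]; exact le_top) hg
    have h1 : w * c = c * w := (Subgroup.mem_centralizer_iff.mp hc) w hw
    have h2 : x * w = w * x := hwc x hx
    calc c * x * w = c * (x * w) := by group
      _ = c * (w * x) := by rw [h2]
      _ = (c * w) * x := by group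
      _ = (w * c) * x := by rw [h1]
      _ = w * (c * x) := by group
  rw [hZ, Subgroup.mem_bot] at hwZ
  exact hwZ

/-- **Thompson's theorem.**  A finite group with a fixed-point-free automorphism `φ` such that
`φ^r = 1`, `r` prime, is nilpotent. -/
theorem nilpotent_of_fpf_prime_aux (r : ℕ) (hr : r.Prime) :
    ∀ (n : ℕ) (G : Type u) [Group G] [Finite G], Nat.card G = n →
      ∀ φ : G ≃* G, (∀ g, φ g = g → g = 1) → (∀ g, (⇑φ)^[r] g = g) → Group.IsNilpotent G := by
  intro n
  induction n using Nat.strong_induction_on with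
  | _ n ih =>
    intro G _ _ hn φ hφ hφr
    have IHsub : ∀ H : Subgroup G, (∀ h ∈ H, φ h ∈ H) → H ≠ ⊤ → Group.IsNilpotent ↥H := by
      intro H hH hne
      have hlt : Nat.card ↥H < n := hn ▸ Cfsg.Agent.Lib.helper40.card_lt_of_ne_top hne
      exact ih _ hlt ↥H rfl (restrictAut φ H hH)
        (fun h hh => Subtype.ext (hφ h (congrArg Subtype.val hh)))
        (fun h => Subtype.ext (by rw [restrictAut_iterate]; exact hφr h))
    have IHquot : ∀ (N : Subgroup G) [N.Normal], (∀ x ∈ N, φ x ∈ N) → N ≠ ⊥ →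
        Group.IsNilpotent (G ⧸ N) := by
      intro N _ hN hne
      have hlt : Nat.card (G ⧸ N) < n := hn ▸ Cfsg.Agent.Lib.helper40.card_quot_lt hne
      exact ih _ hlt (G ⧸ N) rfl (quotAut φ N hN) (quotAut_fpf φ hφ N hN) (fun y => by
        obtain ⟨x, rfl⟩ := QuotientGroup.mk_surjective y
        rw [quotAut_iterate, hφr])
    rcases subsingleton_or_nontrivial G with hsub | hnt
    · infer_instance
    have hsolv : Group.IsSolvable G := by
      by_cases hodd : ∃ q, q.Prime ∧ q ∣ Nat.card G ∧ q ≠ 2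
      · obtain ⟨q, hq, hqd, hq2⟩ := hodd
        have : Fact q.Prime := ⟨hq⟩
        obtain ⟨P, hP⟩ := Cfsg.Agent.S0031.result φ (fun g hg => hφ g hg) q
        have hPne : (P : Subgroup G) ≠ ⊥ := P.ne_bot_of_dvd_card hqd
        have hZne : Cfsg.Agent.Lib.helper14.zjE 0 (P : Subgroup G) ≠ ⊥ :=
          Cfsg.Agent.Lib.helper14.zjE_zero_ne_bot P.isPGroup' hPne
        have hZφ : (Cfsg.Agent.Lib.helper14.zjE 0 (P : Subgroup G)).map φ.toMonoidHom =
            Cfsg.Agent.Lib.helper14.zjE 0 (P : Subgroup G) := by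
          rw [← Cfsg.Agent.Lib.helper14.zjE_map 0 (P : Subgroup G) φ]
          congr 1
        by_cases hNtop : Subgroup.normalizer
            (Cfsg.Agent.Lib.helper14.zjE 0 (P : Subgroup G) : Set G) = ⊤
        · have hZn : (Cfsg.Agent.Lib.helper14.zjE 0 (P : Subgroup G)).Normal :=
            Subgroup.normalizer_eq_top_iff.mp hNtop
          have hZinv : ∀ x ∈ Cfsg.Agent.Lib.helper14.zjE 0 (P : Subgroup G),
              φ x ∈ Cfsg.Agent.Lib.helper14.zjE 0 (P : Subgroup G) := fun x hx => by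
            rw [← hZφ]
            exact Subgroup.mem_map_of_mem _ hx
          have hquot := IHquot _ hZinv hZne
          have hZab : Group.IsSolvable ↥(Cfsg.Agent.Lib.helper14.zjE 0 (P : Subgroup G)) :=
            Group.isSolvable_of_comm
              (fun a b => Subtype.ext (Cfsg.Agent.Lib.helper14.zjE_commute a.2 b.2))
          have hqs : Group.IsSolvable (G ⧸ Cfsg.Agent.Lib.helper14.zjE 0 (P : Subgroup G)) :=
            IsNilpotent.to_isSolvable
          exact Group.isSolvable_of_ker_le_range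
            (Cfsg.Agent.Lib.helper14.zjE 0 (P : Subgroup G)).subtype
            (QuotientGroup.mk' (Cfsg.Agent.Lib.helper14.zjE 0 (P : Subgroup G)))
            (by rw [QuotientGroup.ker_mk', Subgroup.range_subtype])
        · have hNinv : ∀ x ∈ Subgroup.normalizer
              (Cfsg.Agent.Lib.helper14.zjE 0 (P : Subgroup G) : Set G),
              φ x ∈ Subgroup.normalizer
                (Cfsg.Agent.Lib.helper14.zjE 0 (P : Subgroup G) : Set G) := by
            intro x hx
            have h1 := Subgroup.map_normalizer_eq_of_bijective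
              (Cfsg.Agent.Lib.helper14.zjE 0 (P : Subgroup G)) (f := φ.toMonoidHom) φ.bijective
            rw [hZφ] at h1
            rw [← h1]
            exact Subgroup.mem_map_of_mem _ hx
          have hNnil := IHsub _ hNinv hNtop
          have hNnpc : Cfsg.HasNormalPComplement q
              ↥(Subgroup.normalizer (Cfsg.Agent.Lib.helper14.zjE 0 (P : Subgroup G) : Set G)) :=
            (frobCond_of_isNilpotent q _).hasNormalPComplement
          have hG := glauberman_thompson_zj hq2 P hNnpc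
          have hF := Cfsg.Agent.Lib.helper40.hasNPC_iff_frobCond.mp hG
          obtain ⟨K, hKn, hK⟩ := hF.exists_normal_pprime
          have hKinv : ∀ x ∈ K, φ x ∈ K := fun x hx => by
            rw [hK] at hx ⊢
            rwa [MulEquiv.orderOf_eq]
          have hKne : K ≠ ⊤ := by
            intro h
            obtain ⟨g, hg⟩ := exists_prime_orderOf_dvd_card' q hqd
            have hgK : g ∈ K := by rw [h]; trivial
            rw [hK, hg] at hgK
            exact hq.one_lt.ne' ((Nat.coprime_self q).mp hgK)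
          have hKnil := IHsub K hKinv hKne
          have hKs : Group.IsSolvable ↥K := IsNilpotent.to_isSolvable
          have hquotp : IsPGroup q (G ⧸ K) := by
            intro y
            obtain ⟨g, rfl⟩ := QuotientGroup.mk_surjective y
            obtain ⟨a, m, hm, ham⟩ :=
              Nat.exists_eq_pow_mul_and_not_dvd (orderOf_pos g).ne' q hq.ne_one
            refine ⟨a, ?_⟩
            rw [← QuotientGroup.mk_pow, QuotientGroup.eq_one_iff, hK]
            have h1 : (g ^ q ^ a) ^ m = 1 := by rw [← pow_mul, ← ham, pow_orderOf_eq_one]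
            exact Nat.Coprime.coprime_dvd_left (orderOf_dvd_of_pow_eq_one h1)
              ((Nat.Prime.coprime_iff_not_dvd hq).mpr hm).symm
          have hqn : Group.IsNilpotent (G ⧸ K) := hquotp.isNilpotent
          have hqs : Group.IsSolvable (G ⧸ K) := IsNilpotent.to_isSolvable
          exact Group.isSolvable_of_ker_le_range K.subtype (QuotientGroup.mk' K)
            (by rw [QuotientGroup.ker_mk', Subgroup.range_subtype])
      · have h2 : IsPGroup 2 G := by
          push Not at hodd
          have := Nat.eq_prime_pow_of_unique_prime_dvd (p := 2) (Nat.card_pos (α := G)).ne'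
            (fun {d} hd hdd => hodd d hd hdd)
          exact IsPGroup.of_card this
        have : Fact (Nat.Prime 2) := ⟨Nat.prime_two⟩
        have := h2.isNilpotent
        exact IsNilpotent.to_isSolvable
    have hZ := center_ne_bot_of_solvable_fpf hsolv φ hφ r hr hφr
    have hZinv : ∀ x ∈ Subgroup.center G, φ x ∈ Subgroup.center G := by
      intro x hx
      have := (Subgroup.characteristic_iff_map_eq.mp
        (inferInstance : (Subgroup.center G).Characteristic)) φ
      rw [← this]
      exact Subgroup.mem_map_of_mem _ hx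
    have := IHquot (Subgroup.center G) hZinv hZ
    exact Group.of_quotient_center_nilpotent this

end main

end Cfsg.Agent.Lib.helper1
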