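import Mathlib
import Cfsg.Prelude.Def_OddOrderLocal
import Cfsg.Prelude.Def_OddOrder
import Cfsg.Agent.S1393
import Cfsg.Agent.S1395
import Cfsg.Agent.S1396
import Cfsg.Agent.S1401
import Cfsg.Agent.S1451
import Cfsg.Agent.Lib.helper36.BGU6
import Cfsg.Agent.Lib.helper30.FittingRank
import Cfsg.Agent.Lib.helper26.PRank
import Cfsg.Agent.Lib.helper31.FHT2

set_option autoImplicit false
set_option linter.style.haveILetI false
set_option linter.unusedSectionVars false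

namespace Cfsg.Agent.Lib.helper1

open Cfsg

variable {G : Type*} [Group G]

/-- Normalizers grow in `q`-groups. -/
theorem bg1_exists_normalizing [Finite G] {q : ℕ} [Fact q.Prime] {Q₀ Q : Subgroup G}
    (hQ : IsPGroup q Q) (h : Q₀ < Q) :
    ∃ x ∈ Q, x ∉ Q₀ ∧ x ∈ Subgroup.normalizer (Q₀ : Set G) := by
  haveI : Group.IsNilpotent ↥Q := hQ.isNilpotent
  have hnc : NormalizerCondition ↥Q := Group.normalizerCondition_of_isNilpotent
  have hlt : Q₀.subgroupOf Q < ⊤ := by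
    rw [lt_top_iff_ne_top]
    intro htop
    rw [Subgroup.subgroupOf_eq_top] at htop
    exact h.not_ge htop
  obtain ⟨x, hxN, hxQ₀⟩ := SetLike.exists_of_lt (hnc _ hlt)
  refine ⟨x.1, x.2, fun hx => hxQ₀ (Subgroup.mem_subgroupOf.mpr hx), ?_⟩
  apply Cfsg.Agent.Lib.helper53.mem_normalizer_of_conj_le
  rintro _ ⟨y, hy, rfl⟩
  have hyQ : y ∈ Q := h.le hy
  have h1 : x * ⟨y, hyQ⟩ * x⁻¹ ∈ Q₀.subgroupOf Q :=
    (Subgroup.mem_normalizer_iff.mp hxN ⟨y, hyQ⟩).mp (Subgroup.mem_subgroupOf.mpr hy)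
  simpa [MulAut.conj_apply, Subgroup.mem_subgroupOf] using h1

/-- Core of Step 1 of Bender–Glauberman 9.5: a prime `q ≠ p` and an `X`-invariant `q`-subgroup `Q₀` of the
maximal subgroup `X ≥ A` all of whose `q`-overgroups have their normalizers in `X`. -/
theorem scn3_core [Finite G] (hG : IsMinSimpleOddOrder G) (p : ℕ) [hp : Fact p.Prime] (A : Subgroup G)
    (hAp : IsPGroup p A) (hAc : IsMulCommutative A) (hA3 : ¬ PRankLE p 2 ↥A)
    (hnU : ¬ InUniqueMaximal A) (X : Subgroup G) (hX : IsCoatom X) (hAX : A ≤ X) :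
    ∃ q : ℕ, q.Prime ∧ q ≠ p ∧ ∃ Q₀ : Subgroup G, IsPGroup q Q₀ ∧
      X ≤ Subgroup.normalizer (Q₀ : Set G) ∧
      ∀ Q : Subgroup G, IsPGroup q Q → Q₀ ≤ Q → Subgroup.normalizer (Q : Set G) ≤ X := by
  obtain ⟨hodd, hsimple, hnc, hsolv⟩ := id hG
  haveI := hsimple
  -- `p` divides `|A|`
  obtain ⟨EA, hEAA, hEAe, hEAc⟩ := (Cfsg.Agent.Lib.helper28.not_pRankLE_subgroup_iff p 2 A).mp hA3
  have hA1 : A ≠ ⊥ := by
    rintro rfl
    have h1 : EA = ⊥ := le_bot_iff.mp hEAA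
    rw [h1, Subgroup.card_bot] at hEAc
    have : 0 < p ^ 2 := pow_pos hp.out.pos 2
    omega
  have hpA : p ∣ Nat.card A := by
    obtain ⟨n, hn⟩ := IsPGroup.iff_card.mp hAp
    rcases Nat.eq_zero_or_pos n with h0 | h0
    · rw [h0, pow_zero] at hn
      exact absurd (Subgroup.card_eq_one.mp hn) hA1
    · rw [hn]; exact dvd_pow_self p (by omega)
  have hpG : p ∣ Nat.card G := hpA.trans (Subgroup.card_subgroup_dvd_card A)
  by_cases hr : ∃ q : ℕ, q.Prime ∧ ¬ PRankLE q 2 ↥(fittingOf X)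
  · -- Case 1: `F(X)` has rank at least 3 for the prime `q`
    obtain ⟨q, hq, hF⟩ := hr
    haveI : Fact q.Prime := ⟨hq⟩
    have hqp : q ≠ p := by
      intro hqp
      subst hqp
      exact hnU (Cfsg.Agent.S1401.result hG X hX q hF A hAp hAc hA3)
    obtain ⟨E₀, hE₀F, hE₀e, hE₀c⟩ := (Cfsg.Agent.Lib.helper28.not_pRankLE_subgroup_iff q 2 _).mp hF
    have hE₀U : InUniqueMaximal E₀ :=
      Cfsg.Agent.S1401.result hG X hX q hF E₀ (Cfsg.Agent.Lib.helper36.bgu_isPGroup_of_elem hE₀e) hE₀e.1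
        ((Cfsg.Agent.Lib.helper28.not_pRankLE_subgroup_iff q 2 E₀).mpr ⟨E₀, le_rfl, hE₀e, hE₀c⟩)
    have hFX : fittingOf X ≤ X := by
      rintro _ ⟨z, -, rfl⟩
      exact z.2
    have huniq : ∀ M' : Subgroup G, IsCoatom M' → E₀ ≤ M' → M' = X := by
      obtain ⟨M, -, hu⟩ := hE₀U
      intro M' hM' hEM'
      rw [hu M' ⟨hM', hEM'⟩, hu X ⟨hX, hE₀F.trans hFX⟩]
    have hE₀1 : E₀ ≠ ⊥ := by
      rintro rfl
      rw [Subgroup.card_bot] at hE₀c
      have : 0 < q ^ 2 := pow_pos hq.pos 2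
      omega
    refine ⟨q, hq, hqp, (Cfsg.pCore q ↥X).map X.subtype,
      Cfsg.Agent.Lib.helper27.map_pCore_isPGroup q X, ?_, ?_⟩
    · haveI := Cfsg.Agent.Lib.helper39.pCore_normal q ↥X
      exact Cfsg.Agent.Lib.helper36.bgu_le_normalizer_map_of_normal (Cfsg.pCore q ↥X)
    · intro Q hQq hQ₀Q
      have hE₀Q₀ : E₀ ≤ (Cfsg.pCore q ↥X).map X.subtype := by
        intro x hx
        obtain ⟨z, hz, rfl⟩ := hE₀F hx
        refine ⟨z, ?_, rfl⟩
        have hzq : z ^ q = 1 := by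
          apply Subtype.ext
          rw [Subgroup.coe_pow]
          exact hE₀e.2 _ hx
        have hdvd : orderOf z ∣ q := orderOf_dvd_of_pow_eq_one hzq
        rcases (Nat.dvd_prime hq).mp hdvd with h1 | h1
        · exact Cfsg.Agent.Lib.helper30.mem_pCore_of_mem_fittingSubgroup q z hz 0 (by rw [h1, pow_zero])
        · exact Cfsg.Agent.Lib.helper30.mem_pCore_of_mem_fittingSubgroup q z hz 1 (by rw [h1, pow_one])
      have hE₀Q : E₀ ≤ Q := hE₀Q₀.trans hQ₀Q
      have hQ1 : Q ≠ ⊥ := by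
        rintro rfl
        exact hE₀1 (le_bot_iff.mp hE₀Q)
      have hQtop : Q ≠ ⊤ := Cfsg.Agent.Lib.helper31.pgroup_ne_top hG hQq
      have hne : Subgroup.normalizer (Q : Set G) ≠ ⊤ :=
        Cfsg.Agent.Lib.helper29.normalizer_ne_top_of_simple hQ1 hQtop
      exact (Cfsg.Agent.Lib.helper36.bgu_of_le huniq (hE₀Q.trans Subgroup.le_normalizer) hne).1
  · -- Case 2: `F(X)` has rank at most 2
    push Not at hr
    haveI : Group.IsSolvable ↥X := hsolv X hX.1
    have hoddX : Odd (Nat.card X) := Odd.of_dvd_nat hodd (Subgroup.card_subgroup_dvd_card X)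
    have hrX : RankLE 2 (fittingSubgroup ↥X) := by
      intro q hq
      exact (Cfsg.Agent.Lib.helper26.prankLE_map_iff X.subtype X.subtype_injective
        (fittingSubgroup ↥X)).mp (hr q hq)
    obtain ⟨-, -, hHall⟩ := Cfsg.Agent.S1451.result hoddX (Or.inr hrX)
    -- the largest prime divisor of `|X|`
    have hXcard : Nat.card X ≠ 1 := by
      intro h1
      have hX1 : X = ⊥ := Subgroup.card_eq_one.mp h1
      rw [hX1] at hAX
      exact hA1 (le_bot_iff.mp hAX)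
    have hne : (Nat.card X).primeFactors.Nonempty := by
      rw [Nat.nonempty_primeFactors]
      have : 0 < Nat.card X := Nat.card_pos
      omega
    set q := (Nat.card X).primeFactors.max' hne with hqdef
    have hqmem : q ∈ (Nat.card X).primeFactors := Finset.max'_mem _ hne
    have hq : q.Prime := Nat.prime_of_mem_primeFactors hqmem
    have hqX : q ∣ Nat.card X := Nat.dvd_of_mem_primeFactors hqmem
    have hqmax : ∀ r : ℕ, r.Prime → r ∣ Nat.card X → r ≤ q := by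
      intro r hr1 hr2
      exact Finset.le_max' _ r (Nat.mem_primeFactors.mpr ⟨hr1, hr2, Nat.card_pos.ne'⟩)
    haveI : Fact q.Prime := ⟨hq⟩
    obtain ⟨N, hNchar, hNπ, hNidx⟩ := hHall (q - 1)
    haveI : N.Normal := Subgroup.normal_of_characteristic N
    have hNq : IsPGroup q N := by
      have h1 : ∀ {d : ℕ}, d.Prime → d ∣ Nat.card N → d = q := by
        intro d hd hdN
        have h2 : q - 1 < d := (hNπ d hd hdN).2
        have h3 : d ≤ q := hqmax d hd (hdN.trans (Subgroup.card_subgroup_dvd_card N))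
        omega
      have h4 := Nat.eq_prime_pow_of_unique_prime_dvd Nat.card_pos.ne' h1
      exact IsPGroup.of_card h4
    have hNi : ¬ q ∣ N.index := hNidx q hq ⟨hq, by have := hq.pos; omega⟩
    have hqN : q ∣ Nat.card N := by
      have h1 : Nat.card N * N.index = Nat.card X := Subgroup.card_mul_index N
      rw [← h1] at hqX
      exact (hq.dvd_mul.mp hqX).resolve_right hNi
    let S : Sylow q ↥X := hNq.toSylow hNi
    have hSN : (S : Subgroup ↥X) = N := rfl
    have hQ₀q : IsPGroup q ↥(N.map X.subtype) := hNq.map X.subtype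
    have hXQ₀ : X ≤ Subgroup.normalizer ((N.map X.subtype : Subgroup G) : Set G) :=
      Cfsg.Agent.Lib.helper36.bgu_le_normalizer_map_of_normal N
    have hqp : q ≠ p := by
      intro hqp
      apply hA3
      have hAN : A.subgroupOf X ≤ N := by
        have hAq : IsPGroup q ↥(A.subgroupOf X) := by
          rw [hqp]
          exact hAp.comap_subtype
        obtain ⟨S', hS'⟩ := hAq.exists_le_sylow
        haveI : Unique (Sylow q ↥X) := Sylow.unique_of_normal S (by rw [hSN]; infer_instance)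
        have : S' = S := Subsingleton.elim _ _
        rw [this] at hS'
        exact hS'
      have hAF : A ≤ fittingOf X := by
        intro a ha
        have haX : a ∈ X := hAX ha
        have h1 : (⟨a, haX⟩ : ↥X) ∈ N := hAN (Subgroup.mem_subgroupOf.mpr ha)
        have h2 : N ≤ fittingSubgroup ↥X :=
          Cfsg.Agent.Lib.helper28.le_fittingSubgroup inferInstance hNq.isNilpotent
        exact ⟨⟨a, haX⟩, h2 h1, rfl⟩
      exact Cfsg.Agent.Lib.helper30.prankLE_of_le p 2 hAF (hr p hp.out)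
    have hQ₀1 : N.map X.subtype ≠ ⊥ := by
      intro h
      have h1 : Nat.card ↥(N.map X.subtype) = Nat.card N :=
        Subgroup.card_map_of_injective X.subtype_injective
      rw [h, Subgroup.card_bot] at h1
      rw [← h1] at hqN
      exact hq.one_lt.ne' (Nat.dvd_one.mp hqN)
    have hQ₀top : N.map X.subtype ≠ ⊤ := Cfsg.Agent.Lib.helper31.pgroup_ne_top hG hQ₀q
    have hNX : Subgroup.normalizer ((N.map X.subtype : Subgroup G) : Set G) = X := by
      have hne := Cfsg.Agent.Lib.helper29.normalizer_ne_top_of_simple hQ₀1 hQ₀top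
      by_contra hcon
      exact hne (hX.2 _ (lt_of_le_of_ne hXQ₀ (Ne.symm hcon)))
    refine ⟨q, hq, hqp, N.map X.subtype, hQ₀q, hXQ₀, ?_⟩
    intro Q hQq hQ₀Q
    have hQeq : Q = N.map X.subtype := by
      by_contra hcon
      have hlt : N.map X.subtype < Q := lt_of_le_of_ne hQ₀Q (Ne.symm hcon)
      obtain ⟨x, hxQ, hxQ₀, hxN⟩ := bg1_exists_normalizing hQq hlt
      rw [hNX] at hxN
      have hRq : IsPGroup q ↥((Q ⊓ X).subgroupOf X) :=
        (hQq.to_le inf_le_left).comap_subtype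
      have hle : (S : Subgroup ↥X) ≤ (Q ⊓ X).subgroupOf X := by
        intro z hz
        rw [Subgroup.mem_subgroupOf]
        exact ⟨hQ₀Q ⟨z, hz, rfl⟩, z.2⟩
      have heq : (Q ⊓ X).subgroupOf X = (S : Subgroup ↥X) := S.is_maximal' hRq hle
      have hx1 : (⟨x, hxN⟩ : ↥X) ∈ (Q ⊓ X).subgroupOf X := by
        rw [Subgroup.mem_subgroupOf]
        exact ⟨hxQ, hxN⟩
      rw [heq] at hx1
      exact hxQ₀ ⟨⟨x, hxN⟩, hx1, rfl⟩
    rw [hQeq, hNX]

/-- Step 1 of Bender–Glauberman 9.5: if `A ∈ SCN₃(P)` is not a uniqueness subgroup, then every maximal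
subgroup containing `C_G(A)` contains `N_G(P)`. -/
theorem scn3_normalizer_le [Finite G] (hG : Cfsg.IsMinSimpleOddOrder G) (p : ℕ) [hp : Fact p.Prime]
    (P : Sylow p G) (A : Subgroup G) (hA : Cfsg.IsSCN (P : Subgroup G) A)
    (hA3 : ¬ Cfsg.PRankLE p 2 ↥A) (hnU : ¬ Cfsg.InUniqueMaximal A) (X : Subgroup G)
    (hX : IsCoatom X) (hCX : Subgroup.centralizer (A : Set G) ≤ X) :
    Subgroup.normalizer ((P : Subgroup G) : Set G) ≤ X := by
  obtain ⟨hodd, hsimple, hnc, hsolv⟩ := id hG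
  haveI := hsimple
  obtain ⟨hAP, hPN, hPC⟩ := id hA
  have hAC : A ≤ Subgroup.centralizer (A : Set G) := by
    rw [← hPC]; exact inf_le_right.trans (by rw [hPC])
  have hAc : IsMulCommutative A :=
    ⟨⟨fun a b => Subtype.ext ((Subgroup.mem_centralizer_iff.mp (hAC b.2) a.1 a.2))⟩⟩
  have hAp : IsPGroup p A := P.isPGroup'.to_le hAP
  have hAX : A ≤ X := hAC.trans hCX
  obtain ⟨q, hq, hqp, Q₀, hQ₀q, hXQ₀, hall⟩ := scn3_core hG p A hAp hAc hA3 hnU X hX hAX
  -- `p` divides `|A|`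
  obtain ⟨EA, hEAA, hEAe, hEAc⟩ := (Cfsg.Agent.Lib.helper28.not_pRankLE_subgroup_iff p 2 A).mp hA3
  have hA1 : A ≠ ⊥ := by
    rintro rfl
    have h1 : EA = ⊥ := le_bot_iff.mp hEAA
    rw [h1, Subgroup.card_bot] at hEAc
    have : 0 < p ^ 2 := pow_pos hp.out.pos 2
    omega
  have hpA : p ∣ Nat.card A := by
    obtain ⟨n, hn⟩ := IsPGroup.iff_card.mp hAp
    rcases Nat.eq_zero_or_pos n with h0 | h0
    · rw [h0, pow_zero] at hn
      exact absurd (Subgroup.card_eq_one.mp hn) hA1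
    · rw [hn]; exact dvd_pow_self p (by omega)
  have hpG : p ∣ Nat.card G := hpA.trans (Subgroup.card_subgroup_dvd_card A)
  have hA1' : ¬ PRankLE p 1 ↥A := by
    intro h
    apply hA3
    intro B hBc hBe
    exact (h B hBc hBe).trans (Nat.pow_le_pow_right hp.out.pos (by norm_num))
  have hTH : TransitivityHypothesis A :=
    Cfsg.Agent.S1396.result hG p hpG A hAp hAc (Or.inr ⟨P, hA, hA1'⟩)
  have hZ : ¬ RankLE 2 ↥(A ⊓ Subgroup.centralizer (A : Set G)) := by
    intro h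
    have e : A ⊓ Subgroup.centralizer (A : Set G) = A := inf_eq_left.mpr hAC
    rw [e] at h
    exact hA3 (h p hp.out)
  have hqA : ¬ q ∣ Nat.card A :=
    Cfsg.Agent.Lib.helper36.bgu_not_dvd_card_of_isPGroup hq hp.out (Ne.symm hqp) hAp
  have htr := Cfsg.Agent.S1393.result hG A hTH hZ q hq hqA
  have hPtop : (P : Subgroup G) ≠ ⊤ := Cfsg.Agent.Lib.helper31.pgroup_ne_top hG P.isPGroup'
  have hPπ : ∀ r : ℕ, r.Prime → r ∣ Nat.card (P : Subgroup G) → r ∣ Nat.card A := by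
    intro r hr hrP
    obtain ⟨n, hn⟩ := IsPGroup.iff_card.mp P.isPGroup'
    rw [hn] at hrP
    have : r = p := (Nat.prime_dvd_prime_iff_eq hr hp.out).mp (hr.dvd_of_dvd_pow hrP)
    rw [this]; exact hpA
  have hsn : (A.subgroupOf (P : Subgroup G)).IsSubnormal :=
    ((Subgroup.normal_subgroupOf_iff_le_normalizer hAP).mpr hPN).isSubnormal
  obtain ⟨-, -, hsub, hd⟩ :=
    Cfsg.Agent.S1395.result hG A hTH q hq hqA (P : Subgroup G) hPtop hPπ hAP hsn htr
  obtain ⟨Q₁, hQ₁max, hQ₀Q₁⟩ := Cfsg.Agent.Lib.helper29.exists_maxInv_ge (A := A) (π := {q})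
    ((Cfsg.Agent.Lib.helper29.mem_invSubgroups_top hq).mpr ⟨hQ₀q, hAX.trans hXQ₀⟩)
  obtain ⟨Q, hQmax, -⟩ := Cfsg.Agent.Lib.helper29.exists_maxInv_ge
    (Cfsg.Agent.Lib.helper29.bot_mem_invSubgroups (P : Subgroup G) {q})
  have hQA : Q ∈ maxInvSubgroups ⊤ A {q} := hsub hQmax
  obtain ⟨k, hk, hkQ⟩ := htr Q₁ hQ₁max Q hQA
  have hkX : k ∈ X := hCX (Cfsg.Agent.Lib.helper29.piCoreOf_le _ _ hk)
  have hQ₀Q : Q₀ ≤ Q := by
    intro x hx
    have h1 : k⁻¹ * x * k⁻¹⁻¹ ∈ Q₀ :=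
      (Subgroup.mem_normalizer_iff.mp (hXQ₀ (X.inv_mem hkX)) x).mp hx
    rw [hkQ]
    refine ⟨k⁻¹ * x * k⁻¹⁻¹, hQ₀Q₁ h1, ?_⟩
    simp only [MulEquiv.coe_toMonoidHom, MulAut.conj_apply]
    group
  have hQq : IsPGroup q Q := ((Cfsg.Agent.Lib.helper29.mem_invSubgroups_top hq).mp hQA.1).1
  have hNQ : Subgroup.normalizer (Q : Set G) ≤ X := hall Q hQq hQ₀Q
  rw [(hd Q hQmax).2]
  refine sup_le ?_ (inf_le_right.trans hNQ)
  refine (Cfsg.Agent.Lib.helper29.piCoreOf_le _ _).trans (le_trans ?_ hCX)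
  exact Subgroup.centralizer_le (by exact_mod_cast hAP)

end Cfsg.Agent.Lib.helper1
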