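import Mathlib
import Cfsg.Prelude.Def_OddOrderLocal
import Cfsg.Agent.Lib.helper1.BG1438A
import Cfsg.Agent.Lib.helper8.BG1355
import Cfsg.Agent.S1374
import Cfsg.Agent.S1350

/-!
# S1438, second clause: `N_M(H)` controls `G`-fusion in a Hall subgroup `H` of `M_σ`

The frozen statements S1351, S1352 and S1437 enter as explicit hypotheses.
-/

set_option autoImplicit false
set_option linter.unusedVariables false

namespace Cfsg.Agent.Lib.helper1.BG1438

open Cfsg Subgroup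

universe u
variable {G : Type u} [Group G]

/-- The frozen statement S1351 as a hypothesis. -/
def H1351 (G : Type*) [Group G] : Prop :=
  ∀ (M : Subgroup G) (hM : IsCoatom M),
    (∃ K : Subgroup G, Cfsg.IsPiHallOf (Cfsg.kappa M) K M) ∧
      ∀ K : Subgroup G, Cfsg.IsPiHallOf (Cfsg.kappa M) K M → IsCyclic K

/-- The frozen statement S1352 as a hypothesis. -/
def H1352 (G : Type*) [Group G] : Prop :=
  ∀ (M : Subgroup G) (hM : IsCoatom M) (K : Subgroup G)
    (hKc : IsCyclic K) (hK : Cfsg.IsPiHallOf (Cfsg.kappa M) K M),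
    (∃ U : Subgroup G, Cfsg.IsSigmaDecomposition M K U) ∧
      ∀ U : Subgroup G, Cfsg.IsSigmaDecomposition M K U → M ≤ Subgroup.normalizer ((U ⊔ Cfsg.sigmaCore M : Subgroup G) : Set G)

/-- The frozen statement S1437 as a hypothesis. -/
def H1437 (G : Type*) [Group G] : Prop :=
  ∀ (M : Subgroup G) (hM : IsCoatom M) (K U : Subgroup G) (hKU : Cfsg.IsSigmaDecomposition M K U) (hne : Cfsg.fittingHallOf M ≠ Cfsg.sigmaCore M),
    U = ⊥ ∧ Cfsg.sigmaCore M = ⁅M, M⁆ ∧ (Nat.card K).Prime ∧ (Nat.card ↥(Cfsg.sigmaCore M ⊓ Subgroup.centralizer (K : Set G))).Prime ∧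
      Nat.card ↥(Cfsg.sigmaCore M ⊓ Subgroup.centralizer (K : Set G)) ∣ Nat.card (Cfsg.fittingHallOf M) ∧ Nat.card ↥(Cfsg.sigmaCore M ⊓ Subgroup.centralizer (K : Set G)) ∈ Cfsg.beta M ∧
      ∃ Q : Subgroup G, Q ≤ Cfsg.fittingHallOf M ∧ M ≤ Subgroup.normalizer (Q : Set G) ∧ IsPGroup (Nat.card ↥(Cfsg.sigmaCore M ⊓ Subgroup.centralizer (K : Set G))) Q ∧
        ¬ Nat.card ↥(Cfsg.sigmaCore M ⊓ Subgroup.centralizer (K : Set G)) ∣ Q.relIndex (Cfsg.sigmaCore M) ∧
        ∀ D : Subgroup G, Cfsg.IsComplIn Q D (Cfsg.sigmaCore M) →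
          Group.IsNilpotent D ∧ M ≤ Subgroup.normalizer ((Q ⊓ Subgroup.centralizer (D : Set G) : Subgroup G) : Set G) ∧
          Q ⊓ Subgroup.centralizer (D : Set G) < Q ∧
          Nat.card Q = Nat.card ↥(Q ⊓ Subgroup.centralizer (D : Set G)) * Nat.card ↥(Cfsg.sigmaCore M ⊓ Subgroup.centralizer (K : Set G)) ^ Nat.card K ∧
          (∀ a ∈ Q, ∀ b ∈ Q, a ^ Nat.card ↥(Cfsg.sigmaCore M ⊓ Subgroup.centralizer (K : Set G)) ∈ Q ⊓ Subgroup.centralizer (D : Set G) ∧
            a * b * a⁻¹ * b⁻¹ ∈ Q ⊓ Subgroup.centralizer (D : Set G)) ∧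
          ∀ N : Subgroup G, Q ⊓ Subgroup.centralizer (D : Set G) < N → N < Q → ¬ M ≤ Subgroup.normalizer (N : Set G)

/-- `M_F` is nilpotent. -/
theorem fittingHallOf_isNilpotent [Finite G] (M : Subgroup G) :
    Group.IsNilpotent (fittingHallOf M) := by
  have h1 : fittingHall ↥M ≤ fittingSubgroup ↥M := by
    unfold fittingHall fittingSubgroup
    exact sSup_le_sSup (fun N hN => ⟨hN.1, hN.2.1⟩)
  have h0 : Group.IsNilpotent (fittingSubgroup ↥M) :=
    Cfsg.Agent.Lib.helper65.fittingSubgroup_isNilpotent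
  have h2 : Group.IsNilpotent (fittingHall ↥M) :=
    Cfsg.Agent.Lib.helper8.bg_isNilpotent_of_injective (Subgroup.inclusion h1)
      (Subgroup.inclusion_injective h1) h0
  unfold fittingHallOf
  exact Cfsg.Agent.Lib.helper8.bg_isNilpotent_of_injective
    ((fittingHall ↥M).equivMapOfInjective M.subtype M.subtype_injective).symm.toMonoidHom
    (MulEquiv.injective _) h2

/-- From the frozen S1351, S1352, S1437: if `M_F ≠ M_σ` then `M_σ` has a Sylow `q`-subgroup normal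
in `M` all of whose complements in `M_σ` are nilpotent. -/
theorem exists_normal_sylow [Finite G] (hG : IsMinSimpleOddOrder G) (h51 : H1351 G) (h52 : H1352 G)
    (h37 : H1437 G) (M : Subgroup G) (hM : IsCoatom M) (hne : fittingHallOf M ≠ sigmaCore M) :
    ∃ (q : ℕ) (Q : Subgroup G), q.Prime ∧ Q ≤ sigmaCore M ∧ M ≤ normalizer (Q : Set G) ∧
      IsPGroup q Q ∧ ¬ q ∣ Q.relIndex (sigmaCore M) ∧
      ∀ D : Subgroup G, IsComplIn Q D (sigmaCore M) → Group.IsNilpotent D := by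
  obtain ⟨⟨K, hK⟩, hcyc⟩ := h51 M hM
  obtain ⟨⟨U, hKU⟩, -⟩ := h52 M hM K (hcyc K hK) hK
  obtain ⟨-, -, -, hq, -, -, Q, hQF, hMQ, hQp, hQs, hD⟩ := h37 M hM K U hKU hne
  exact ⟨_, Q, hq, hQF.trans (Cfsg.Agent.Lib.helper8.BG1355.fittingHallOf_le_sigmaCore hG M hM),
    hMQ, hQp, hQs, fun D hDc => (hD D hDc).1⟩

/-- **S1438, second clause** (modulo the frozen S1351, S1352, S1437). -/
theorem fusion_1438 [Finite G] (hG : IsMinSimpleOddOrder G) (h51 : H1351 G) (h52 : H1352 G)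
    (h37 : H1437 G) (M : Subgroup G) (hM : IsCoatom M) (H : Subgroup G) (hH : H ≤ sigmaCore M)
    (hHall : (Nat.card H).Coprime (H.relIndex (sigmaCore M))) :
    ∀ x ∈ H, ∀ g : G, g * x * g⁻¹ ∈ H →
      ∃ n ∈ M ⊓ normalizer (H : Set G), n * x * n⁻¹ = g * x * g⁻¹ := by
  intro x hx g hg
  by_cases hx1 : x = 1
  · subst hx1
    exact ⟨1, Subgroup.one_mem _, by simp⟩
  obtain ⟨hodd, hsimple, hna, hsolv⟩ := id hG
  have := hsimple
  have hMs : sigmaCore M ≤ M := Cfsg.Agent.Lib.helper71.BGA.sigmaCore_le M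
  have hMbot : M ≠ ⊥ := fun h =>
    Cfsg.Agent.Lib.helper54.sigmaCore_ne_bot hG M hM (eq_bot_iff.mpr (hMs.trans (le_of_eq h)))
  have hNM : normalizer (M : Set G) = M :=
    Cfsg.Agent.Lib.helper71.BGA.normalizer_eq_of_isCoatom hM hMbot
  -- Step 1: `M` controls fusion
  obtain ⟨-, R, -, hRc, hR⟩ := Cfsg.Agent.S1374.result hG M hM x (hH hx) hx1
  have hxg : x ∈ M.map (MulAut.conj g⁻¹).toMonoidHom := by
    rw [Cfsg.Agent.Lib.helper13.sf_mem_map_conj_iff]
    simpa using hMs (hH hg)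
  obtain ⟨r, ⟨hrR, hrM⟩, -⟩ := hR g⁻¹ hxg
  have h1 : g⁻¹⁻¹ * r ∈ normalizer (M : Set G) :=
    Cfsg.Agent.Lib.helper26.BG1374.inv_mul_mem_normalizer_of_map_conj_eq hrM
  rw [hNM, inv_inv] at h1
  have hrx : r * x = x * r :=
    (Subgroup.mem_centralizer_iff.mp (hRc.2.1 hrR) x (Set.mem_singleton x)).symm
  have hmx : (g * r) * x * (g * r)⁻¹ = g * x * g⁻¹ := by
    have h2 : (g * r) * x * (g * r)⁻¹ = g * (r * x * r⁻¹) * g⁻¹ := by group
    rw [h2, hrx]; group
  have hy : (g * r) * x * (g * r)⁻¹ ∈ H := by rw [hmx]; exact hg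
  rw [← hmx]
  have hMV : M ≤ normalizer (sigmaCore M : Set G) :=
    Cfsg.Agent.Lib.helper71.BGA.le_normalizer_sigmaCore M
  by_cases hnil : Group.IsNilpotent (sigmaCore M)
  · have hmH := hall_nilpotent_conj hnil hH hHall (m := g * r)
      (fun v hv => (Subgroup.mem_normalizer_iff.mp (hMV h1) v).mp hv)
    exact ⟨g * r, ⟨h1, mem_normalizer_of_conj_mem hmH⟩, rfl⟩
  · have hne : fittingHallOf M ≠ sigmaCore M := by
      intro h
      apply hnil
      rw [← h]
      exact fittingHallOf_isNilpotent M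
    obtain ⟨q, Q, hq, hQV, hMQ, hQp, hQs, hD⟩ := exists_normal_sylow hG h51 h52 h37 M hM hne
    have : Fact q.Prime := ⟨hq⟩
    have hMsolv : Group.IsSolvable M := hsolv M hM.1
    have hVsolv : Group.IsSolvable (sigmaCore M) :=
      Group.isSolvable_of_isSolvable_injective (f := Subgroup.inclusion hMs)
        (Subgroup.inclusion_injective hMs)
    exact fusion_normal_sylow hVsolv hMs hMV hMQ hQV hQp hQs hD hH hHall hx h1 hy

end Cfsg.Agent.Lib.helper1.BG1438
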