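import Mathlib
import Cfsg.Prelude.Def_OddOrderLocal
import Cfsg.Agent.Lib.helper1.BG1438B
import Cfsg.Agent.Lib.helper29.Rank2
import Cfsg.Agent.S1430
import Cfsg.Agent.S1421
import Cfsg.Agent.S1417

/-!
# S1438, first clause: `C_M(H) = C_{M_σ}(H) X` with `X` a cyclic `τ₂(M)`-group

`H` is a nontrivial Hall subgroup of `M_σ`.  The frozen statements S1351, S1431 and S1432 enter as
explicit hypotheses.
-/

set_option autoImplicit false
set_option linter.unusedVariables false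

namespace Cfsg.Agent.Lib.helper1.BG1438

open Cfsg Subgroup Cfsg.Agent.Lib.helper69
open scoped Pointwise

universe u
variable {G : Type u} [Group G]

/-- The frozen statement S1431 as a hypothesis. -/
def H1431 (G : Type*) [Group G] : Prop :=
  ∀ (M : Subgroup G) (hM : IsCoatom M) (K : Subgroup G) (hK : Cfsg.IsPiHallOf (Cfsg.kappa M) K M) (hK1 : K ≠ ⊥),
    (∀ g : G, g ∉ M → (Cfsg.sigmaCore M ⊓ Subgroup.centralizer (K : Set G)) ⊓ M.map (MulAut.conj g).toMonoidHom = ⊥) ∧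
      (∀ g ∈ M, g ∉ K ⊔ (Cfsg.sigmaCore M ⊓ Subgroup.centralizer (K : Set G)) → K ⊓ K.map (MulAut.conj g).toMonoidHom = ⊥) ∧
      (∀ (p : ℕ), p.Prime → p ∣ Nat.card ↥(Cfsg.sigmaCore M ⊓ Subgroup.centralizer (K : Set G)) → ∀ S : Sylow p ↥(Cfsg.sigmaCore M),
        Cfsg.InUniqueMaximal ((S : Subgroup ↥(Cfsg.sigmaCore M)).map (Cfsg.sigmaCore M).subtype) ∧
        (S : Subgroup ↥(Cfsg.sigmaCore M)).map (Cfsg.sigmaCore M).subtype ≤ M ∧
        ¬ (S : Subgroup ↥(Cfsg.sigmaCore M)).map (Cfsg.sigmaCore M).subtype ≤ (Cfsg.sigmaCore M ⊓ Subgroup.centralizer (K : Set G))) ∧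
      ∀ Y : Subgroup G, (∀ p : ℕ, p.Prime → p ∣ Nat.card Y → p ∈ Cfsg.sigma M) → Y ⊓ (Cfsg.sigmaCore M ⊓ Subgroup.centralizer (K : Set G)) ≠ ⊥ → Y ≤ Cfsg.sigmaCore M

/-- The frozen statement S1432 as a hypothesis. -/
def H1432 (G : Type*) [Group G] : Prop :=
  ∀ (M : Subgroup G) (hM : IsCoatom M) (x : G) (hx : x ∈ Cfsg.sigmaCore M) (hx1 : x ≠ 1) (x' : G) (hx' : x' ∈ M ⊓ Subgroup.centralizer ({x} : Set G)) (hx'1 : x' ≠ 1)
    (hσ : ∀ p : ℕ, p.Prime → p ∣ orderOf x' → p ∉ Cfsg.sigma M),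
    ((∀ p : ℕ, p.Prime → p ∣ orderOf x' → p ∈ Cfsg.kappa M) ∧ Subgroup.centralizer ({x} : Set G) ≤ M) ∨
      ((∀ p : ℕ, p.Prime → p ∣ orderOf x' → p ∈ Cfsg.tau2 M) ∧
        (∃ L : Subgroup G, IsCoatom L ∧ ∀ p : ℕ, p.Prime → p ∣ orderOf x' → p ∈ Cfsg.sigma L) ∧
        (Subgroup.centralizer ({x'} : Set G) ≤ M ∧ ∀ L : Subgroup G, IsCoatom L → Subgroup.centralizer ({x'} : Set G) ≤ L → L = M))

/-- For `N` normal in `M` and `C ≤ M`, `|C : N ∩ C|` divides `|M : N|`. -/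
theorem relIndex_inf_dvd {N C M : Subgroup G} (hMN : M ≤ normalizer (N : Set G)) (hNM : N ≤ M)
    (hCM : C ≤ M) : (N ⊓ C).relIndex C ∣ N.relIndex M := by
  have : (N.subgroupOf M).Normal := (Subgroup.normal_subgroupOf_iff_le_normalizer hNM).mpr hMN
  rw [Subgroup.inf_relIndex_right, ← Subgroup.relIndex_subgroupOf hCM]
  exact Subgroup.relIndex_dvd_index_of_normal _ _

/-- Conjugates (inside `M`) of Hall subgroups of `M` are Hall subgroups. -/
theorem isPiHallOf_map_conj [Finite G] {π : Set ℕ} {K M : Subgroup G} (hK : IsPiHallOf π K M)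
    {g : G} (hg : g ∈ M) : IsPiHallOf π (K.map (MulAut.conj g).toMonoidHom) M := by
  have hle : K.map (MulAut.conj g).toMonoidHom ≤ M := by
    rintro _ ⟨k, hk, rfl⟩
    exact M.mul_mem (M.mul_mem hg (hK.1 hk)) (M.inv_mem hg)
  have hcard : Nat.card (K.map (MulAut.conj g).toMonoidHom) = Nat.card K :=
    Subgroup.card_map_of_injective (MulAut.conj g).injective
  refine ⟨hle, ?_, ?_⟩
  · intro p hp hpd; rw [hcard] at hpd; exact hK.2.1 p hp hpd
  · intro p hp hpπ hpd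
    apply hK.2.2 p hp hpπ
    have e1 := bgk_card_mul_relIndex hle
    have e2 := bgk_card_mul_relIndex hK.1
    rw [hcard, ← e2] at e1
    have e3 := Nat.eq_of_mul_eq_mul_left Nat.card_pos e1
    rwa [← e3]

/-- A `π`-subgroup of the solvable group `M` is conjugate into any Hall `π`-subgroup. -/
theorem exists_conj_le_hall [Finite G] {π : Set ℕ} {U M X : Subgroup G}
    (hMs : Group.IsSolvable M) (hU : IsPiHallOf π U M) (hXM : X ≤ M)
    (hX : ∀ p : ℕ, p.Prime → p ∣ Nat.card X → p ∈ π) :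
    ∃ g ∈ M, ∀ x ∈ X, g * x * g⁻¹ ∈ U := by
  have := hMs
  have hcardM : Nat.card M = Nat.card U * U.relIndex M := (bgk_card_mul_relIndex hU.1).symm
  obtain ⟨hconj, hcont⟩ :=
    Cfsg.Agent.Lib.helper1.hallProp ↥M (Nat.card U) (U.relIndex M) hcardM (bgk_hall_coprime hU)
  have hXc : Nat.card (X.subgroupOf M) = Nat.card X :=
    Nat.card_congr (Subgroup.subgroupOfEquivOfLe hXM).toEquiv
  have hUc : Nat.card (U.subgroupOf M) = Nat.card U :=
    Nat.card_congr (Subgroup.subgroupOfEquivOfLe hU.1).toEquiv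
  obtain ⟨U', hU'c, hXU'⟩ := hcont (X.subgroupOf M) (by
    rw [hXc]
    exact Nat.coprime_of_dvd fun k hk h1 h2 => hU.2.2 k hk (hX k hk h1) h2)
  obtain ⟨g, hg⟩ := hconj U' (U.subgroupOf M) hU'c hUc
  refine ⟨g, g.2, fun x hx => ?_⟩
  have h1 : (⟨x, hXM hx⟩ : M) ∈ U' := hXU' (Subgroup.mem_subgroupOf.mpr hx)
  have h2 : MulAut.conj g • (⟨x, hXM hx⟩ : M) ∈ MulAut.conj g • U' :=
    Subgroup.smul_mem_pointwise_smul _ _ _ h1
  rw [hg, Subgroup.mem_subgroupOf] at h2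
  simpa [MulAut.smul_def] using h2

/-- A `σ(M)'`-subgroup of `M` lies in a complement of `M_σ`. -/
theorem exists_compl_sigmaCore_ge [Finite G] (hG : IsMinSimpleOddOrder G) (M : Subgroup G)
    (hM : IsCoatom M) {X : Subgroup G} (hXM : X ≤ M)
    (hX : ∀ p : ℕ, p.Prime → p ∣ Nat.card X → p ∉ sigma M) :
    ∃ E : Subgroup G, IsComplIn E (sigmaCore M) M ∧ X ≤ E := by
  obtain ⟨hodd, hsimple, hna, hsolv⟩ := id hG
  have hMsolv : Group.IsSolvable M := hsolv M hM.1
  have hHall := (Cfsg.Agent.S1350.result hG M hM).1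
  have hcardM : Nat.card M = (sigmaCore M).relIndex M * Nat.card (sigmaCore M) := by
    rw [mul_comm]; exact (bgk_card_mul_relIndex hHall.1).symm
  obtain ⟨-, hcont⟩ := Cfsg.Agent.Lib.helper1.hallProp ↥M ((sigmaCore M).relIndex M)
    (Nat.card (sigmaCore M)) hcardM (bgk_hall_coprime hHall).symm
  have hXc : Nat.card (X.subgroupOf M) = Nat.card X :=
    Nat.card_congr (Subgroup.subgroupOfEquivOfLe hXM).toEquiv
  obtain ⟨E', hE'c, hXE'⟩ := hcont (X.subgroupOf M) (by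
    rw [hXc]
    exact Nat.coprime_of_dvd fun k hk h1 h2 => hX k hk h1 (hHall.2.1 k hk h2))
  have hEc : Nat.card (E'.map M.subtype) = (sigmaCore M).relIndex M := by
    rw [Subgroup.card_map_of_injective M.subtype_injective, hE'c]
  refine ⟨E'.map M.subtype, ?_, ?_⟩
  · apply bgk_isComplIn_of_card (Subgroup.map_subtype_le _) hHall.1
    · apply disjoint_iff.mp
      apply Subgroup.disjoint_of_coprime_natCard
      rw [hEc]; exact (bgk_hall_coprime hHall).symm
    · rw [hEc]; exact hcardM.symm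
  · intro x hx
    exact ⟨⟨x, hXM hx⟩, hXE' (Subgroup.mem_subgroupOf.mpr hx), rfl⟩

/-- `τ₂(M)` and `κ(M)` are disjoint. -/
theorem not_kappa_of_tau2 [Finite G] {M : Subgroup G} {p : ℕ} (hp2 : p ∈ tau2 M) :
    p ∉ kappa M := by
  intro hk
  obtain ⟨hp, -, -, hnr⟩ := hp2
  obtain ⟨-, -, -, hcyc⟩ := hk
  apply hnr
  intro A hAc hAp
  have : Fact p.Prime := ⟨hp⟩
  have hAP : IsPGroup p A := fun a => ⟨1, by
    apply Subtype.ext
    simpa using hAp a a.2⟩
  obtain ⟨P, hP⟩ := hAP.exists_le_sylow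
  have hPc : IsCyclic (P : Subgroup M) := (hcyc P).1
  have hAcyc : IsCyclic A := by
    have h1 : IsCyclic (A.subgroupOf (P : Subgroup M)) := inferInstance
    exact isCyclic_of_surjective (Subgroup.subgroupOfEquivOfLe hP).toMonoidHom
      (Subgroup.subgroupOfEquivOfLe hP).surjective
  obtain ⟨g, hg⟩ := hAcyc.exists_generator
  have hcard : Nat.card A = orderOf g := (orderOf_eq_card_of_forall_mem_zpowers hg).symm
  rw [hcard, pow_one]
  apply Nat.le_of_dvd hp.pos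
  apply orderOf_dvd_of_pow_eq_one
  apply Subtype.ext
  simpa using hAp g g.2

/-- The complement `X` of `C_{M_σ}(H)` in `C_M(H)`. -/
theorem exists_cent_compl [Finite G] (hG : IsMinSimpleOddOrder G) (M : Subgroup G)
    (hM : IsCoatom M) (H : Subgroup G) :
    ∃ X : Subgroup G, X ≤ M ⊓ centralizer (H : Set G) ∧
      (sigmaCore M ⊓ centralizer (H : Set G)) ⊔ X = M ⊓ centralizer (H : Set G) ∧
      ∀ p : ℕ, p.Prime → p ∣ Nat.card X → p ∉ sigma M := by
  have hHall := (Cfsg.Agent.S1350.result hG M hM).1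
  have hMs : sigmaCore M ≤ M := hHall.1
  have hMV : M ≤ normalizer (sigmaCore M : Set G) :=
    Cfsg.Agent.Lib.helper71.BGA.le_normalizer_sigmaCore M
  have hNC : sigmaCore M ⊓ centralizer (H : Set G) ≤ M ⊓ centralizer (H : Set G) :=
    inf_le_inf hMs le_rfl
  have hCN : M ⊓ centralizer (H : Set G) ≤
      normalizer ((sigmaCore M ⊓ centralizer (H : Set G) : Subgroup G) : Set G) := by
    intro c hc
    apply mem_normalizer_of_conj_mem
    intro y hy
    refine ⟨(Subgroup.mem_normalizer_iff.mp (hMV hc.1) y).mp hy.1, ?_⟩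
    exact Subgroup.mul_mem _ (Subgroup.mul_mem _ hc.2 hy.2) (Subgroup.inv_mem _ hc.2)
  have hNeq : sigmaCore M ⊓ centralizer (H : Set G) =
      sigmaCore M ⊓ (M ⊓ centralizer (H : Set G)) := by
    rw [← inf_assoc, inf_of_le_left hMs]
  have hdvd : (sigmaCore M ⊓ centralizer (H : Set G)).relIndex (M ⊓ centralizer (H : Set G)) ∣
      (sigmaCore M).relIndex M := by
    rw [hNeq]
    exact relIndex_inf_dvd hMV hMs inf_le_left
  have hcop : (Nat.card ↥(sigmaCore M ⊓ centralizer (H : Set G))).Coprime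
      ((sigmaCore M ⊓ centralizer (H : Set G)).relIndex (M ⊓ centralizer (H : Set G))) := by
    apply Nat.Coprime.coprime_dvd_left (Subgroup.card_dvd_of_le inf_le_left)
    exact Nat.Coprime.coprime_dvd_right hdvd (bgk_hall_coprime hHall)
  obtain ⟨X, hXC, -, hsup, hXcard⟩ := Cfsg.Agent.Lib.helper1.exists_complement_of_coprime
    (sigmaCore M ⊓ centralizer (H : Set G)) (M ⊓ centralizer (H : Set G)) hNC hCN
    ((sigmaCore M ⊓ centralizer (H : Set G)).relIndex (M ⊓ centralizer (H : Set G)))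
    (bgk_card_mul_relIndex hNC).symm hcop
  refine ⟨X, hXC, hsup, ?_⟩
  intro p hp hpd hpσ
  rw [hXcard] at hpd
  exact hHall.2.2 p hp hpσ (hpd.trans hdvd)

/-- A prime divisor of the order of a non-identity element. -/
theorem exists_prime_dvd_orderOf' [Finite G] {a : G} (ha : a ≠ 1) :
    ∃ p : ℕ, p.Prime ∧ p ∣ orderOf a :=
  Nat.exists_prime_and_dvd (fun h => ha (orderOf_eq_one_iff.mp h))

/-- Elements of `M` centralizing the nontrivial Hall subgroup `H` of `M_σ`, of order prime to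
`σ(M)`, have all prime divisors of their order in `τ₂(M)`. -/
theorem tau2_of_cent [Finite G] (hG : IsMinSimpleOddOrder G) (h51 : H1351 G) (h31 : H1431 G)
    (h32 : H1432 G) (M : Subgroup G) (hM : IsCoatom M) (H : Subgroup G) (hH : H ≤ sigmaCore M)
    (hH1 : H ≠ ⊥) (hHall : (Nat.card H).Coprime (H.relIndex (sigmaCore M)))
    {x' : G} (hx'M : x' ∈ M) (hx'c : x' ∈ centralizer (H : Set G)) (hx'1 : x' ≠ 1)
    (hσ : ∀ p : ℕ, p.Prime → p ∣ orderOf x' → p ∉ sigma M) :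
    ∀ p : ℕ, p.Prime → p ∣ orderOf x' → p ∈ tau2 M := by
  obtain ⟨h, hhH, hh1⟩ := Cfsg.Agent.Lib.helper29.exists_ne_one_of_ne_bot hH1
  have hx'h : x' ∈ M ⊓ centralizer ({h} : Set G) :=
    ⟨hx'M, Subgroup.centralizer_le (Set.singleton_subset_iff.mpr hhH) hx'c⟩
  rcases h32 M hM h (hH hhH) hh1 x' hx'h hx'1 hσ with ⟨hκ, -⟩ | ⟨hτ, -, -⟩
  · exfalso
    obtain ⟨p, hp, hpd⟩ := exists_prime_dvd_orderOf' hx'1
    have hpκ := hκ p hp hpd
    have : Fact p.Prime := ⟨hp⟩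
    obtain ⟨⟨K₀, hK₀⟩, -⟩ := h51 M hM
    have hzo : orderOf (x' ^ (orderOf x' / p)) = p :=
      orderOf_pow_orderOf_div (orderOf_pos x').ne' hpd
    have hzM : x' ^ (orderOf x' / p) ∈ M := M.pow_mem hx'M _
    have hzc : x' ^ (orderOf x' / p) ∈ centralizer (H : Set G) := Subgroup.pow_mem _ hx'c _
    have hz1 : x' ^ (orderOf x' / p) ≠ 1 := by
      intro h1
      rw [h1, orderOf_one] at hzo
      exact hp.ne_one hzo.symm
    have hB : IsPGroup p (zpowers (x' ^ (orderOf x' / p))) :=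
      IsPGroup.of_card (n := 1) (by rw [Nat.card_zpowers, hzo, pow_one])
    obtain ⟨g, hgM, hg⟩ := bgk_conj_into_hall hK₀ hpκ (zpowers_le.mpr hzM) hB
    -- `K := g⁻¹ K₀ g` is a Hall `κ(M)`-subgroup containing `z`
    have hK := isPiHallOf_map_conj hK₀ (M.inv_mem hgM)
    have hzK : x' ^ (orderOf x' / p) ∈ K₀.map (MulAut.conj g⁻¹).toMonoidHom := by
      rw [Cfsg.Agent.Lib.helper13.sf_mem_map_conj_iff]
      simpa using hg _ (mem_zpowers _)
    have hK1 : K₀.map (MulAut.conj g⁻¹).toMonoidHom ≠ ⊥ := fun hb =>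
      hz1 (by rw [hb] at hzK; exact Subgroup.mem_bot.mp hzK)
    obtain ⟨hc1, -, -⟩ := Cfsg.Agent.S1430.result hG M hM _ hK hK1
    have hKs := hc1 _ hzK hz1
    obtain ⟨-, -, hc3, -⟩ := h31 M hM _ hK hK1
    have hHKs : H ≤ sigmaCore M ⊓ centralizer ((K₀.map (MulAut.conj g⁻¹).toMonoidHom : Subgroup G) : Set G) := by
      rw [← hKs]
      intro y hy
      refine ⟨hH hy, Subgroup.mem_centralizer_iff.mpr ?_⟩
      intro w hw
      rw [Set.mem_singleton_iff] at hw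
      subst hw
      exact (Subgroup.mem_centralizer_iff.mp hzc y hy).symm
    -- a Sylow subgroup of `M_σ` inside `H`
    obtain ⟨s, hs, hsd⟩ := Nat.exists_prime_and_dvd (n := Nat.card H) (by
      intro h1
      exact hH1 ((Subgroup.card_eq_one).mp h1))
    have : Fact s.Prime := ⟨hs⟩
    have hsKs := hsd.trans (Subgroup.card_dvd_of_le hHKs)
    obtain ⟨T⟩ : Nonempty (Sylow s (H.subgroupOf (sigmaCore M))) := inferInstance
    have hT₀p : IsPGroup s ((T : Subgroup (H.subgroupOf (sigmaCore M))).map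
        (H.subgroupOf (sigmaCore M)).subtype) := T.isPGroup'.map _
    have hidx : ¬ s ∣ ((T : Subgroup (H.subgroupOf (sigmaCore M))).map
        (H.subgroupOf (sigmaCore M)).subtype).index := by
      rw [Subgroup.index_map_subtype]
      intro hdvd
      rcases (Nat.Prime.dvd_mul hs).mp hdvd with h1 | h1
      · exact T.not_dvd_index h1
      · exact hs.ne_one (Nat.eq_one_of_dvd_coprimes hHall hsd h1)
    have hSle : ((hT₀p.toSylow hidx : Sylow s ↥(sigmaCore M)) : Subgroup ↥(sigmaCore M)).map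
        (sigmaCore M).subtype ≤ H := by
      rintro _ ⟨y, hy, rfl⟩
      obtain ⟨t, -, rfl⟩ := hy
      exact Subgroup.mem_subgroupOf.mp t.2
    exact (hc3 s hs hsKs (hT₀p.toSylow hidx)).2.2 (hSle.trans hHKs)
  · exact hτ

/-- The complement `X` is abelian. -/
theorem abelian_of_cent [Finite G] (hG : IsMinSimpleOddOrder G) (h51 : H1351 G) (h32 : H1432 G)
    (M : Subgroup G) (hM : IsCoatom M) (H : Subgroup G) (hH : H ≤ sigmaCore M) (hH1 : H ≠ ⊥)
    {X : Subgroup G} (hXM : X ≤ M) (hXc : X ≤ centralizer (H : Set G))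
    (hXτ : ∀ p : ℕ, p.Prime → p ∣ Nat.card X → p ∈ tau2 M) :
    ∀ a ∈ X, ∀ b ∈ X, a * b = b * a := by
  obtain ⟨hodd, hsimple, hna, hsolv⟩ := id hG
  have hMsolv : Group.IsSolvable M := hsolv M hM.1
  obtain ⟨h, hhH, hh1⟩ := Cfsg.Agent.Lib.helper29.exists_ne_one_of_ne_bot hH1
  obtain ⟨⟨K, hK⟩, -⟩ := h51 M hM
  by_cases hK1 : K = ⊥
  · -- `κ(M) = ∅`
    have hκ : ∀ p : ℕ, p ∉ kappa M := by
      intro p hpκ
      have hp : p.Prime := hpκ.1
      have h1 := hK.2.2 p hp hpκ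
      rw [hK1, Subgroup.relIndex_bot_left] at h1
      exact h1 hpκ.2.1
    have hHallσ := (Cfsg.Agent.S1350.result hG M hM).1
    obtain ⟨E, hE, hXE⟩ := exists_compl_sigmaCore_ge hG M hM hXM
      (fun p hp hpd => (hXτ p hp hpd).2.1)
    have hEcard : Nat.card E = (sigmaCore M).relIndex M :=
      Cfsg.Agent.Lib.helper29.IsComplIn.card_left hE
    have h21 := (Cfsg.Agent.S1421.result hG M hM E hE (by
      intro e heE he1 hτ
      by_contra hne
      obtain ⟨y, hy, hy1⟩ := Cfsg.Agent.Lib.helper29.exists_ne_one_of_ne_bot hne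
      have heσ : ∀ p : ℕ, p.Prime → p ∣ orderOf e → p ∉ sigma M := by
        intro p hp hpd hpσ
        apply hHallσ.2.2 p hp hpσ
        rw [← hEcard]
        exact hpd.trans (Subgroup.orderOf_dvd_natCard _ heE)
      have hey : e ∈ M ⊓ centralizer ({y} : Set G) := by
        refine ⟨hE.1 heE, Subgroup.mem_centralizer_iff.mpr ?_⟩
        intro w hw
        rw [Set.mem_singleton_iff] at hw
        subst hw
        exact (Subgroup.mem_centralizer_iff.mp hy.2 e (Set.mem_singleton e)).symm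
      obtain ⟨p, hp, hpd⟩ := exists_prime_dvd_orderOf' he1
      rcases h32 M hM y hy.1 hy1 e hey he1 heσ with ⟨hκ', -⟩ | ⟨hτ', -, -⟩
      · exact hκ p (hκ' p hp hpd)
      · have h2 := (hτ' p hp hpd).2.2.2
        rcases hτ p hp hpd with h3 | h3
        · exact h2 h3.2.2.2.2
        · exact h2 h3.2.2.2)).1
    obtain ⟨A₀, -, -, hA₀c, hA₀⟩ := h21
    have hXA : X ≤ A₀ := fun y hy => hA₀ h (hH hhH) hh1
      ⟨hXE hy, Subgroup.centralizer_le (Set.singleton_subset_iff.mpr hhH) (hXc hy)⟩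
    intro a ha b hb
    exact congrArg Subtype.val (hA₀c.is_comm.comm ⟨a, hXA ha⟩ ⟨b, hXA hb⟩)
  · obtain ⟨-, ⟨U, hUc, hUH, -, -⟩, -⟩ := Cfsg.Agent.S1430.result hG M hM K hK hK1
    obtain ⟨g, hgM, hg⟩ := exists_conj_le_hall hMsolv hUH hXM
      (fun p hp hpd => ⟨hp, not_kappa_of_tau2 (hXτ p hp hpd), (hXτ p hp hpd).2.1⟩)
    intro a ha b hb
    have h1 : (g * a * g⁻¹) * (g * b * g⁻¹) = (g * b * g⁻¹) * (g * a * g⁻¹) :=
      congrArg Subtype.val
        (hUc.is_comm.comm ⟨g * a * g⁻¹, hg a ha⟩ ⟨g * b * g⁻¹, hg b hb⟩)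
    have h2 : a * b = g⁻¹ * ((g * a * g⁻¹) * (g * b * g⁻¹)) * g := by group
    have h3 : b * a = g⁻¹ * ((g * b * g⁻¹) * (g * a * g⁻¹)) * g := by group
    rw [h2, h3, h1]

/-- **S1438, first clause** (modulo the frozen S1351, S1431, S1432). -/
theorem cent_1438 [Finite G] (hG : IsMinSimpleOddOrder G) (h51 : H1351 G) (h31 : H1431 G)
    (h32 : H1432 G) (M : Subgroup G) (hM : IsCoatom M) (H : Subgroup G) (hH : H ≤ sigmaCore M)
    (hH1 : H ≠ ⊥) (hHall : (Nat.card H).Coprime (H.relIndex (sigmaCore M))) :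
    ∃ X : Subgroup G, IsCyclic X ∧ (∀ p : ℕ, p.Prime → p ∣ Nat.card X → p ∈ tau2 M) ∧
      M ⊓ centralizer (H : Set G) = (sigmaCore M ⊓ centralizer (H : Set G)) ⊔ X := by
  obtain ⟨X, hXC, hsup, hXσ⟩ := exists_cent_compl hG M hM H
  have hXM : X ≤ M := hXC.trans inf_le_left
  have hXc : X ≤ centralizer (H : Set G) := hXC.trans inf_le_right
  have hXτ : ∀ p : ℕ, p.Prime → p ∣ Nat.card X → p ∈ tau2 M := by
    intro p hp hpd
    have : Fact p.Prime := ⟨hp⟩
    obtain ⟨x', hx'⟩ := exists_prime_orderOf_dvd_card' p hpd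
    have ho : orderOf (x' : G) = p := by rw [Subgroup.orderOf_coe]; exact hx'
    have hx'1 : (x' : G) ≠ 1 := by
      intro h1
      rw [h1, orderOf_one] at ho
      exact hp.ne_one ho.symm
    apply tau2_of_cent hG h51 h31 h32 M hM H hH hH1 hHall (hXM x'.2) (hXc x'.2) hx'1 _ p hp
      (by rw [ho])
    intro r hr hrd
    exact hXσ r hr (hrd.trans (Subgroup.orderOf_dvd_natCard X x'.2))
  refine ⟨X, ?_, hXτ, hsup.symm⟩
  have hab := abelian_of_cent hG h51 h32 M hM H hH hH1 hXM hXc hXτ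
  have hXcomm : IsMulCommutative X := ⟨⟨fun a b => Subtype.ext (hab a a.2 b b.2)⟩⟩
  by_contra hnc
  obtain ⟨p, E, hp, hEX, hEel, hEc⟩ :=
    Cfsg.Agent.Lib.helper29.exists_elementaryAbelian_of_not_isCyclic X hnc
  have : Fact p.Prime := ⟨hp⟩
  have hEp : IsPGroup p E := fun a => ⟨1, by
    apply Subtype.ext
    simpa using hEel.2 a a.2⟩
  obtain ⟨k, hk⟩ := IsPGroup.iff_card.mp hEp
  have hk2 : 2 ≤ k := by
    rw [hk] at hEc
    exact (Nat.pow_le_pow_iff_right hp.one_lt).mp hEc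
  obtain ⟨A', hA'⟩ := Sylow.exists_subgroup_card_pow_prime p (G := E) (n := 2)
    (by rw [hk]; exact Nat.pow_dvd_pow p hk2)
  have hAc : Nat.card (A'.map E.subtype) = p ^ 2 := by
    rw [Subgroup.card_map_of_injective E.subtype_injective, hA']
  have hAE : A'.map E.subtype ≤ E := Subgroup.map_subtype_le _
  have hAel : IsElementaryAbelian p (A'.map E.subtype) := by
    refine ⟨⟨⟨fun a b => Subtype.ext ?_⟩⟩, fun a ha => hEel.2 a (hAE ha)⟩
    have h1 : (⟨a, hAE a.2⟩ : E) * ⟨b, hAE b.2⟩ = ⟨b, hAE b.2⟩ * ⟨a, hAE a.2⟩ :=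
      hEel.1.is_comm.comm _ _
    have h2 : (a : G) * (b : G) = (b : G) * (a : G) := congrArg Subtype.val h1
    exact h2
  have hpX : p ∣ Nat.card X := by
    have h1 : p ∣ Nat.card (A'.map E.subtype) := by rw [hAc]; exact dvd_pow_self p (by norm_num)
    exact h1.trans (Subgroup.card_dvd_of_le (hAE.trans hEX))
  have hpτ := hXτ p hp hpX
  have h17 := (Cfsg.Agent.S1417.result hG M hM p hpτ (A'.map E.subtype)
    ⟨(hAE.trans hEX).trans hXM, hAel, hAc⟩).2.2.2.1
  apply hH1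
  rw [eq_bot_iff, ← h17]
  intro y hy
  refine ⟨hH hy, Subgroup.mem_centralizer_iff.mpr ?_⟩
  intro a ha
  exact (Subgroup.mem_centralizer_iff.mp (hXc (hEX (hAE ha))) y hy).symm

end Cfsg.Agent.Lib.helper1.BG1438
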