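import Mathlib
import Cfsg.Agent.Lib.helper11.FourCent

/-!
# Groups with an involution whose centralizer is dihedral of order 8

Generic part (no classification input): the centralizer is a Sylow 2-subgroup, and if the group has a
subgroup of index 2 then it is `C · O(G)`, `S₄` or `S₅`.
-/

set_option autoImplicit false
set_option linter.style.haveILetI false
set_option linter.unusedSectionVars false

namespace Cfsg.Agent.Lib.helper1.CentD8

open Subgroup Cfsg.Agent.Lib.helper11.FourCent

variable {G : Type*} [Group G]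

theorem d4_center : ∀ c : DihedralGroup 4, (∀ d : DihedralGroup 4, c * d = d * c) →
    c = 1 ∨ c = DihedralGroup.r 2 := by decide

theorem d4_comm : ∃ a b : DihedralGroup 4, a * b * a⁻¹ * b⁻¹ = DihedralGroup.r 2 := by decide

/-- The abstract data extracted from `C_G(z) ≅ D₈`. -/
structure D8Cent (z : G) : Prop where
  z1 : z ≠ 1
  zz : z * z = 1
  card : Nat.card (centralizer ({z} : Set G)) = 8
  cen : ∀ c ∈ centralizer ({z} : Set G),
    (∀ d ∈ centralizer ({z} : Set G), c * d = d * c) → c = 1 ∨ c = z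
  comm : ∃ a b : G, a * b * a⁻¹ * b⁻¹ = z

/-- An isomorphism of `C_G(z)` onto `D₈` maps `z` to the central rotation. -/
theorem equiv_z_eq {z : G} (hz : orderOf z = 2)
    (e : centralizer ({z} : Set G) ≃* DihedralGroup 4) :
    e ⟨z, mem_cent.mpr rfl⟩ = DihedralGroup.r 2 := by
  haveI : Fact (Nat.Prime 2) := ⟨Nat.prime_two⟩
  have hz' := orderOf_eq_prime_iff.mp hz
  have hz'1 : (⟨z, mem_cent.mpr rfl⟩ : centralizer ({z} : Set G)) ≠ 1 :=
    fun h => hz'.2 (congrArg Subtype.val h)
  have hcenz : ∀ d : DihedralGroup 4, e ⟨z, mem_cent.mpr rfl⟩ * d = d * e ⟨z, mem_cent.mpr rfl⟩ := by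
    intro d
    obtain ⟨x, rfl⟩ := e.surjective d
    rw [← map_mul, ← map_mul]
    congr 1
    apply Subtype.ext
    have := mem_cent.mp x.2
    simpa using this.symm
  rcases d4_center _ hcenz with h | h
  · exact absurd ((MulEquiv.map_eq_one_iff e).mp h) hz'1
  · exact h

theorem D8Cent.of_equiv {z : G} (hz : orderOf z = 2)
    (e : centralizer ({z} : Set G) ≃* DihedralGroup 4) : D8Cent z := by
  haveI : Fact (Nat.Prime 2) := ⟨Nat.prime_two⟩
  have hz' := orderOf_eq_prime_iff.mp hz
  have zz : z * z = 1 := by rw [← pow_two]; exact hz'.1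
  have zC : z ∈ centralizer ({z} : Set G) := mem_cent.mpr rfl
  set z' : centralizer ({z} : Set G) := ⟨z, zC⟩ with hz'def
  have hz'1 : z' ≠ 1 := fun h => hz'.2 (congrArg Subtype.val h)
  have hcenz : ∀ d : DihedralGroup 4, e z' * d = d * e z' := by
    intro d
    obtain ⟨x, rfl⟩ := e.surjective d
    rw [← map_mul, ← map_mul]
    congr 1
    apply Subtype.ext
    have := mem_cent.mp x.2
    simpa using this.symm
  have hez : e z' = DihedralGroup.r 2 := by
    rcases d4_center (e z') hcenz with h | h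
    · exact absurd ((MulEquiv.map_eq_one_iff e).mp h) hz'1
    · exact h
  refine ⟨hz'.2, zz, ?_, ?_, ?_⟩
  · rw [Nat.card_congr e.toEquiv, DihedralGroup.nat_card]
  · intro c hc hcd
    have hcc : ∀ d : DihedralGroup 4, e ⟨c, hc⟩ * d = d * e ⟨c, hc⟩ := by
      intro d
      obtain ⟨x, rfl⟩ := e.surjective d
      rw [← map_mul, ← map_mul]
      congr 1
      apply Subtype.ext
      exact hcd x x.2
    rcases d4_center _ hcc with h | h
    · left; exact congrArg Subtype.val ((MulEquiv.map_eq_one_iff e).mp h)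
    · right
      have h2 : (⟨c, hc⟩ : centralizer ({z} : Set G)) = z' := e.injective (h.trans hez.symm)
      exact congrArg Subtype.val h2
  · obtain ⟨a, b, hab⟩ := d4_comm
    refine ⟨(e.symm a : G), (e.symm b : G), ?_⟩
    have h2 : e.symm a * e.symm b * (e.symm a)⁻¹ * (e.symm b)⁻¹ = z' := by
      apply e.injective
      simp [hab, hez]
    have h3 := congrArg Subtype.val h2
    simpa using h3

theorem D8Cent.zC {z : G} (_h : D8Cent z) : z ∈ centralizer ({z} : Set G) := mem_cent.mpr rfl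

theorem D8Cent.zinv {z : G} (h : D8Cent z) : z⁻¹ = z := inv_eq_self_of_sq h.zz

/-- The centralizer is a Sylow `2`-subgroup. -/
theorem D8Cent.exists_sylow [Finite G] {z : G} (h : D8Cent z) :
    ∃ S : Sylow 2 G, (S : Subgroup G) = centralizer ({z} : Set G) := by
  haveI : Fact (Nat.Prime 2) := ⟨Nat.prime_two⟩
  have hC2 : IsPGroup 2 (centralizer ({z} : Set G)) :=
    IsPGroup.of_card (n := 3) (by rw [h.card]; norm_num)
  obtain ⟨S, hCS⟩ := hC2.exists_le_sylow
  refine ⟨S, le_antisymm ?_ hCS⟩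
  haveI : Group.IsNilpotent (S : Subgroup G) := S.isPGroup'.isNilpotent
  by_contra hne
  have hlt : (centralizer ({z} : Set G)).subgroupOf S < ⊤ := by
    rw [lt_top_iff_ne_top]
    intro htop
    apply hne
    rw [Subgroup.subgroupOf_eq_top] at htop
    exact htop
  have hnc := Group.normalizerCondition_of_isNilpotent (G := (S : Subgroup G)) _ hlt
  obtain ⟨x, hxN, hxC⟩ := SetLike.exists_of_lt hnc
  apply hxC
  rw [Subgroup.mem_subgroupOf]
  rw [Subgroup.mem_normalizer_iff] at hxN
  have key : ∀ c ∈ centralizer ({z} : Set G), (x : G) * c * (x : G)⁻¹ ∈ centralizer ({z} : Set G) := by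
    intro c hc
    have h1 := (hxN ⟨c, hCS hc⟩).mp (by rw [Subgroup.mem_subgroupOf]; exact hc)
    rw [Subgroup.mem_subgroupOf] at h1
    simpa using h1
  have key' : ∀ c ∈ centralizer ({z} : Set G), (x : G)⁻¹ * c * (x : G) ∈ centralizer ({z} : Set G) := by
    intro c hc
    have h1 := (hxN (x⁻¹ * ⟨c, hCS hc⟩ * x)).mpr (by
      rw [Subgroup.mem_subgroupOf]
      have h2 : ((x * (x⁻¹ * ⟨c, hCS hc⟩ * x) * x⁻¹ : (S : Subgroup G)) : G) = c := by
        simp [mul_assoc]
      rw [h2]; exact hc)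
    rw [Subgroup.mem_subgroupOf] at h1
    simpa using h1
  have h1 := h.cen ((x : G) * z * (x : G)⁻¹) (key z h.zC) (by
    intro d hd
    have h2 := mem_cent.mp (key' d hd)
    calc (x : G) * z * (x : G)⁻¹ * d = (x : G) * (z * ((x : G)⁻¹ * d * x)) * (x : G)⁻¹ := by group
      _ = (x : G) * (((x : G)⁻¹ * d * x) * z) * (x : G)⁻¹ := by rw [h2]
      _ = d * ((x : G) * z * (x : G)⁻¹) := by group)
  rcases h1 with h1 | h1
  · exact absurd (conj_eq_one_iff.mp h1) h.z1
  · apply mem_cent.mpr
    calc (x : G) * z = ((x : G) * z * (x : G)⁻¹) * x := by group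
      _ = z * x := by rw [h1]


/-! ### Generic lemmas -/

/-- A group of order `n!` with a core-free subgroup of index `n` is the symmetric group. -/
theorem nonempty_equiv_perm_of_normalCore {n : ℕ} [Finite G] (N : Subgroup G) (hidx : N.index = n)
    (hcore : N.normalCore = ⊥) (hcard : Nat.card G = n.factorial) :
    Nonempty (G ≃* Equiv.Perm (Fin n)) := by
  have hinj : Function.Injective (MulAction.toPermHom G (G ⧸ N)) := by
    rw [← MonoidHom.ker_eq_bot_iff, ← Subgroup.normalCore_eq_ker, hcore]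
  have hcq : Nat.card (G ⧸ N) = n := by rw [← hidx]; rfl
  have hbij : Function.Bijective (MulAction.toPermHom G (G ⧸ N)) := by
    rw [Nat.bijective_iff_injective_and_card]
    exact ⟨hinj, by rw [hcard, Nat.card_perm, hcq]⟩
  have e1 : G ≃* Equiv.Perm (G ⧸ N) := MulEquiv.ofBijective _ hbij
  have e2 : (G ⧸ N) ≃ Fin n := Finite.equivFinOfCardEq hcq
  exact ⟨e1.trans (Equiv.permCongrHom e2)⟩

/-- Orbit–stabilizer bound: if all `L`-conjugates of `z` lie in the finite set `X` then
`|L| ≤ |X| · |C_L(z)|`. -/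
theorem card_le_of_conj_mem [Finite G] (L : Subgroup G) (z : G) (X : Finset G)
    (hX : ∀ l ∈ L, l * z * l⁻¹ ∈ X) :
    Nat.card L ≤ X.card * Nat.card (L ⊓ centralizer ({z} : Set G) : Subgroup G) := by
  classical
  have hrep : ∀ x : G, ∃ r : G, (∃ l ∈ L, l * z * l⁻¹ = x) → (r ∈ L ∧ r * z * r⁻¹ = x) := by
    intro x
    by_cases hx : ∃ l ∈ L, l * z * l⁻¹ = x
    · obtain ⟨l, hl, hlx⟩ := hx; exact ⟨l, fun _ => ⟨hl, hlx⟩⟩
    · exact ⟨1, fun h => absurd h hx⟩
  choose r hr using hrep
  let f : L → X × (L ⊓ centralizer ({z} : Set G) : Subgroup G) := fun l =>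
    (⟨(l : G) * z * (l : G)⁻¹, hX l l.2⟩,
     ⟨(r ((l : G) * z * (l : G)⁻¹))⁻¹ * l, by
        have h1 := hr ((l : G) * z * (l : G)⁻¹) ⟨l, l.2, rfl⟩
        refine Subgroup.mem_inf.mpr ⟨L.mul_mem (L.inv_mem h1.1) l.2, mem_cent.mpr ?_⟩
        calc (r ((l : G) * z * (l : G)⁻¹))⁻¹ * l * z
            = (r ((l : G) * z * (l : G)⁻¹))⁻¹ * ((l : G) * z * (l : G)⁻¹) * l := by group
          _ = (r ((l : G) * z * (l : G)⁻¹))⁻¹ * (r ((l : G) * z * (l : G)⁻¹) * z *
                (r ((l : G) * z * (l : G)⁻¹))⁻¹) * l := by rw [h1.2]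
          _ = z * ((r ((l : G) * z * (l : G)⁻¹))⁻¹ * l) := by group⟩)
  have hf : Function.Injective f := by
    intro l l' hll
    have h1 : (l : G) * z * (l : G)⁻¹ = (l' : G) * z * (l' : G)⁻¹ :=
      congrArg (fun p => ((p.1 : X) : G)) hll
    have h2 : (r ((l : G) * z * (l : G)⁻¹))⁻¹ * (l : G) =
        (r ((l' : G) * z * (l' : G)⁻¹))⁻¹ * (l' : G) :=
      congrArg (fun p => ((p.2 : (L ⊓ centralizer ({z} : Set G) : Subgroup G)) : G)) hll
    rw [h1] at h2
    exact Subtype.ext (mul_left_cancel h2)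
  have h3 := Nat.card_le_card_of_injective f hf
  rwa [Nat.card_prod, Nat.card_eq_fintype_card (α := X), Fintype.card_coe] at h3

theorem pow_three_of_card_three [Finite G] {P : Subgroup G} (hP : Nat.card P = 3) {y : G}
    (hy : y ∈ P) : y ^ 3 = 1 := by
  have h1 := orderOf_dvd_natCard (⟨y, hy⟩ : P)
  rw [Subgroup.orderOf_mk, hP] at h1
  exact orderOf_dvd_iff_pow_eq_one.mp h1

theorem inv_ne_self_of_pow_three {y : G} (hy3 : y ^ 3 = 1) (hy1 : y ≠ 1) : y⁻¹ ≠ y := by
  intro h
  have h2 : y * y = 1 := by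
    calc y * y = y⁻¹ * y := by rw [h]
      _ = 1 := inv_mul_cancel y
  apply hy1
  calc y = y ^ 3 * (y * y)⁻¹ := by group
    _ = 1 := by rw [hy3, h2]; simp

/-- The elements of a subgroup of order `3`. -/
theorem three_elems [Finite G] {P : Subgroup G} (hP : Nat.card P = 3) {y : G} (hy : y ∈ P)
    (hy1 : y ≠ 1) : ∀ x ∈ P, x = 1 ∨ x = y ∨ x = y⁻¹ := by
  classical
  have hy3 := pow_three_of_card_three hP hy
  have hne := inv_ne_self_of_pow_three hy3 hy1
  have hsub : (({1, y, y⁻¹} : Finset G) : Set G) ⊆ (P : Set G) := by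
    intro v hv
    simp only [Finset.coe_insert, Finset.coe_singleton, Set.mem_insert_iff,
      Set.mem_singleton_iff] at hv
    rcases hv with rfl | rfl | rfl
    exacts [P.one_mem, hy, P.inv_mem hy]
  have hcard : ({1, y, y⁻¹} : Finset G).card = 3 := by
    rw [Finset.card_insert_of_notMem, Finset.card_pair hne.symm]
    simp only [Finset.mem_insert, Finset.mem_singleton, not_or]
    exact ⟨fun h => hy1 h.symm, fun h => hy1 (inv_eq_one.mp h.symm)⟩
  have hP' : (P : Set G).ncard = 3 := hP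
  have heq : (({1, y, y⁻¹} : Finset G) : Set G) = (P : Set G) := by
    apply Set.eq_of_subset_of_ncard_le hsub _ (Set.toFinite _)
    rw [Set.ncard_coe_finset, hcard, hP']
  intro v hv
  have h3 : v ∈ (({1, y, y⁻¹} : Finset G) : Set G) := by rw [heq]; exact hv
  simpa using h3

/-! ### Subgroups of index two -/

section Index2

variable [Finite G] {z : G} {H : Subgroup G}

theorem D8Cent.z_mem_of_index_two (h : D8Cent z) (hH : H.index = 2) : z ∈ H := by
  obtain ⟨a, b, hab⟩ := h.comm
  rw [← hab, mul_mem_iff_of_index_two hH, mul_mem_iff_of_index_two hH,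
    mul_mem_iff_of_index_two hH, inv_mem_iff, inv_mem_iff]
  tauto

theorem D8Cent.not_16_dvd (h : D8Cent z) : ¬ 16 ∣ Nat.card G := by
  haveI : Fact (Nat.Prime 2) := ⟨Nat.prime_two⟩
  obtain ⟨S, hS⟩ := h.exists_sylow
  have h1 := S.card_eq_multiplicity
  rw [hS, h.card] at h1
  intro h16
  have h2 : 4 ≤ (Nat.card G).factorization 2 := by
    have h3 : 2 ^ 4 ∣ Nat.card G := by norm_num; exact h16
    exact (Nat.Prime.pow_dvd_iff_le_factorization Nat.prime_two (Nat.card_pos.ne')).mp h3
  have h3 : 2 ^ 4 ≤ 2 ^ (Nat.card G).factorization 2 := Nat.pow_le_pow_right (by norm_num) h2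
  norm_num at h3
  omega

theorem D8Cent.card_eq_two_mul (hH : H.index = 2) : Nat.card G = 2 * Nat.card H := by
  have h2 := H.card_mul_index
  rw [hH] at h2
  omega

theorem D8Cent.not_le_of_index_two (h : D8Cent z) (hH : H.index = 2) :
    ¬ centralizer ({z} : Set G) ≤ H := by
  intro hle
  apply h.not_16_dvd
  have h1 := Subgroup.card_dvd_of_le hle
  rw [h.card] at h1
  have h2 := D8Cent.card_eq_two_mul hH
  obtain ⟨k, hk⟩ := h1
  exact ⟨k, by omega⟩

theorem D8Cent.card_inf (h : D8Cent z) (hH : H.index = 2) :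
    Nat.card (centralizer ({z} : Set G) ⊓ H : Subgroup G) = 4 := by
  haveI := normal_of_index_eq_two hH
  have h1 : H.relIndex (centralizer ({z} : Set G)) = 2 := by
    have hd := Subgroup.relIndex_dvd_index_of_normal H (centralizer ({z} : Set G))
    rw [hH] at hd
    have hne : H.relIndex (centralizer ({z} : Set G)) ≠ 1 :=
      fun h1 => h.not_le_of_index_two hH (Subgroup.relIndex_eq_one.mp h1)
    have hle := Nat.le_of_dvd (by norm_num) hd
    have h0 : H.relIndex (centralizer ({z} : Set G)) ≠ 0 := by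
      intro h0; rw [h0] at hd; simp at hd
    omega
  have h2 := (H.subgroupOf (centralizer ({z} : Set G))).card_mul_index
  rw [← Subgroup.relIndex, h1, h.card] at h2
  have h3 : Nat.card (H.subgroupOf (centralizer ({z} : Set G))) =
      Nat.card (centralizer ({z} : Set G) ⊓ H : Subgroup G) := by
    rw [← Subgroup.inf_subgroupOf_right H (centralizer ({z} : Set G)),
      Nat.card_congr (Subgroup.subgroupOfEquivOfLe
        (inf_le_right : H ⊓ centralizer ({z} : Set G) ≤ centralizer ({z} : Set G))).toEquiv,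
      inf_comm]
  omega


/-- Membership in the centralizer of `z` computed inside `H`. -/
theorem mem_centH {zH : z ∈ H} {x : H} :
    x ∈ centralizer ({(⟨z, zH⟩ : H)} : Set H) ↔ (x : G) ∈ centralizer ({z} : Set G) := by
  rw [mem_cent, mem_cent]
  constructor
  · intro hx; exact congrArg Subtype.val hx
  · intro hx; exact Subtype.ext hx

theorem map_centH {zH : z ∈ H} :
    (centralizer ({(⟨z, zH⟩ : H)} : Set H)).map H.subtype = centralizer ({z} : Set G) ⊓ H := by
  ext x
  rw [Subgroup.mem_map, Subgroup.mem_inf]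
  constructor
  · rintro ⟨y, hy, rfl⟩
    exact ⟨mem_centH.mp hy, y.2⟩
  · rintro ⟨hx, hxH⟩
    exact ⟨⟨x, hxH⟩, mem_centH.mpr hx, rfl⟩

theorem D8Cent.card_centH (h : D8Cent z) (hH : H.index = 2) {zH : z ∈ H} :
    Nat.card (centralizer ({(⟨z, zH⟩ : H)} : Set H)) = 4 := by
  rw [← Subgroup.card_map_of_injective (Subgroup.subtype_injective H), map_centH, h.card_inf hH]

theorem D8Cent.not_8_dvd (h : D8Cent z) (hH : H.index = 2) : ¬ 8 ∣ Nat.card H := by
  intro h8
  apply h.not_16_dvd
  have h2 := D8Cent.card_eq_two_mul hH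
  obtain ⟨k, hk⟩ := h8
  exact ⟨k, by omega⟩

/-- The centralizer of `z` in `H` is a Sylow `2`-subgroup of `H`. -/
theorem D8Cent.exists_sylowH (h : D8Cent z) (hH : H.index = 2) {zH : z ∈ H} :
    ∃ P : Sylow 2 H, (P : Subgroup H) = centralizer ({(⟨z, zH⟩ : H)} : Set H) := by
  haveI : Fact (Nat.Prime 2) := ⟨Nat.prime_two⟩
  have hc := h.card_centH hH (zH := zH)
  have h2 : IsPGroup 2 (centralizer ({(⟨z, zH⟩ : H)} : Set H)) :=
    IsPGroup.of_card (n := 2) (by rw [hc]; norm_num)
  obtain ⟨P, hP⟩ := h2.exists_le_sylow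
  refine ⟨P, (Subgroup.eq_of_le_of_card_ge hP ?_).symm⟩
  obtain ⟨k, hk⟩ := IsPGroup.iff_card.mp P.isPGroup'
  have hd : Nat.card (P : Subgroup H) ∣ Nat.card H := Subgroup.card_subgroup_dvd_card _
  have hk3 : k < 3 := by
    by_contra hk3
    push Not at hk3
    apply h.not_8_dvd hH
    have h3 : 2 ^ 3 ∣ 2 ^ k := pow_dvd_pow 2 hk3
    rw [← hk] at h3
    exact h3.trans hd
  rw [hk, hc]
  interval_cases k <;> norm_num

/-- Burnside: if `C_H(z)` is self-normalizing in `H` then `H` has a normal `2`-complement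
containing every element of odd order. -/
theorem D8Cent.exists_complement (h : D8Cent z) (hH : H.index = 2) {zH : z ∈ H}
    (hN : ∀ n : H, n ∈ normalizer ((centralizer ({(⟨z, zH⟩ : H)} : Set H) : Subgroup H) : Set H) →
      n ∈ centralizer ({(⟨z, zH⟩ : H)} : Set H)) :
    ∃ K : Subgroup H, K.Normal ∧ Nat.card K * 4 = Nat.card H ∧
      ∀ x : H, Odd (orderOf x) → x ∈ K := by
  haveI : Fact (Nat.Prime 2) := ⟨Nat.prime_two⟩
  obtain ⟨P, hP⟩ := h.exists_sylowH hH (zH := zH)
  have hc := h.card_centH hH (zH := zH)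
  have hcomm : IsMulCommutative (centralizer ({(⟨z, zH⟩ : H)} : Set H)) :=
    IsPGroup.isMulCommutative_of_card_eq_prime_sq (p := 2) (by rw [hc]; norm_num)
  have hPN : normalizer ((P : Subgroup H) : Set H) ≤ centralizer ((P : Subgroup H) : Set H) := by
    intro n hn
    rw [hP] at hn ⊢
    have hn' := hN n hn
    rw [Subgroup.mem_centralizer_iff]
    intro c hc'
    have h1 := hcomm.is_comm.comm (⟨c, hc'⟩ : centralizer ({(⟨z, zH⟩ : H)} : Set H)) ⟨n, hn'⟩
    exact congrArg Subtype.val h1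
  have hcP : Nat.card (P : Subgroup H) = 4 := by rw [hP, hc]
  refine ⟨(MonoidHom.transferSylow P hPN).ker, inferInstance, ?_, ?_⟩
  · have h1 := (MonoidHom.ker_transferSylow_isComplement' P hPN).card_mul_card
    rw [hcP] at h1
    exact h1
  · intro x hx
    rw [MonoidHom.mem_ker]
    have h1 : orderOf (MonoidHom.transferSylow P hPN x) ∣ orderOf x := orderOf_map_dvd _ x
    have h2 : orderOf (MonoidHom.transferSylow P hPN x) ∣ 4 := by
      have h3 := orderOf_dvd_natCard (MonoidHom.transferSylow P hPN x)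
      rw [hcP] at h3
      exact h3
    have h3 : Odd (orderOf (MonoidHom.transferSylow P hPN x)) := hx.of_dvd_nat h1
    have h4 : orderOf (MonoidHom.transferSylow P hPN x) ≤ 4 := Nat.le_of_dvd (by norm_num) h2
    rw [← orderOf_eq_one_iff]
    generalize orderOf (MonoidHom.transferSylow P hPN x) = d at h2 h3 h4
    interval_cases d <;> simp_all (config := {decide := true})

/-- Case B-II: `z` is isolated in `H`; then `G = C · O` with `O` normal of odd order. -/
theorem D8Cent.isolated_case (h : D8Cent z) (hH : H.index = 2)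
    (hiso : ∀ g ∈ H, g * z * g⁻¹ ∈ centralizer ({z} : Set G) → g * z * g⁻¹ = z) :
    ∃ O : Subgroup G, O.Normal ∧ (Nat.card O).Coprime 2 ∧ centralizer ({z} : Set G) ⊔ O = ⊤ := by
  have hHn : H.Normal := normal_of_index_eq_two hH
  have zH : z ∈ H := h.z_mem_of_index_two hH
  obtain ⟨K, hKn, hKc, hKo⟩ := h.exists_complement hH (zH := zH) (by
    intro n hn
    rw [Subgroup.mem_normalizer_iff] at hn
    have h1 := (hn ⟨z, zH⟩).mp (mem_centH.mpr h.zC)
    have h2 := mem_centH.mp h1
    have h3 := hiso n n.2 (by simpa using h2)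
    apply mem_centH.mpr
    apply mem_cent.mpr
    calc (n : G) * z = ((n : G) * z * (n : G)⁻¹) * n := by group
      _ = z * n := by rw [h3])
  have h2G := D8Cent.card_eq_two_mul hH
  have hKodd : Odd (Nat.card K) := by
    rw [← Nat.not_even_iff_odd]
    rintro ⟨k, hk⟩
    apply h.not_16_dvd
    exact ⟨k, by omega⟩
  have hinj : Function.Injective H.subtype := Subgroup.subtype_injective H
  have hOc : Nat.card (K.map H.subtype) = Nat.card K := Subgroup.card_map_of_injective hinj
  refine ⟨K.map H.subtype, ⟨?_⟩, ?_, ?_⟩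
  · rintro x ⟨k, hk, rfl⟩ g
    have hkodd : Odd (orderOf k) := by
      have h1 := orderOf_dvd_natCard (⟨k, hk⟩ : K)
      rw [Subgroup.orderOf_mk] at h1
      exact hKodd.of_dvd_nat h1
    refine ⟨⟨g * k * g⁻¹, hHn.conj_mem k k.2 g⟩, hKo _ ?_, rfl⟩
    have h1 : orderOf (⟨g * k * g⁻¹, hHn.conj_mem k k.2 g⟩ : H) = orderOf (g * (k : G) * g⁻¹) :=
      (Subgroup.orderOf_coe _).symm
    have h2 : orderOf (g * (k : G) * g⁻¹) = orderOf (k : G) :=
      MulEquiv.orderOf_eq (MulAut.conj g) (k : G)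
    rw [h1, h2, Subgroup.orderOf_coe]
    exact hkodd
  · rw [hOc]; exact Nat.coprime_two_right.mpr hKodd
  · apply Subgroup.eq_top_of_card_eq
    have h8 : 8 ∣ Nat.card (centralizer ({z} : Set G) ⊔ K.map H.subtype : Subgroup G) := by
      rw [← h.card]; exact Subgroup.card_dvd_of_le le_sup_left
    have hk : Nat.card K ∣ Nat.card (centralizer ({z} : Set G) ⊔ K.map H.subtype : Subgroup G) := by
      rw [← hOc]; exact Subgroup.card_dvd_of_le le_sup_right
    have hcop : Nat.Coprime 8 (Nat.card K) := by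
      have : Nat.Coprime (2 ^ 3) (Nat.card K) :=
        Nat.Coprime.pow_left 3 (Nat.coprime_two_left.mpr hKodd)
      simpa using this
    have hdvd := Nat.Coprime.mul_dvd_of_dvd_of_dvd hcop h8 hk
    have hle := Nat.le_of_dvd Nat.card_pos hdvd
    have hle2 := Subgroup.card_le_card_group (centralizer ({z} : Set G) ⊔ K.map H.subtype)
    omega


/-- Case B-I data: `H` has index two and `z₂ ≠ z` is an `H`-conjugate of `z` commuting with `z`. -/
structure Fused (z : G) (H : Subgroup G) (z2 : G) : Prop where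
  hH : H.index = 2
  conj : ∃ h0 ∈ H, h0 * z * h0⁻¹ = z2
  comm : z2 * z = z * z2
  ne : z2 ≠ z

namespace Fused

variable {z2 : G}

theorem normal (f : Fused z H z2) : H.Normal := normal_of_index_eq_two f.hH

theorem z2_ne_one (h : D8Cent z) (f : Fused z H z2) : z2 ≠ 1 := by
  obtain ⟨h0, -, rfl⟩ := f.conj
  intro h1
  exact h.z1 (conj_eq_one_iff.mp h1)

theorem z2_sq (h : D8Cent z) (f : Fused z H z2) : z2 * z2 = 1 := by
  obtain ⟨h0, -, rfl⟩ := f.conj
  calc h0 * z * h0⁻¹ * (h0 * z * h0⁻¹) = h0 * (z * z) * h0⁻¹ := by group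
    _ = 1 := by rw [h.zz]; group

theorem z_mem (h : D8Cent z) (f : Fused z H z2) : z ∈ H := h.z_mem_of_index_two f.hH

theorem z2_mem (h : D8Cent z) (f : Fused z H z2) : z2 ∈ H := by
  obtain ⟨h0, hh0, rfl⟩ := f.conj
  exact H.mul_mem (H.mul_mem hh0 (f.z_mem h)) (H.inv_mem hh0)

theorem z2_memC (f : Fused z H z2) : z2 ∈ centralizer ({z} : Set G) := mem_cent.mpr f.comm

theorem z2_inv (h : D8Cent z) (f : Fused z H z2) : z2⁻¹ = z2 := inv_eq_self_of_sq (f.z2_sq h)

/-- The four elements of `V = C ∩ H`. -/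
theorem elems (h : D8Cent z) (f : Fused z H z2) :
    ∀ v ∈ (centralizer ({z} : Set G) ⊓ H : Subgroup G), v = 1 ∨ v = z ∨ v = z2 ∨ v = z * z2 :=
  four_elems (h.card_inf f.hH) (Subgroup.mem_inf.mpr ⟨h.zC, f.z_mem h⟩)
    (Subgroup.mem_inf.mpr ⟨f.z2_memC, f.z2_mem h⟩) h.z1 (f.z2_ne_one h) f.ne h.zz

theorem zz2_sq (h : D8Cent z) (f : Fused z H z2) : z * z2 * (z * z2) = 1 := by
  calc z * z2 * (z * z2) = z * (z2 * z) * z2 := by group
    _ = z * (z * z2) * z2 := by rw [f.comm]
    _ = (z * z) * (z2 * z2) := by group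
    _ = 1 := by rw [h.zz, f.z2_sq h, one_mul]

theorem zz2_ne_one (h : D8Cent z) (f : Fused z H z2) : z * z2 ≠ 1 := by
  intro h1
  apply f.ne
  have h2 : z2 = z⁻¹ := (inv_eq_of_mul_eq_one_right h1).symm
  rw [h2, h.zinv]

/-- An element of `C` outside `H` swaps `z₂` and `z z₂`. -/
theorem conj_of_not_mem (h : D8Cent z) (f : Fused z H z2) {u : G}
    (hu : u ∈ centralizer ({z} : Set G)) (huH : u ∉ H) : u * z2 * u⁻¹ = z * z2 := by
  have hHn := f.normal
  have h1 : u * z2 * u⁻¹ ∈ (centralizer ({z} : Set G) ⊓ H : Subgroup G) :=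
    Subgroup.mem_inf.mpr ⟨Subgroup.mul_mem _ (Subgroup.mul_mem _ hu f.z2_memC)
      (Subgroup.inv_mem _ hu), hHn.conj_mem _ (f.z2_mem h) u⟩
  have huz : u * z = z * u := mem_cent.mp hu
  rcases f.elems h _ h1 with h2 | h2 | h2 | h2
  · exact absurd (conj_eq_one_iff.mp h2) (f.z2_ne_one h)
  · exfalso
    apply f.ne
    have h3 : z2 = u⁻¹ * z * u := by rw [← h2]; group
    rw [h3, mul_assoc, ← huz]; group
  · exfalso
    -- `z₂` commutes with `u`, hence with all of `C`
    have hu2 : u * z2 = z2 * u := by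
      calc u * z2 = (u * z2 * u⁻¹) * u := by group
        _ = z2 * u := by rw [h2]
    have h3 := h.cen z2 f.z2_memC (by
      intro d hd
      by_cases hdH : d ∈ H
      · rcases f.elems h d (Subgroup.mem_inf.mpr ⟨hd, hdH⟩) with rfl | rfl | rfl | rfl
        · simp
        · exact f.comm
        · rfl
        · calc z2 * (z * z2) = (z2 * z) * z2 := by group
            _ = z * z2 * z2 := by rw [f.comm]
      · -- `u⁻¹ d ∈ V`
        have h4 : u⁻¹ * d ∈ H := by
          rw [mul_mem_iff_of_index_two f.hH, inv_mem_iff]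
          tauto
        have h5 : u⁻¹ * d ∈ (centralizer ({z} : Set G) ⊓ H : Subgroup G) :=
          Subgroup.mem_inf.mpr ⟨Subgroup.mul_mem _ (Subgroup.inv_mem _ hu) hd, h4⟩
        have h6 : z2 * (u⁻¹ * d) = (u⁻¹ * d) * z2 := by
          rcases f.elems h _ h5 with h7 | h7 | h7 | h7
          · rw [h7]; simp
          · rw [h7]; exact f.comm
          · rw [h7]
          · rw [h7]
            calc z2 * (z * z2) = (z2 * z) * z2 := by group
              _ = z * z2 * z2 := by rw [f.comm]
        calc z2 * d = (z2 * u) * (u⁻¹ * d) := by group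
          _ = (u * z2) * (u⁻¹ * d) := by rw [hu2]
          _ = u * (z2 * (u⁻¹ * d)) := by group
          _ = u * ((u⁻¹ * d) * z2) := by rw [h6]
          _ = d * z2 := by group)
    rcases h3 with h3 | h3
    · exact f.z2_ne_one h h3
    · exact f.ne h3
  · exact h2

/-- `z z₂` is an `H`-conjugate of `z`. -/
theorem conj3 (h : D8Cent z) (f : Fused z H z2) : ∃ h3 ∈ H, h3 * z * h3⁻¹ = z * z2 := by
  have hHn := f.normal
  obtain ⟨u, hu, huH⟩ := SetLike.not_le_iff_exists.mp (h.not_le_of_index_two f.hH)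
  obtain ⟨h0, hh0, hz2⟩ := f.conj
  have huz : u * z = z * u := mem_cent.mp hu
  refine ⟨u * h0 * u⁻¹, hHn.conj_mem _ hh0 u, ?_⟩
  rw [← f.conj_of_not_mem h hu huH, ← hz2]
  calc u * h0 * u⁻¹ * z * (u * h0 * u⁻¹)⁻¹ = u * h0 * (u⁻¹ * z * u) * h0⁻¹ * u⁻¹ := by group
    _ = u * h0 * z * h0⁻¹ * u⁻¹ := by
        have : u⁻¹ * z * u = z := by rw [mul_assoc, ← huz]; group
        rw [this]
    _ = u * (h0 * z * h0⁻¹) * u⁻¹ := by group

/-- The centralizer of `z₂` in `C` lies in `H`. -/
theorem mem_of_comm (h : D8Cent z) (f : Fused z H z2) {c : G}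
    (hc : c ∈ centralizer ({z} : Set G)) (hc2 : c * z2 = z2 * c) : c ∈ H := by
  by_contra hcH
  have h1 := f.conj_of_not_mem h hc hcH
  have h2 : c * z2 * c⁻¹ = z2 := by rw [hc2]; group
  rw [h2] at h1
  apply h.z1
  have h3 : z * z2 = 1 * z2 := by rw [one_mul]; exact h1.symm
  exact mul_right_cancel h3

/-- Every involution of `V` is an `H`-conjugate of `z`. -/
theorem conj_of_mem (h : D8Cent z) (f : Fused z H z2) {v : G}
    (hv : v ∈ (centralizer ({z} : Set G) ⊓ H : Subgroup G)) (hv1 : v ≠ 1) :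
    ∃ k ∈ H, k * z * k⁻¹ = v := by
  rcases f.elems h v hv with rfl | rfl | rfl | rfl
  · exact absurd rfl hv1
  · exact ⟨1, H.one_mem, by group⟩
  · exact f.conj
  · exact f.conj3 h

/-- `H` is a group in which all involutions are conjugate with four-group centralizers. -/
theorem fc (h : D8Cent z) (f : Fused z H z2) : FC H := by
  haveI : Fact (Nat.Prime 2) := ⟨Nat.prime_two⟩
  have zH := f.z_mem h
  obtain ⟨P, hP⟩ := h.exists_sylowH f.hH (zH := zH)
  apply FC.of_conj (x := (⟨z, zH⟩ : H)) (h.card_centH f.hH)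
  · intro c hc
    have h1 : (c : G) ∈ (centralizer ({z} : Set G) ⊓ H : Subgroup G) :=
      Subgroup.mem_inf.mpr ⟨mem_cent.mpr (congrArg Subtype.val hc), c.2⟩
    apply Subtype.ext
    rcases f.elems h _ h1 with h2 | h2 | h2 | h2
    · simp [h2]
    · simp [h2, h.zz]
    · simp [h2, f.z2_sq h]
    · simp only [Subgroup.coe_mul, h2, Subgroup.coe_one]; exact f.zz2_sq h
  · intro t ht1 ht
    have hto : orderOf t = 2 := by
      rw [orderOf_eq_prime_iff]
      exact ⟨by rw [pow_two]; exact ht, ht1⟩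
    have h2 : IsPGroup 2 (zpowers t) :=
      IsPGroup.of_card (n := 1) (by rw [Nat.card_zpowers, hto]; norm_num)
    obtain ⟨Q, hQ⟩ := h2.exists_le_sylow
    obtain ⟨g, hg⟩ := MulAction.exists_smul_eq H Q P
    have htQ : t ∈ (Q : Subgroup H) := hQ (Subgroup.mem_zpowers t)
    have h3 : g * t * g⁻¹ ∈ (P : Subgroup H) := by
      rw [← hg, Sylow.coe_subgroup_smul]
      have h4 := Subgroup.smul_mem_pointwise_smul t (MulAut.conj g) (Q : Subgroup H) htQ
      simpa [MulAut.smul_def] using h4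
    rw [hP] at h3
    have h4 : ((g * t * g⁻¹ : H) : G) ∈ (centralizer ({z} : Set G) ⊓ H : Subgroup G) :=
      Subgroup.mem_inf.mpr ⟨mem_centH.mp h3, (g * t * g⁻¹).2⟩
    have h5 : ((g * t * g⁻¹ : H) : G) ≠ 1 := by
      intro h5
      apply ht1
      have h6 : g * t * g⁻¹ = 1 := Subtype.ext h5
      exact conj_eq_one_iff.mp h6
    obtain ⟨k, hk, hkz⟩ := f.conj_of_mem h h4 h5
    refine ⟨g⁻¹ * ⟨k, hk⟩, ?_⟩
    apply Subtype.ext
    have h6 : ((g⁻¹ * ⟨k, hk⟩ * ⟨z, zH⟩ * (g⁻¹ * ⟨k, hk⟩)⁻¹ : H) : G) =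
        (g : G)⁻¹ * (k * z * k⁻¹) * g := by
      simp only [Subgroup.coe_mul, Subgroup.coe_inv, mul_inv_rev, inv_inv]; group
    rw [h6, hkz]
    simp only [Subgroup.coe_mul, Subgroup.coe_inv]; group


/-- Case (α): all involutions of `H` commute with `z`; then `G ≅ S₄`. -/
theorem case_alpha (h : D8Cent z) (f : Fused z H z2)
    (hα : ∀ t ∈ H, t ≠ 1 → t * t = 1 → t * z = z * t) :
    Nonempty (G ≃* Equiv.Perm (Fin 4)) := by
  classical
  haveI : Fact (Nat.Prime 3) := ⟨Nat.prime_three⟩
  have hHn := f.normal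
  have zH := f.z_mem h
  have hinv : ∀ t ∈ H, t ≠ 1 → t * t = 1 → t = z ∨ t = z2 ∨ t = z * z2 := by
    intro t ht ht1 htt
    have h1 : t ∈ (centralizer ({z} : Set G) ⊓ H : Subgroup G) :=
      Subgroup.mem_inf.mpr ⟨mem_cent.mpr (hα t ht ht1 htt), ht⟩
    rcases f.elems h t h1 with h2 | h2 | h2 | h2
    · exact absurd h2 ht1
    · exact Or.inl h2
    · exact Or.inr (Or.inl h2)
    · exact Or.inr (Or.inr h2)
  have hconjG : ∀ g : G, g * z * g⁻¹ = z ∨ g * z * g⁻¹ = z2 ∨ g * z * g⁻¹ = z * z2 := by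
    intro g
    apply hinv _ (hHn.conj_mem z zH g)
    · intro h1; exact h.z1 (conj_eq_one_iff.mp h1)
    · calc g * z * g⁻¹ * (g * z * g⁻¹) = g * (z * z) * g⁻¹ := by group
        _ = 1 := by rw [h.zz]; group
  have hH12 : Nat.card H ≤ 12 := by
    have h1 := card_le_of_conj_mem H z ({z, z2, z * z2} : Finset G) (by
      intro l _
      simp only [Finset.mem_insert, Finset.mem_singleton]
      exact hconjG l)
    have h2 : (({z, z2, z * z2} : Finset G)).card ≤ 3 := Finset.card_le_three
    have h3 : Nat.card (H ⊓ centralizer ({z} : Set G) : Subgroup G) = 4 := by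
      rw [inf_comm]; exact h.card_inf f.hH
    rw [h3] at h1
    calc Nat.card H ≤ _ * 4 := h1
      _ ≤ 3 * 4 := Nat.mul_le_mul_right 4 h2
  have h2G := D8Cent.card_eq_two_mul (G := G) f.hH
  have h8 : 8 ∣ Nat.card G := by rw [← h.card]; exact Subgroup.card_subgroup_dvd_card _
  have hG24 : Nat.card G = 24 := by
    obtain ⟨k, hk⟩ := h8
    have hk3 : k ≤ 3 := by omega
    have hk0 : 0 < k := by have := Nat.card_pos (α := G); omega
    have h16 := h.not_16_dvd
    interval_cases k
    · exfalso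
      have hCtop : centralizer ({z} : Set G) = ⊤ :=
        Subgroup.eq_top_of_card_eq _ (by rw [h.card, hk])
      obtain ⟨h0, hh0, hz2⟩ := f.conj
      apply f.ne
      have h1 : h0 ∈ centralizer ({z} : Set G) := by rw [hCtop]; exact Subgroup.mem_top _
      have h2 := mem_cent.mp h1
      rw [← hz2, h2]; group
    · exfalso; exact h16 ⟨1, by omega⟩
    · omega
  -- Sylow 3-subgroups
  obtain ⟨P⟩ : Nonempty (Sylow 3 G) := inferInstance
  have hPcard : Nat.card (P : Subgroup G) = 3 := by
    obtain ⟨k, hk⟩ := IsPGroup.iff_card.mp P.isPGroup'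
    have hd : Nat.card (P : Subgroup G) ∣ 24 := by
      rw [← hG24]; exact Subgroup.card_subgroup_dvd_card _
    have h3 : 3 ∣ Nat.card (P : Subgroup G) := P.dvd_card_of_dvd_card (by rw [hG24]; norm_num)
    rw [hk] at hd h3 ⊢
    have hk2 : k < 2 := by
      by_contra hk2
      push Not at hk2
      have h4 : 3 ^ 2 ∣ 3 ^ k := pow_dvd_pow 3 hk2
      have h5 := h4.trans hd
      norm_num at h5
    interval_cases k
    · norm_num at h3
    · norm_num
  have hidx : (P : Subgroup G).index = 8 := by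
    have h1 := (P : Subgroup G).card_mul_index
    rw [hPcard, hG24] at h1; omega
  have hn3 : Nat.card (Sylow 3 G) = 4 := by
    have h1 : Nat.card (Sylow 3 G) % 3 = 1 := card_sylow_modEq_one 3 G
    have h2 := P.card_dvd_index
    rw [hidx] at h2
    have h3 : Nat.card (Sylow 3 G) ≤ 8 := Nat.le_of_dvd (by norm_num) h2
    have h4 : Nat.card (Sylow 3 G) ≠ 1 := by
      intro h4
      haveI : Subsingleton (Sylow 3 G) := (Nat.card_eq_one_iff_unique.mp h4).1
      have hPn : (P : Subgroup G).Normal := Sylow.normal_of_subsingleton P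
      obtain ⟨y, hyP, hy1⟩ : ∃ y ∈ (P : Subgroup G), y ≠ 1 := by
        by_contra hcon
        push Not at hcon
        have h5 : (P : Subgroup G) = ⊥ := (Subgroup.eq_bot_iff_forall _).mpr hcon
        rw [h5, Subgroup.card_bot] at hPcard; omega
      have hy3 := pow_three_of_card_three hPcard hyP
      have hNC : ∀ g : G, (g * z * g⁻¹) * y ≠ y * (g * z * g⁻¹) := by
        intro g hcomm
        have hyC : g⁻¹ * y * g ∈ centralizer ({z} : Set G) := by
          apply mem_cent.mpr
          calc g⁻¹ * y * g * z = g⁻¹ * (y * (g * z * g⁻¹)) * g := by group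
            _ = g⁻¹ * ((g * z * g⁻¹) * y) * g := by rw [hcomm]
            _ = z * (g⁻¹ * y * g) := by group
        have ho : orderOf (g⁻¹ * y * g) = orderOf y := by
          have h5 := MulEquiv.orderOf_eq (MulAut.conj g⁻¹) y
          simpa [MulAut.conj_apply] using h5
        have h8' : orderOf (g⁻¹ * y * g) ∣ 8 := by
          have h5 := orderOf_dvd_natCard (⟨g⁻¹ * y * g, hyC⟩ : centralizer ({z} : Set G))
          rwa [Subgroup.orderOf_mk, h.card] at h5
        have h3' : orderOf (g⁻¹ * y * g) ∣ 3 := by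
          rw [ho]; exact orderOf_dvd_of_pow_eq_one hy3
        have h5 : orderOf (g⁻¹ * y * g) ∣ Nat.gcd 8 3 := Nat.dvd_gcd h8' h3'
        have h6 : orderOf (g⁻¹ * y * g) = 1 := Nat.dvd_one.mp (by simpa using h5)
        rw [ho, orderOf_eq_one_iff] at h6
        exact hy1 h6
      have hINV : ∀ g : G, (g * z * g⁻¹) * y * (g * z * g⁻¹)⁻¹ = y⁻¹ := by
        intro g
        rcases three_elems hPcard hyP hy1 _ (hPn.conj_mem y hyP (g * z * g⁻¹)) with h5 | h5 | h5
        · exact absurd (conj_eq_one_iff.mp h5) hy1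
        · exfalso
          apply hNC g
          calc g * z * g⁻¹ * y = (g * z * g⁻¹ * y * (g * z * g⁻¹)⁻¹) * (g * z * g⁻¹) := by group
            _ = y * (g * z * g⁻¹) := by rw [h5]
        · exact h5
      have i1 : z * y * z⁻¹ = y⁻¹ := by simpa using hINV 1
      have i2 : z2 * y * z2⁻¹ = y⁻¹ := by
        obtain ⟨h0, -, hz2⟩ := f.conj
        have h5 := hINV h0
        rwa [hz2] at h5
      have i3 : (z * z2) * y * (z * z2)⁻¹ = y⁻¹ := by
        obtain ⟨h3, -, hz3⟩ := f.conj3 h
        have h5 := hINV h3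
        rwa [hz3] at h5
      have i4 : (z * z2) * y * (z * z2)⁻¹ = y := by
        calc (z * z2) * y * (z * z2)⁻¹ = z * (z2 * y * z2⁻¹) * z⁻¹ := by group
          _ = z * y⁻¹ * z⁻¹ := by rw [i2]
          _ = (z * y * z⁻¹)⁻¹ := by group
          _ = y := by rw [i1, inv_inv]
      exact inv_ne_self_of_pow_three hy3 hy1 (i3.symm.trans i4)
    generalize Nat.card (Sylow 3 G) = n at h1 h2 h3 h4
    interval_cases n <;> omega
  have hidx4 : (normalizer ((P : Subgroup G) : Set G)).index = 4 := by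
    have h1 := Sylow.card_eq_index_normalizer P
    rw [hn3] at h1
    exact h1.symm
  have hN6 : Nat.card (normalizer ((P : Subgroup G) : Set G)) = 6 := by
    have h1 := (normalizer ((P : Subgroup G) : Set G)).card_mul_index
    rw [hidx4, hG24] at h1; omega
  have hcore : (normalizer ((P : Subgroup G) : Set G)).normalCore = ⊥ := by
    have hKn : ((normalizer ((P : Subgroup G) : Set G)).normalCore).Normal :=
      Subgroup.normalCore_normal _
    have hKle : (normalizer ((P : Subgroup G) : Set G)).normalCore ≤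
        normalizer ((P : Subgroup G) : Set G) := Subgroup.normalCore_le _
    generalize (normalizer ((P : Subgroup G) : Set G)).normalCore = K at hKn hKle
    have hzK : z ∉ K := by
      intro hzK
      have hz2K : z2 ∈ K := by
        obtain ⟨h0, -, rfl⟩ := f.conj
        exact hKn.conj_mem z hzK h0
      have hV : (centralizer ({z} : Set G) ⊓ H : Subgroup G) ≤ K := by
        intro v hv
        rcases f.elems h v hv with rfl | rfl | rfl | rfl
        exacts [K.one_mem, hzK, hz2K, K.mul_mem hzK hz2K]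
      have h1 := Subgroup.card_dvd_of_le (hV.trans hKle)
      rw [h.card_inf f.hH, hN6] at h1
      norm_num at h1
    have hK1 : ∀ v ∈ (centralizer ({z} : Set G) ⊓ H : Subgroup G), v ∈ K → v = 1 := by
      intro v hv hvK
      by_contra hv1
      obtain ⟨k, -, rfl⟩ := f.conj_of_mem h hv hv1
      apply hzK
      have h1 := hKn.conj_mem _ hvK k⁻¹
      have h2 : k⁻¹ * (k * z * k⁻¹) * k⁻¹⁻¹ = z := by group
      rwa [h2] at h1
    rw [Subgroup.eq_bot_iff_forall]
    intro k hk
    have hVn : ∀ g : G, ∀ v ∈ (centralizer ({z} : Set G) ⊓ H : Subgroup G),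
        g * v * g⁻¹ ∈ (centralizer ({z} : Set G) ⊓ H : Subgroup G) := by
      intro g v hv
      by_cases hv1 : v = 1
      · subst hv1
        have h1 : g * 1 * g⁻¹ = 1 := by group
        rw [h1]; exact Subgroup.one_mem _
      · have hvH : v ∈ H := (Subgroup.mem_inf.mp hv).2
        have hvv : v * v = 1 := by
          rcases f.elems h v hv with rfl | rfl | rfl | rfl
          · simp
          · exact h.zz
          · exact f.z2_sq h
          · exact f.zz2_sq h
        have h1 : g * v * g⁻¹ ∈ H := hHn.conj_mem v hvH g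
        have h2 : g * v * g⁻¹ ≠ 1 := fun h => hv1 (conj_eq_one_iff.mp h)
        have h3 : g * v * g⁻¹ * (g * v * g⁻¹) = 1 := by
          calc g * v * g⁻¹ * (g * v * g⁻¹) = g * (v * v) * g⁻¹ := by group
            _ = 1 := by rw [hvv]; group
        exact Subgroup.mem_inf.mpr ⟨mem_cent.mpr (hα _ h1 h2 h3), h1⟩
    have hcomm : ∀ v ∈ (centralizer ({z} : Set G) ⊓ H : Subgroup G), k * v = v * k := by
      intro v hv
      have h1 : k * v * k⁻¹ * v⁻¹ ∈ K := by
        have e : k * v * k⁻¹ * v⁻¹ = k * (v * k⁻¹ * v⁻¹) := by group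
        rw [e]
        exact K.mul_mem hk (hKn.conj_mem _ (K.inv_mem hk) v)
      have h2 : k * v * k⁻¹ * v⁻¹ ∈ (centralizer ({z} : Set G) ⊓ H : Subgroup G) :=
        Subgroup.mul_mem _ (hVn k v hv) (Subgroup.inv_mem _ hv)
      have h3 := hK1 _ h2 h1
      calc k * v = (k * v * k⁻¹ * v⁻¹) * (v * k) := by group
        _ = v * k := by rw [h3, one_mul]
    have hkC : k ∈ centralizer ({z} : Set G) :=
      mem_cent.mpr (hcomm z (Subgroup.mem_inf.mpr ⟨h.zC, zH⟩))
    have hkH : k ∈ H :=
      f.mem_of_comm h hkC (hcomm z2 (Subgroup.mem_inf.mpr ⟨f.z2_memC, f.z2_mem h⟩))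
    exact hK1 k (Subgroup.mem_inf.mpr ⟨hkC, hkH⟩) hk
  exact nonempty_equiv_perm_of_normalCore _ hidx4 hcore (by rw [hG24]; rfl)

/-- Case (β): `H` is simple of order `60`; then `G ≅ S₅`. -/
theorem case_beta (h : D8Cent z) (f : Fused z H z2) (h60 : Nat.card H = 60)
    (hsimple : ∀ N : Subgroup H, N.Normal → N = ⊥ ∨ N = ⊤) :
    Nonempty (G ≃* Equiv.Perm (Fin 5)) := by
  classical
  have hHn := f.normal
  have zH := f.z_mem h
  have hG : Nat.card G = 120 := by rw [D8Cent.card_eq_two_mul f.hH, h60]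
  have hCN : centralizer ({z} : Set G) ≤
      normalizer ((centralizer ({z} : Set G) ⊓ H : Subgroup G) : Set G) := by
    intro c hc
    rw [Subgroup.mem_normalizer_iff]
    intro v
    constructor
    · intro hv
      exact Subgroup.mem_inf.mpr ⟨Subgroup.mul_mem _ (Subgroup.mul_mem _ hc
        (Subgroup.mem_inf.mp hv).1) (Subgroup.inv_mem _ hc),
        hHn.conj_mem _ (Subgroup.mem_inf.mp hv).2 c⟩
    · intro hv
      have h1 : v = c⁻¹ * (c * v * c⁻¹) * c := by group
      rw [h1]
      refine Subgroup.mem_inf.mpr ⟨Subgroup.mul_mem _ (Subgroup.mul_mem _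
        (Subgroup.inv_mem _ hc) (Subgroup.mem_inf.mp hv).1) hc, ?_⟩
      have h2 := hHn.conj_mem _ (Subgroup.mem_inf.mp hv).2 c⁻¹
      simpa using h2
  have hN24le : Nat.card (normalizer ((centralizer ({z} : Set G) ⊓ H : Subgroup G) : Set G)) ≤
      24 := by
    have h1 := card_le_of_conj_mem
      (normalizer ((centralizer ({z} : Set G) ⊓ H : Subgroup G) : Set G)) z
      ({z, z2, z * z2} : Finset G) (by
      intro l hl
      rw [Subgroup.mem_normalizer_iff] at hl
      have h2 := (hl z).mp (Subgroup.mem_inf.mpr ⟨h.zC, zH⟩)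
      simp only [Finset.mem_insert, Finset.mem_singleton]
      rcases f.elems h _ h2 with h3 | h3 | h3 | h3
      · exact absurd (conj_eq_one_iff.mp h3) h.z1
      · exact Or.inl h3
      · exact Or.inr (Or.inl h3)
      · exact Or.inr (Or.inr h3))
    have h2 : (({z, z2, z * z2} : Finset G)).card ≤ 3 := Finset.card_le_three
    have h3 : Nat.card (normalizer ((centralizer ({z} : Set G) ⊓ H : Subgroup G) : Set G) ⊓
        centralizer ({z} : Set G) : Subgroup G) = 8 := by
      rw [inf_eq_right.mpr hCN]; exact h.card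
    rw [h3] at h1
    calc _ ≤ _ * 8 := h1
      _ ≤ 3 * 8 := Nat.mul_le_mul_right 8 h2
  have h8N : 8 ∣ Nat.card (normalizer ((centralizer ({z} : Set G) ⊓ H : Subgroup G) : Set G)) := by
    rw [← h.card]; exact Subgroup.card_dvd_of_le hCN
  have hNd : Nat.card (normalizer ((centralizer ({z} : Set G) ⊓ H : Subgroup G) : Set G)) ∣
      120 := by
    rw [← hG]; exact Subgroup.card_subgroup_dvd_card _
  have hN24 : Nat.card (normalizer ((centralizer ({z} : Set G) ⊓ H : Subgroup G) : Set G)) =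
      24 := by
    obtain ⟨k, hk⟩ := h8N
    have hk3 : k ≤ 3 := by omega
    have hk0 : 0 < k := by
      have := Nat.card_pos
        (α := normalizer ((centralizer ({z} : Set G) ⊓ H : Subgroup G) : Set G))
      omega
    interval_cases k
    · exfalso
      have hNC : normalizer ((centralizer ({z} : Set G) ⊓ H : Subgroup G) : Set G) =
          centralizer ({z} : Set G) :=
        (Subgroup.eq_of_le_of_card_ge hCN (by rw [h.card, hk])).symm
      obtain ⟨K, hKn, hKc, -⟩ := h.exists_complement f.hH (zH := zH) (by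
        intro n hn
        apply mem_centH.mpr
        rw [← hNC, Subgroup.mem_normalizer_iff]
        rw [Subgroup.mem_normalizer_iff] at hn
        intro v
        constructor
        · intro hv
          have h1 := (hn ⟨v, (Subgroup.mem_inf.mp hv).2⟩).mp
            (mem_centH.mpr (Subgroup.mem_inf.mp hv).1)
          exact Subgroup.mem_inf.mpr ⟨by simpa using mem_centH.mp h1,
            hHn.conj_mem _ (Subgroup.mem_inf.mp hv).2 n⟩
        · intro hv
          have hvH : v ∈ H := by
            have h2 := hHn.conj_mem _ (Subgroup.mem_inf.mp hv).2 (n : G)⁻¹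
            have h3 : (n : G)⁻¹ * ((n : G) * v * (n : G)⁻¹) * (n : G)⁻¹⁻¹ = v := by group
            rwa [h3] at h2
          have h1 := (hn ⟨v, hvH⟩).mpr
            (mem_centH.mpr (by simpa using (Subgroup.mem_inf.mp hv).1))
          exact Subgroup.mem_inf.mpr ⟨mem_centH.mp h1, hvH⟩)
      rcases hsimple K hKn with hK | hK
      · rw [hK, Subgroup.card_bot] at hKc; omega
      · rw [hK, Subgroup.card_top] at hKc; omega
    · exfalso
      rw [hk] at hNd
      norm_num at hNd
    · omega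
  have hidx : (normalizer ((centralizer ({z} : Set G) ⊓ H : Subgroup G) : Set G)).index = 5 := by
    have h1 := (normalizer ((centralizer ({z} : Set G) ⊓ H : Subgroup G) : Set G)).card_mul_index
    rw [hN24, hG] at h1; omega
  have hcore : (normalizer ((centralizer ({z} : Set G) ⊓ H : Subgroup G) : Set G)).normalCore =
      ⊥ := by
    have hKn : ((normalizer ((centralizer ({z} : Set G) ⊓ H : Subgroup G) :
        Set G)).normalCore).Normal := Subgroup.normalCore_normal _
    have hKle : (normalizer ((centralizer ({z} : Set G) ⊓ H : Subgroup G) : Set G)).normalCore ≤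
        normalizer ((centralizer ({z} : Set G) ⊓ H : Subgroup G) : Set G) :=
      Subgroup.normalCore_le _
    generalize (normalizer ((centralizer ({z} : Set G) ⊓ H : Subgroup G) :
      Set G)).normalCore = K at hKn hKle
    have hKH : ∀ k ∈ K, k ∈ H → k = 1 := by
      haveI : (K.subgroupOf H).Normal := inferInstance
      rcases hsimple (K.subgroupOf H) inferInstance with h1 | h1
      · intro k hk hkH
        have h2 : (⟨k, hkH⟩ : H) ∈ K.subgroupOf H := Subgroup.mem_subgroupOf.mpr hk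
        rw [h1, Subgroup.mem_bot] at h2
        exact congrArg Subtype.val h2
      · exfalso
        rw [Subgroup.subgroupOf_eq_top] at h1
        have h2 := Subgroup.card_dvd_of_le (h1.trans hKle)
        rw [h60, hN24] at h2
        norm_num at h2
    rw [Subgroup.eq_bot_iff_forall]
    intro k hk
    by_contra hk1
    have hkH : k ∉ H := fun hkH => hk1 (hKH k hk hkH)
    have hcen : ∀ g : G, g * k = k * g := by
      intro g
      have h1 : g * k * g⁻¹ * k⁻¹ ∈ K := K.mul_mem (hKn.conj_mem k hk g) (K.inv_mem hk)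
      have h2 : g * k * g⁻¹ * k⁻¹ ∈ H := by
        rw [mul_mem_iff_of_index_two f.hH, inv_mem_iff]
        have h3 : g * k * g⁻¹ ∉ H := by
          intro h3
          apply hkH
          have h4 := hHn.conj_mem _ h3 g⁻¹
          have h5 : g⁻¹ * (g * k * g⁻¹) * g⁻¹⁻¹ = k := by group
          rwa [h5] at h4
        tauto
      have h3 := hKH _ h1 h2
      calc g * k = (g * k * g⁻¹ * k⁻¹) * (k * g) := by group
        _ = k * g := by rw [h3, one_mul]
    have hkC : k ∈ centralizer ({z} : Set G) := mem_cent.mpr (hcen z).symm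
    rcases h.cen k hkC (fun d _ => (hcen d).symm) with h1 | h1
    · exact hk1 h1
    · exact hkH (h1 ▸ zH)
  exact nonempty_equiv_perm_of_normalCore _ hidx hcore (by rw [hG]; rfl)

end Fused

/-- **Main theorem (generic half).** If `C_G(z) ≅ D₈` then either `G` has no subgroup of index
two, or `G = C · O` with `O` normal of odd order, or `G ≅ S₄`, or `G ≅ S₅`. -/
theorem D8Cent.main (h : D8Cent z) :
    (∀ H : Subgroup G, H.index ≠ 2) ∨
    (∃ O : Subgroup G, O.Normal ∧ (Nat.card O).Coprime 2 ∧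
      centralizer ({z} : Set G) ⊔ O = ⊤) ∨
    Nonempty (G ≃* Equiv.Perm (Fin 4)) ∨ Nonempty (G ≃* Equiv.Perm (Fin 5)) := by
  by_cases hidx : ∀ H : Subgroup G, H.index ≠ 2
  · exact Or.inl hidx
  right
  push Not at hidx
  obtain ⟨H, hH⟩ := hidx
  by_cases hfus : ∃ h0 ∈ H, h0 * z * h0⁻¹ ∈ centralizer ({z} : Set G) ∧ h0 * z * h0⁻¹ ≠ z
  · obtain ⟨h0, hh0, hc, hne⟩ := hfus
    have f : Fused z H (h0 * z * h0⁻¹) := ⟨hH, ⟨h0, hh0, rfl⟩, mem_cent.mp hc, hne⟩
    have zH := f.z_mem h
    have hFC := f.fc h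
    have hz1 : (⟨z, zH⟩ : H) ≠ 1 := fun h1 => h.z1 (congrArg Subtype.val h1)
    have hzz : (⟨z, zH⟩ : H) * ⟨z, zH⟩ = 1 := Subtype.ext h.zz
    rcases hFC.main hz1 hzz with hα | ⟨h60, hg⟩
    · right; left
      apply Fused.case_alpha h f
      intro t ht ht1 htt
      have h1 := hα ⟨t, ht⟩ (fun h1 => ht1 (congrArg Subtype.val h1)) (Subtype.ext htt)
      exact congrArg Subtype.val h1
    · right; right
      exact Fused.case_beta h f h60 (fun N hN => hFC.eq_bot_or_eq_top hz1 hzz h60 hg N hN)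
  · left
    push Not at hfus
    exact h.isolated_case hH (fun g hg hc => hfus g hg hc)

end Index2

end Cfsg.Agent.Lib.helper1.CentD8
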