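import Mathlib
import Cfsg.Agent.Lib.helper21.M11Defs
import Cfsg.Agent.Lib.helper21.FrobFull

set_option autoImplicit false

/-!
# The arithmetic of the exceptional characters for a simple group of order 7920 (helper1)

Piece C of the S4429 split of helper21: from the data `ExcData P 11 5 ε b S b₀ f₀` of the
exceptional characters of a Sylow `11`-subgroup we get one of the three patterns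
`M11PatI P`, `M11PatII P`, `M11PatIII P`.
-/

namespace Cfsg.Agent.Lib.helper1

open Cfsg Cfsg.Agent.Lib.helper4 Cfsg.Agent.Lib.helper21

universe u

/-- Degrees of the non-exceptional characters with small coefficient. -/
theorem m11c_deg (f : ℕ) (β : ℤ) (hβ : β ^ 2 ≤ 4) (h1 : 1 < f) (hd : f ∣ 7920)
    (hsq : f * f ≤ 7920) (hc : (11 : ℤ) ∣ (f : ℤ) - β) :
    β = 0 ∨ (β = 1 ∧ (f = 12 ∨ f = 45)) ∨ (β = -1 ∧ f = 10) ∨ (β = 2 ∧ (f = 2 ∨ f = 24)) ∨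
      (β = -2 ∧ (f = 9 ∨ f = 20)) := by
  have hf : f ≤ 88 := by nlinarith
  have hβ' : -2 ≤ β ∧ β ≤ 2 := by constructor <;> nlinarith
  interval_cases f <;> omega

/-- The possible degrees of the exceptional characters. -/
theorem m11c_f0 (f₀ : ℕ) (s : ℤ) (hs : s = 1 ∨ s = -1) (hd : f₀ ∣ 7920)
    (hsq : 2 * (f₀ * f₀) ≤ 7920) (hc : (11 : ℤ) ∣ (f₀ : ℤ) - 5 * s) :
    (s = 1 ∧ (f₀ = 5 ∨ f₀ = 16 ∨ f₀ = 60)) ∨ (s = -1 ∧ f₀ = 6) := by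
  have hpos : 0 < f₀ := Nat.pos_of_dvd_of_pos hd (by norm_num)
  have hf : f₀ ≤ 62 := by nlinarith
  interval_cases f₀ <;> omega

/-- The arithmetic core: four characters with coefficients `±1`. -/
theorem m11c_arith4 (b₁ b₂ b₃ b₄ s : ℤ) (f₁ f₂ f₃ f₄ f₀ : ℕ)
    (h₁ : (b₁ = 1 ∧ (f₁ = 12 ∨ f₁ = 45)) ∨ (b₁ = -1 ∧ f₁ = 10))
    (h₂ : (b₂ = 1 ∧ (f₂ = 12 ∨ f₂ = 45)) ∨ (b₂ = -1 ∧ f₂ = 10))
    (h₃ : (b₃ = 1 ∧ (f₃ = 12 ∨ f₃ = 45)) ∨ (b₃ = -1 ∧ f₃ = 10))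
    (h₄ : (b₄ = 1 ∧ (f₄ = 12 ∨ f₄ = 45)) ∨ (b₄ = -1 ∧ f₄ = 10))
    (hs : (s = 1 ∧ (f₀ = 5 ∨ f₀ = 16 ∨ f₀ = 60)) ∨ (s = -1 ∧ f₀ = 6))
    (hdeg : 1 + (b₁ * f₁ + (b₂ * f₂ + (b₃ * f₃ + b₄ * f₄))) = s * f₀)
    (hsq : f₁ * f₁ + f₂ * f₂ + f₃ * f₃ + f₄ * f₄ + 2 * (f₀ * f₀) ≤ 7920) :
    s = 1 ∧
    ((f₀ = 16 ∧ b₁ = 1 ∧ f₁ = 45 ∧ b₂ = -1 ∧ f₂ = 10 ∧ b₃ = -1 ∧ f₃ = 10 ∧ b₄ = -1 ∧ f₄ = 10) ∨
     (f₀ = 16 ∧ b₁ = -1 ∧ f₁ = 10 ∧ b₂ = 1 ∧ f₂ = 45 ∧ b₃ = -1 ∧ f₃ = 10 ∧ b₄ = -1 ∧ f₄ = 10) ∨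
     (f₀ = 16 ∧ b₁ = -1 ∧ f₁ = 10 ∧ b₂ = -1 ∧ f₂ = 10 ∧ b₃ = 1 ∧ f₃ = 45 ∧ b₄ = -1 ∧ f₄ = 10) ∨
     (f₀ = 16 ∧ b₁ = -1 ∧ f₁ = 10 ∧ b₂ = -1 ∧ f₂ = 10 ∧ b₃ = -1 ∧ f₃ = 10 ∧ b₄ = 1 ∧ f₄ = 45) ∨
     (f₀ = 5 ∧ b₁ = 1 ∧ f₁ = 12 ∧ b₂ = 1 ∧ f₂ = 12 ∧ b₃ = -1 ∧ f₃ = 10 ∧ b₄ = -1 ∧ f₄ = 10) ∨
     (f₀ = 5 ∧ b₁ = 1 ∧ f₁ = 12 ∧ b₂ = -1 ∧ f₂ = 10 ∧ b₃ = 1 ∧ f₃ = 12 ∧ b₄ = -1 ∧ f₄ = 10) ∨
     (f₀ = 5 ∧ b₁ = 1 ∧ f₁ = 12 ∧ b₂ = -1 ∧ f₂ = 10 ∧ b₃ = -1 ∧ f₃ = 10 ∧ b₄ = 1 ∧ f₄ = 12) ∨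
     (f₀ = 5 ∧ b₁ = -1 ∧ f₁ = 10 ∧ b₂ = 1 ∧ f₂ = 12 ∧ b₃ = 1 ∧ f₃ = 12 ∧ b₄ = -1 ∧ f₄ = 10) ∨
     (f₀ = 5 ∧ b₁ = -1 ∧ f₁ = 10 ∧ b₂ = 1 ∧ f₂ = 12 ∧ b₃ = -1 ∧ f₃ = 10 ∧ b₄ = 1 ∧ f₄ = 12) ∨
     (f₀ = 5 ∧ b₁ = -1 ∧ f₁ = 10 ∧ b₂ = -1 ∧ f₂ = 10 ∧ b₃ = 1 ∧ f₃ = 12 ∧ b₄ = 1 ∧ f₄ = 12)) := by
  rcases h₁ with ⟨rfl, rfl | rfl⟩ | ⟨rfl, rfl⟩ <;>
  rcases h₂ with ⟨rfl, rfl | rfl⟩ | ⟨rfl, rfl⟩ <;>
  rcases h₃ with ⟨rfl, rfl | rfl⟩ | ⟨rfl, rfl⟩ <;>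
  rcases h₄ with ⟨rfl, rfl | rfl⟩ | ⟨rfl, rfl⟩ <;>
  rcases hs with ⟨rfl, rfl | rfl | rfl⟩ | ⟨rfl, rfl⟩ <;>
  first
    | (exfalso; omega)
    | norm_num

theorem m11_pattern {G : Type u} [Group G] [Fintype G] [Fintype (IrrCharacter G)]
    [IsSimpleGroup G] (hG : Nat.card G = 7920) (P : Subgroup G) (ε : ℤ)
    (b : IrrCharacter G → ℤ) (S : Finset (IrrCharacter G)) (b₀ : ℤ) (f₀ : ℕ)
    (h : ExcData P 11 5 ε b S b₀ f₀) : M11PatI P ∨ M11PatII P ∨ M11PatIII P := by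
  classical
  obtain ⟨hε, hb1, h1S, hScard, hSb, hbsq, hbdeg, hbcong, hf₀cong, hrel, hval, hSval⟩ := h
  have hS2 : S.card = 2 := by omega
  obtain ⟨χ₁, χ₂, hχne, hSeq⟩ := Finset.card_eq_two.mp hS2
  have hχ₁S : χ₁ ∈ S := by rw [hSeq]; simp
  have hχ₂S : χ₂ ∈ S := by rw [hSeq]; simp
  have hSmem : ∀ ψ : IrrCharacter G, ψ ∈ S ↔ ψ = χ₁ ∨ ψ = χ₂ := by
    intro ψ; rw [hSeq]; simp
  obtain ⟨oneG, honeG⟩ : ∃ oneG : IrrCharacter G, oneG = trivIrr G := ⟨_, rfl⟩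
  rw [← honeG] at hb1 h1S
  have honeGval : (oneG : G → ℂ) = fun _ => 1 := by rw [honeG]; rfl
  have hnp : ¬ (Nat.card G).Prime := by rw [hG]; norm_num
  have hdegone : charDegree (oneG : G → ℂ) = 1 := by
    have h := Cfsg.Agent.Lib.helper82.irr_one_eq oneG
    rw [honeGval] at h
    have h' : ((1 : ℕ) : ℂ) = (charDegree (fun _ : G => (1 : ℂ)) : ℂ) := by simpa using h
    rw [honeGval]
    exact (Nat.cast_injective h').symm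
  have hgt : ∀ ψ : IrrCharacter G, ψ ≠ oneG → 1 < charDegree (ψ : G → ℂ) := by
    intro ψ hψ
    apply one_lt_charDegree_of_simple hnp
    intro h
    exact hψ (Subtype.ext (by rw [h, honeGval]))
  have hdvd : ∀ ψ : IrrCharacter G, charDegree (ψ : G → ℂ) ∣ 7920 := fun ψ => by
    rw [← hG]; exact Cfsg.Agent.Lib.helper82.irr_degree_dvd_card ψ
  have hsqsum : ∑ ψ : IrrCharacter G, charDegree (ψ : G → ℂ) * charDegree (ψ : G → ℂ) = 7920 := by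
    have h := sum_irr_degree_sq (G := G)
    rw [hG] at h
    have h' : ((∑ ψ : IrrCharacter G, charDegree (ψ : G → ℂ) * charDegree (ψ : G → ℂ) : ℕ) : ℂ) =
        ((7920 : ℕ) : ℂ) := by
      rw [← h]
      push_cast
      exact Finset.sum_congr rfl (fun ψ _ => by
        rw [Cfsg.Agent.Lib.helper82.irr_one_eq ψ]; ring)
    exact Nat.cast_injective h'
  have hdeg88 : ∀ ψ : IrrCharacter G, charDegree (ψ : G → ℂ) * charDegree (ψ : G → ℂ) ≤ 7920 := by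
    intro ψ
    have h := Finset.single_le_sum (f := fun ψ : IrrCharacter G =>
      charDegree (ψ : G → ℂ) * charDegree (ψ : G → ℂ)) (fun _ _ => Nat.zero_le _)
      (Finset.mem_univ ψ)
    rw [hsqsum] at h
    exact h
  -- the set of non-exceptional non-principal characters
  obtain ⟨U, hU⟩ : ∃ U : Finset (IrrCharacter G), U = Finset.univ.erase oneG := ⟨_, rfl⟩
  have hSU : S ⊆ U := by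
    intro ψ hψ
    rw [hU]
    exact Finset.mem_erase.mpr ⟨fun h => h1S (h ▸ hψ), Finset.mem_univ _⟩
  obtain ⟨T, hT⟩ : ∃ T : Finset (IrrCharacter G), T = U \ S := ⟨_, rfl⟩
  have hsplit : ∀ (M : Type) [AddCommMonoid M] (F : IrrCharacter G → M),
      ∑ ψ, F ψ = F oneG + ((F χ₁ + F χ₂) + ∑ ψ ∈ T, F ψ) := by
    intro M _ F
    rw [← Finset.add_sum_erase Finset.univ _ (Finset.mem_univ oneG), ← hU, hT,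
      ← Finset.sum_sdiff hSU]
    congr 1
    rw [add_comm]
    congr 1
    rw [hSeq, Finset.sum_pair hχne]
  have hTmem : ∀ ψ ∈ T, ψ ≠ oneG ∧ ψ ∉ S := by
    intro ψ hψ
    rw [hT, Finset.mem_sdiff, hU] at hψ
    exact ⟨Finset.ne_of_mem_erase hψ.1, hψ.2⟩
  have hTmem' : ∀ ψ : IrrCharacter G, ψ ≠ oneG → ψ ∉ S → ψ ∈ T := by
    intro ψ h1 h2
    rw [hT, Finset.mem_sdiff, hU]
    exact ⟨Finset.mem_erase.mpr ⟨h1, Finset.mem_univ _⟩, h2⟩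
  obtain ⟨R, hR⟩ : ∃ R : ℤ, R = ∑ ψ ∈ T, b ψ ^ 2 := ⟨_, rfl⟩
  have hR0 : 0 ≤ R := by rw [hR]; exact Finset.sum_nonneg fun _ _ => sq_nonneg _
  have h1 : 1 + 2 * b₀ ^ 2 + R = 5 + 2 * ε * b₀ := by
    have h := hsplit ℤ (fun ψ => b ψ ^ 2)
    rw [hbsq, hb1, ← hR, (hSb χ₁ hχ₁S).1, (hSb χ₂ hχ₂S).1] at h
    push_cast at h
    linarith
  obtain ⟨D, hD⟩ : ∃ D : ℤ, D = ∑ ψ ∈ T, b ψ * (charDegree (ψ : G → ℂ) : ℤ) := ⟨_, rfl⟩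
  have h2 : 1 + 2 * (b₀ * (f₀ : ℤ)) + D = ε * f₀ := by
    have h := hsplit ℤ (fun ψ => b ψ * (charDegree (ψ : G → ℂ) : ℤ))
    rw [hbdeg, hb1, hdegone, ← hD, (hSb χ₁ hχ₁S).1, (hSb χ₂ hχ₂S).1, (hSb χ₁ hχ₁S).2,
      (hSb χ₂ hχ₂S).2] at h
    push_cast at h
    linarith
  have hf₀dvd : f₀ ∣ 7920 := by
    rw [← (hSb χ₁ hχ₁S).2]; exact hdvd χ₁
  have hf₀sq : 2 * (f₀ * f₀) ≤ 7920 := by
    have h := hsplit ℕ (fun ψ => charDegree (ψ : G → ℂ) * charDegree (ψ : G → ℂ))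
    rw [hsqsum, (hSb χ₁ hχ₁S).2, (hSb χ₂ hχ₂S).2] at h
    omega
  -- the value of `b₀`
  have hcases : (R = 4 ∧ (b₀ = 0 ∨ b₀ = ε)) ∨ (R = 0 ∧ (b₀ = -ε ∨ b₀ = 2 * ε)) := by
    rcases hε with rfl | rfl
    · have h5 : -1 ≤ b₀ := by nlinarith
      have h6 : b₀ ≤ 2 := by nlinarith
      interval_cases b₀ <;> norm_num at h1 ⊢ <;> omega
    · have h5 : -2 ≤ b₀ := by nlinarith
      have h6 : b₀ ≤ 1 := by nlinarith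
      interval_cases b₀ <;> norm_num at h1 ⊢ <;> omega
  have hR4 : R = 4 ∧ (b₀ = 0 ∨ b₀ = ε) := by
    rcases hcases with h | ⟨hR0', hb⟩
    · exact h
    · exfalso
      have hz : ∀ ψ ∈ T, b ψ = 0 := by
        intro ψ hψ
        have := (Finset.sum_eq_zero_iff_of_nonneg (fun y _ => sq_nonneg (b y))).mp
          (hR ▸ hR0') ψ hψ
        exact pow_eq_zero_iff two_ne_zero |>.mp this
      have hD0 : D = 0 := by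
        rw [hD]; exact Finset.sum_eq_zero (fun ψ hψ => by rw [hz ψ hψ, zero_mul])
      rw [hD0] at h2
      rcases hε with rfl | rfl <;> rcases hb with rfl | rfl <;> omega
  obtain ⟨hR4', hb₀⟩ := hR4
  obtain ⟨s, hs⟩ : ∃ s : ℤ, s = ε - 2 * b₀ := ⟨_, rfl⟩
  have hs1 : s = 1 ∨ s = -1 := by
    rcases hε with rfl | rfl <;> rcases hb₀ with rfl | rfl <;> omega
  have h2' : 1 + D = s * f₀ := by rw [hs]; linarith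
  have hcong' : (11 : ℤ) ∣ (f₀ : ℤ) - 5 * s := by
    push_cast at hf₀cong
    rcases hε with rfl | rfl <;> rcases hb₀ with rfl | rfl <;> omega
  have hfl := m11c_f0 f₀ s hs1 hf₀dvd hf₀sq hcong'
  have hSvalx : ∀ x ∈ P, x ≠ 1 → (χ₁ : G → ℂ) x + (χ₂ : G → ℂ) x = -(s : ℂ) := by
    intro x hx hx1
    have h := hSval x hx hx1
    rw [hS2] at h
    rw [hSeq, Finset.sum_pair hχne] at h
    rw [h, hs]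
    push_cast
    ring
  have hrel' : s = 1 → ∀ g : G, (∀ h : G, h * g * h⁻¹ ∈ P → g = 1) →
      (χ₁ : G → ℂ) g = 1 + ∑ ψ ∈ T, (b ψ : ℂ) * (ψ : G → ℂ) g ∧
        (χ₂ : G → ℂ) g = (χ₁ : G → ℂ) g := by
    intro hs1' g hg
    have e₁ := hrel χ₁ hχ₁S g hg
    have e₂ := hrel χ₂ hχ₂S g hg
    have h := hsplit ℂ (fun ψ => (b ψ : ℂ) * (ψ : G → ℂ) g)
    rw [hb1, honeGval, (hSb χ₁ hχ₁S).1, (hSb χ₂ hχ₂S).1] at h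
    rw [h] at e₁ e₂
    have hεb : (ε = 1 ∧ b₀ = 0) ∨ (ε = -1 ∧ b₀ = -1) := by
      rcases hε with rfl | rfl <;> rcases hb₀ with rfl | rfl <;> omega
    rcases hεb with ⟨rfl, rfl⟩ | ⟨rfl, rfl⟩
    · push_cast at e₁ e₂
      constructor
      · linear_combination -e₁
      · linear_combination e₁ - e₂
    · push_cast at e₁ e₂
      constructor
      · linear_combination -e₂
      · linear_combination e₂ - e₁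
  -- degrees of the characters in `T`
  have hTdeg : ∀ ψ ∈ T, b ψ = 0 ∨ (b ψ = 1 ∧ (charDegree (ψ : G → ℂ) = 12 ∨
      charDegree (ψ : G → ℂ) = 45)) ∨ (b ψ = -1 ∧ charDegree (ψ : G → ℂ) = 10) ∨
      (b ψ = 2 ∧ (charDegree (ψ : G → ℂ) = 2 ∨ charDegree (ψ : G → ℂ) = 24)) ∨
      (b ψ = -2 ∧ (charDegree (ψ : G → ℂ) = 9 ∨ charDegree (ψ : G → ℂ) = 20)) := by
    intro ψ hψ
    have hle : b ψ ^ 2 ≤ 4 := by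
      rw [← hR4', hR]
      exact Finset.single_le_sum (f := fun ψ => b ψ ^ 2) (fun _ _ => sq_nonneg _) hψ
    have hcg := hbcong ψ (hTmem ψ hψ).2
    push_cast at hcg
    exact m11c_deg _ _ hle (hgt ψ (hTmem ψ hψ).1) (hdvd ψ) (hdeg88 ψ) hcg
  -- generic facts for four characters carrying the whole of `R`
  have hGen : s = 1 → ∀ ψ₁ ψ₂ ψ₃ ψ₄ : IrrCharacter G, ψ₁ ∈ T → ψ₂ ∈ T → ψ₃ ∈ T → ψ₄ ∈ T →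
      ψ₁ ≠ ψ₂ → ψ₁ ≠ ψ₃ → ψ₁ ≠ ψ₄ → ψ₂ ≠ ψ₃ → ψ₂ ≠ ψ₄ → ψ₃ ≠ ψ₄ →
      (∀ w ∈ T, w ≠ ψ₁ → w ≠ ψ₂ → w ≠ ψ₃ → w ≠ ψ₄ → b w = 0) →
      [trivIrr G, ψ₁, ψ₂, ψ₃, ψ₄, χ₁, χ₂].Nodup ∧
      (∀ ψ : IrrCharacter G, ψ ∉ [trivIrr G, ψ₁, ψ₂, ψ₃, ψ₄, χ₁, χ₂] →
        11 ∣ charDegree (ψ : G → ℂ)) ∧
      (∀ x ∈ P, x ≠ 1 → (ψ₁ : G → ℂ) x = (b ψ₁ : ℂ) ∧ (ψ₂ : G → ℂ) x = (b ψ₂ : ℂ) ∧
        (ψ₃ : G → ℂ) x = (b ψ₃ : ℂ) ∧ (ψ₄ : G → ℂ) x = (b ψ₄ : ℂ) ∧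
        (χ₁ : G → ℂ) x + (χ₂ : G → ℂ) x = -1) ∧
      (∀ g : G, (∀ h : G, h * g * h⁻¹ ∈ P → g = 1) →
        (χ₁ : G → ℂ) g = 1 + ((b ψ₁ : ℂ) * (ψ₁ : G → ℂ) g + ((b ψ₂ : ℂ) * (ψ₂ : G → ℂ) g +
          ((b ψ₃ : ℂ) * (ψ₃ : G → ℂ) g + (b ψ₄ : ℂ) * (ψ₄ : G → ℂ) g))) ∧
        (χ₂ : G → ℂ) g = (χ₁ : G → ℂ) g) := by
    intro hs1' ψ₁ ψ₂ ψ₃ ψ₄ m₁ m₂ m₃ m₄ h12 h13 h14 h23 h24 h34 hrest
    have n₁ := hTmem ψ₁ m₁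
    have n₂ := hTmem ψ₂ m₂
    have n₃ := hTmem ψ₃ m₃
    have n₄ := hTmem ψ₄ m₄
    have k₁ := (not_or.mp (fun hh => n₁.2 ((hSmem ψ₁).mpr hh)))
    have k₂ := (not_or.mp (fun hh => n₂.2 ((hSmem ψ₂).mpr hh)))
    have k₃ := (not_or.mp (fun hh => n₃.2 ((hSmem ψ₃).mpr hh)))
    have k₄ := (not_or.mp (fun hh => n₄.2 ((hSmem ψ₄).mpr hh)))
    have k₀ := (not_or.mp (fun hh => h1S ((hSmem oneG).mpr hh)))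
    refine ⟨?_, ?_, ?_, ?_⟩
    · rw [← honeG]
      simp only [List.nodup_cons, List.mem_cons, or_false, not_or,
        List.not_mem_nil, not_false_eq_true, List.nodup_nil, and_true]
      exact ⟨⟨Ne.symm n₁.1, Ne.symm n₂.1, Ne.symm n₃.1, Ne.symm n₄.1, k₀.1, k₀.2⟩,
        ⟨h12, h13, h14, k₁.1, k₁.2⟩, ⟨h23, h24, k₂.1, k₂.2⟩, ⟨h34, k₃.1, k₃.2⟩,
        ⟨k₄.1, k₄.2⟩, hχne⟩
    · intro ψ hψ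
      rw [← honeG] at hψ
      simp only [List.mem_cons, List.mem_nil_iff, or_false, not_or] at hψ
      obtain ⟨q0, q1, q2, q3, q4, q5, q6⟩ := hψ
      have hψS : ψ ∉ S := by
        rw [hSmem]; exact not_or.mpr ⟨q5, q6⟩
      have hψT : ψ ∈ T := hTmem' ψ q0 hψS
      have hb0 := hrest ψ hψT q1 q2 q3 q4
      have hcg := hbcong ψ hψS
      rw [hb0, sub_zero] at hcg
      exact Int.natCast_dvd_natCast.mp hcg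
    · intro x hx hx1
      refine ⟨hval ψ₁ n₁.2 x hx hx1, hval ψ₂ n₂.2 x hx hx1, hval ψ₃ n₃.2 x hx hx1,
        hval ψ₄ n₄.2 x hx hx1, ?_⟩
      rw [hSvalx x hx hx1, hs1']
      push_cast
      ring
    · intro g hg
      obtain ⟨r₁, r₂⟩ := hrel' hs1' g hg
      refine ⟨?_, r₂⟩
      rw [r₁]
      congr 1
      have hsub : ({ψ₁, ψ₂, ψ₃, ψ₄} : Finset (IrrCharacter G)) ⊆ T := by
        intro ψ hψ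
        simp only [Finset.mem_insert, Finset.mem_singleton] at hψ
        rcases hψ with rfl | rfl | rfl | rfl <;> assumption
      rw [← Finset.sum_subset hsub (fun ψ hψT hψ => by
        simp only [Finset.mem_insert, Finset.mem_singleton, not_or] at hψ
        rw [hrest ψ hψT hψ.1 hψ.2.1 hψ.2.2.1 hψ.2.2.2]
        push_cast
        ring)]
      rw [Finset.sum_insert (by simp [h12, h13, h14]), Finset.sum_insert (by simp [h23, h24]),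
        Finset.sum_insert (by simp [h34]), Finset.sum_singleton]
  have hPatI : s = 1 → f₀ = 16 → ∀ α₁ α₂ α₃ β : IrrCharacter G, α₁ ∈ T → α₂ ∈ T → α₃ ∈ T →
      β ∈ T → α₁ ≠ α₂ → α₁ ≠ α₃ → α₁ ≠ β → α₂ ≠ α₃ → α₂ ≠ β → α₃ ≠ β →
      (∀ w ∈ T, w ≠ α₁ → w ≠ α₂ → w ≠ α₃ → w ≠ β → b w = 0) →
      b α₁ = -1 → b α₂ = -1 → b α₃ = -1 → b β = 1 →
      charDegree (α₁ : G → ℂ) = 10 → charDegree (α₂ : G → ℂ) = 10 →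
      charDegree (α₃ : G → ℂ) = 10 → charDegree (β : G → ℂ) = 45 → M11PatI P := by
    intro hs1' hf16 α₁ α₂ α₃ β m₁ m₂ m₃ m₄ h12 h13 h14 h23 h24 h34 hrest hb₁ hb₂ hb₃ hb₄
      hd₁ hd₂ hd₃ hd₄
    obtain ⟨hnd', hdiv, hvals, hrelg⟩ :=
      hGen hs1' α₁ α₂ α₃ β m₁ m₂ m₃ m₄ h12 h13 h14 h23 h24 h34 hrest
    refine ⟨α₁, α₂, α₃, β, χ₁, χ₂, hnd', hd₁, hd₂, hd₃, hd₄, ?_, ?_, hdiv, ?_, ?_⟩
    · rw [(hSb χ₁ hχ₁S).2, hf16]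
    · rw [(hSb χ₂ hχ₂S).2, hf16]
    · intro x hx hx1
      obtain ⟨v₁, v₂, v₃, v₄, v₅⟩ := hvals x hx hx1
      rw [hb₁] at v₁; rw [hb₂] at v₂; rw [hb₃] at v₃; rw [hb₄] at v₄
      push_cast at v₁ v₂ v₃ v₄
      exact ⟨v₁, v₂, v₃, v₄, v₅⟩
    · intro g hg
      obtain ⟨r₁, r₂⟩ := hrelg g hg
      refine ⟨?_, r₂⟩
      rw [r₁, hb₁, hb₂, hb₃, hb₄]; push_cast; ring
  have hPatII : s = 1 → f₀ = 5 → ∀ α₁ α₂ β₁ β₂ : IrrCharacter G, α₁ ∈ T → α₂ ∈ T → β₁ ∈ T →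
      β₂ ∈ T → α₁ ≠ α₂ → α₁ ≠ β₁ → α₁ ≠ β₂ → α₂ ≠ β₁ → α₂ ≠ β₂ → β₁ ≠ β₂ →
      (∀ w ∈ T, w ≠ α₁ → w ≠ α₂ → w ≠ β₁ → w ≠ β₂ → b w = 0) →
      b α₁ = 1 → b α₂ = 1 → b β₁ = -1 → b β₂ = -1 →
      charDegree (α₁ : G → ℂ) = 12 → charDegree (α₂ : G → ℂ) = 12 →
      charDegree (β₁ : G → ℂ) = 10 → charDegree (β₂ : G → ℂ) = 10 → M11PatII P := by
    intro hs1' hf5 α₁ α₂ β₁ β₂ m₁ m₂ m₃ m₄ h12 h13 h14 h23 h24 h34 hrest hb₁ hb₂ hb₃ hb₄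
      hd₁ hd₂ hd₃ hd₄
    obtain ⟨hnd', hdiv, hvals, hrelg⟩ :=
      hGen hs1' α₁ α₂ β₁ β₂ m₁ m₂ m₃ m₄ h12 h13 h14 h23 h24 h34 hrest
    refine ⟨α₁, α₂, β₁, β₂, χ₁, χ₂, hnd', hd₁, hd₂, hd₃, hd₄, ?_, ?_, hdiv, ?_, ?_⟩
    · rw [(hSb χ₁ hχ₁S).2, hf5]
    · rw [(hSb χ₂ hχ₂S).2, hf5]
    · intro x hx hx1
      obtain ⟨v₁, v₂, v₃, v₄, v₅⟩ := hvals x hx hx1
      rw [hb₁] at v₁; rw [hb₂] at v₂; rw [hb₃] at v₃; rw [hb₄] at v₄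
      push_cast at v₁ v₂ v₃ v₄
      exact ⟨v₁, v₂, v₃, v₄, v₅⟩
    · intro g hg
      obtain ⟨r₁, r₂⟩ := hrelg g hg
      refine ⟨?_, r₂⟩
      rw [r₁, hb₁, hb₂, hb₃, hb₄]; push_cast; ring
  rcases exists_of_sum_sq_eq_four T b (hR ▸ hR4') with ⟨x, hx, hx2, hrest⟩ |
    ⟨ψ₁, h₁, ψ₂, h₂, ψ₃, h₃, ψ₄, h₄, h12, h13, h14, h23, h24, h34, hb₁, hb₂, hb₃, hb₄, hrest⟩
  · -- one character with coefficient `±2`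
    have hDx : D = b x * (charDegree (x : G → ℂ) : ℤ) := by
      rw [hD, ← Finset.add_sum_erase T _ hx, Finset.sum_eq_zero (fun w hw => by
        rw [hrest w (Finset.mem_of_mem_erase hw) (Finset.ne_of_mem_erase hw), zero_mul]),
        add_zero]
    rw [hDx] at h2'
    have hdx := hTdeg x hx
    obtain ⟨f, hf⟩ : ∃ f, f = charDegree (x : G → ℂ) := ⟨_, rfl⟩
    rw [← hf] at h2' hdx
    have key : s = 1 ∧ f₀ = 5 ∧ b x = 2 ∧ f = 2 := by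
      rcases hx2 with hbx | hbx <;> rw [hbx] at h2' hdx <;>
      rcases hfl with ⟨hs', hf'⟩ | ⟨hs', hf'⟩ <;> rw [hs'] at h2' <;> omega
    right; right
    refine ⟨x, ?_, ?_⟩
    · rw [← hf]; exact key.2.2.2
    · intro y hy hy1
      rw [hval x (hTmem x hx).2 y hy hy1, key.2.2.1]
      norm_num
  · -- four characters with coefficients `±1`
    have d₁ : (b ψ₁ = 1 ∧ (charDegree (ψ₁ : G → ℂ) = 12 ∨ charDegree (ψ₁ : G → ℂ) = 45)) ∨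
        (b ψ₁ = -1 ∧ charDegree (ψ₁ : G → ℂ) = 10) := by
      have := hTdeg ψ₁ h₁; omega
    have d₂ : (b ψ₂ = 1 ∧ (charDegree (ψ₂ : G → ℂ) = 12 ∨ charDegree (ψ₂ : G → ℂ) = 45)) ∨
        (b ψ₂ = -1 ∧ charDegree (ψ₂ : G → ℂ) = 10) := by
      have := hTdeg ψ₂ h₂; omega
    have d₃ : (b ψ₃ = 1 ∧ (charDegree (ψ₃ : G → ℂ) = 12 ∨ charDegree (ψ₃ : G → ℂ) = 45)) ∨
        (b ψ₃ = -1 ∧ charDegree (ψ₃ : G → ℂ) = 10) := by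
      have := hTdeg ψ₃ h₃; omega
    have d₄ : (b ψ₄ = 1 ∧ (charDegree (ψ₄ : G → ℂ) = 12 ∨ charDegree (ψ₄ : G → ℂ) = 45)) ∨
        (b ψ₄ = -1 ∧ charDegree (ψ₄ : G → ℂ) = 10) := by
      have := hTdeg ψ₄ h₄; omega
    have hsub : ({ψ₁, ψ₂, ψ₃, ψ₄} : Finset (IrrCharacter G)) ⊆ T := by
      intro ψ hψ
      simp only [Finset.mem_insert, Finset.mem_singleton] at hψ
      rcases hψ with rfl | rfl | rfl | rfl <;> assumption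
    have hD4 : D = b ψ₁ * (charDegree (ψ₁ : G → ℂ) : ℤ) +
        (b ψ₂ * (charDegree (ψ₂ : G → ℂ) : ℤ) + (b ψ₃ * (charDegree (ψ₃ : G → ℂ) : ℤ) +
          b ψ₄ * (charDegree (ψ₄ : G → ℂ) : ℤ))) := by
      rw [hD, ← Finset.sum_subset hsub (fun ψ hψT hψ => by
        simp only [Finset.mem_insert, Finset.mem_singleton, not_or] at hψ
        rw [hrest ψ hψT hψ.1 hψ.2.1 hψ.2.2.1 hψ.2.2.2, zero_mul])]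
      rw [Finset.sum_insert (by simp [h12, h13, h14]), Finset.sum_insert (by simp [h23, h24]),
        Finset.sum_insert (by simp [h34]), Finset.sum_singleton]
    have hsqle : charDegree (ψ₁ : G → ℂ) * charDegree (ψ₁ : G → ℂ) +
        charDegree (ψ₂ : G → ℂ) * charDegree (ψ₂ : G → ℂ) +
        charDegree (ψ₃ : G → ℂ) * charDegree (ψ₃ : G → ℂ) +
        charDegree (ψ₄ : G → ℂ) * charDegree (ψ₄ : G → ℂ) + 2 * (f₀ * f₀) ≤ 7920 := by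
      have h := hsplit ℕ (fun ψ => charDegree (ψ : G → ℂ) * charDegree (ψ : G → ℂ))
      rw [hsqsum, (hSb χ₁ hχ₁S).2, (hSb χ₂ hχ₂S).2] at h
      have h' := Finset.sum_le_sum_of_subset (f := fun ψ : IrrCharacter G =>
        charDegree (ψ : G → ℂ) * charDegree (ψ : G → ℂ)) hsub
      rw [Finset.sum_insert (by simp [h12, h13, h14]), Finset.sum_insert (by simp [h23, h24]),
        Finset.sum_insert (by simp [h34]), Finset.sum_singleton] at h'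
      omega
    obtain ⟨hs1', hconf⟩ := m11c_arith4 (b ψ₁) (b ψ₂) (b ψ₃) (b ψ₄) s _ _ _ _ f₀ d₁ d₂ d₃ d₄ hfl
      (by rw [← hD4]; exact h2') hsqle
    rcases hconf with ⟨hf, e₁, g₁, e₂, g₂, e₃, g₃, e₄, g₄⟩ | ⟨hf, e₁, g₁, e₂, g₂, e₃, g₃, e₄, g₄⟩ | ⟨hf, e₁, g₁, e₂, g₂, e₃, g₃, e₄, g₄⟩ | ⟨hf, e₁, g₁, e₂, g₂, e₃, g₃, e₄, g₄⟩ | ⟨hf, e₁, g₁, e₂, g₂, e₃, g₃, e₄, g₄⟩ | ⟨hf, e₁, g₁, e₂, g₂, e₃, g₃, e₄, g₄⟩ | ⟨hf, e₁, g₁, e₂, g₂, e₃, g₃, e₄, g₄⟩ | ⟨hf, e₁, g₁, e₂, g₂, e₃, g₃, e₄, g₄⟩ | ⟨hf, e₁, g₁, e₂, g₂, e₃, g₃, e₄, g₄⟩ | ⟨hf, e₁, g₁, e₂, g₂, e₃, g₃, e₄, g₄⟩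
    · exact Or.inl (hPatI hs1' hf ψ₂ ψ₃ ψ₄ ψ₁ h₂ h₃ h₄ h₁ h23 h24 h12.symm h34 h13.symm h14.symm (fun w hw a₁ a₂ a₃ a₄ => hrest w hw a₄ a₁ a₂ a₃) e₂ e₃ e₄ e₁ g₂ g₃ g₄ g₁)
    · exact Or.inl (hPatI hs1' hf ψ₁ ψ₃ ψ₄ ψ₂ h₁ h₃ h₄ h₂ h13 h14 h12 h34 h23.symm h24.symm (fun w hw a₁ a₂ a₃ a₄ => hrest w hw a₁ a₄ a₂ a₃) e₁ e₃ e₄ e₂ g₁ g₃ g₄ g₂)
    · exact Or.inl (hPatI hs1' hf ψ₁ ψ₂ ψ₄ ψ₃ h₁ h₂ h₄ h₃ h12 h14 h13 h24 h23 h34.symm (fun w hw a₁ a₂ a₃ a₄ => hrest w hw a₁ a₂ a₄ a₃) e₁ e₂ e₄ e₃ g₁ g₂ g₄ g₃)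
    · exact Or.inl (hPatI hs1' hf ψ₁ ψ₂ ψ₃ ψ₄ h₁ h₂ h₃ h₄ h12 h13 h14 h23 h24 h34 (fun w hw a₁ a₂ a₃ a₄ => hrest w hw a₁ a₂ a₃ a₄) e₁ e₂ e₃ e₄ g₁ g₂ g₃ g₄)
    · exact Or.inr (Or.inl (hPatII hs1' hf ψ₁ ψ₂ ψ₃ ψ₄ h₁ h₂ h₃ h₄ h12 h13 h14 h23 h24 h34 (fun w hw a₁ a₂ a₃ a₄ => hrest w hw a₁ a₂ a₃ a₄) e₁ e₂ e₃ e₄ g₁ g₂ g₃ g₄))
    · exact Or.inr (Or.inl (hPatII hs1' hf ψ₁ ψ₃ ψ₂ ψ₄ h₁ h₃ h₂ h₄ h13 h12 h14 h23.symm h34 h24 (fun w hw a₁ a₂ a₃ a₄ => hrest w hw a₁ a₃ a₂ a₄) e₁ e₃ e₂ e₄ g₁ g₃ g₂ g₄))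
    · exact Or.inr (Or.inl (hPatII hs1' hf ψ₁ ψ₄ ψ₂ ψ₃ h₁ h₄ h₂ h₃ h14 h12 h13 h24.symm h34.symm h23 (fun w hw a₁ a₂ a₃ a₄ => hrest w hw a₁ a₃ a₄ a₂) e₁ e₄ e₂ e₃ g₁ g₄ g₂ g₃))
    · exact Or.inr (Or.inl (hPatII hs1' hf ψ₂ ψ₃ ψ₁ ψ₄ h₂ h₃ h₁ h₄ h23 h12.symm h24 h13.symm h34 h14 (fun w hw a₁ a₂ a₃ a₄ => hrest w hw a₃ a₁ a₂ a₄) e₂ e₃ e₁ e₄ g₂ g₃ g₁ g₄))
    · exact Or.inr (Or.inl (hPatII hs1' hf ψ₂ ψ₄ ψ₁ ψ₃ h₂ h₄ h₁ h₃ h24 h12.symm h23 h14.symm h34.symm h13 (fun w hw a₁ a₂ a₃ a₄ => hrest w hw a₃ a₁ a₄ a₂) e₂ e₄ e₁ e₃ g₂ g₄ g₁ g₃))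
    · exact Or.inr (Or.inl (hPatII hs1' hf ψ₃ ψ₄ ψ₁ ψ₂ h₃ h₄ h₁ h₂ h34 h13.symm h23.symm h14.symm h24.symm h12 (fun w hw a₁ a₂ a₃ a₄ => hrest w hw a₃ a₄ a₁ a₂) e₃ e₄ e₁ e₂ g₃ g₄ g₁ g₂))

end Cfsg.Agent.Lib.helper1
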