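import Mathlib
import Cfsg.Agent.Lib.helper79.PearlX

set_option autoImplicit false

namespace Cfsg.Agent.Lib.helper79.P3

open Cfsg.Agent.Lib.helper68

/-- (c3a) of NONUNIF: cubes lie in `P_2` (`G / P_2` has order 9 and is not cyclic). -/
theorem h1_p3_cube_mem_two {G : Type*} [Group G] [Finite G] (n : ℕ) (hn : 3 ≤ n)
    (hG : Nat.card G = 3 ^ n) (x : G)
    (hC : Nat.card (Subgroup.centralizer ({x} : Set G)) = 3 ^ 2) :
    ∀ g : G, g ^ 3 ∈ gam G 2 := by
  haveI : Fact (Nat.Prime 3) := ⟨Nat.prime_three⟩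
  intro g
  have hg2 : gam G 2 = commutator G := rfl
  have hidx : (commutator G).index = 3 ^ 2 := by
    rw [← hg2]; exact h79_px_index 3 n hG x hC hn 2 le_rfl (by omega)
  have hcardQ : Nat.card (G ⧸ commutator G) = 3 ^ 2 := by
    rw [← Subgroup.index_eq_card, hidx]
  rw [hg2, ← QuotientGroup.eq_one_iff, QuotientGroup.mk_pow]
  have hdvd : orderOf (QuotientGroup.mk g : G ⧸ commutator G) ∣ 3 ^ 2 := by
    rw [← hcardQ]; exact orderOf_dvd_natCard _
  obtain ⟨k, hk2, hk⟩ := (Nat.dvd_prime_pow Nat.prime_three).mp hdvd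
  have hk1 : k ≤ 1 := by
    by_contra hcon
    have hk2' : k = 2 := by omega
    have hcyc : IsCyclic (G ⧸ commutator G) :=
      isCyclic_of_orderOf_eq_card (QuotientGroup.mk g : G ⧸ commutator G)
        (by rw [hk, hk2', hcardQ])
    haveI : Group.IsNilpotent G := (IsPGroup.of_card hG).isNilpotent
    have hbot := Cfsg.Agent.Lib.helper15.MaxClass.commutator_eq_bot_of_isCyclic hcyc
    rw [hbot, Subgroup.index_bot, hG] at hidx
    have := Nat.pow_right_injective (by norm_num : 2 ≤ 3) hidx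
    omega
  apply orderOf_dvd_iff_pow_eq_one.mp
  rw [hk]
  calc 3 ^ k ∣ 3 ^ 1 := pow_dvd_pow 3 hk1
    _ = 3 := pow_one 3

end Cfsg.Agent.Lib.helper79.P3
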