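import Mathlib
import Cfsg.Agent.Lib.helper68.HallPet

set_option autoImplicit false

namespace Cfsg.Agent.Lib.helper52.PearlJ

open Cfsg.Agent.Lib.helper68

/-- J2 (M). Non-generators: if `L` lies in every subgroup of index `p` of `H` and `A ⊔ L = H` then `A = H`. -/
theorem jp_nongen {G : Type*} [Group G] [Finite G] (p : ℕ) [Fact p.Prime] (hGp : IsPGroup p G)
    (H L A : Subgroup G)
    (hfr : ∀ M : Subgroup G, M ≤ H → Nat.card H = p * Nat.card M → L ≤ M)
    (hA : A ⊔ L = H) : A = H := by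
  have hp : p.Prime := Fact.out
  have hAH : A ≤ H := hA ▸ le_sup_left
  by_contra hne
  obtain ⟨h, hh⟩ := IsPGroup.iff_card.mp (hGp.to_subgroup H)
  obtain ⟨a, ha⟩ := IsPGroup.iff_card.mp (hGp.to_subgroup A)
  have hlt : Nat.card A < Nat.card H := by
    by_contra hle
    exact hne (Subgroup.eq_of_le_of_card_ge hAH (not_lt.mp hle))
  have hah : a < h := by
    rw [ha, hh] at hlt
    exact (Nat.pow_lt_pow_iff_right hp.one_lt).mp hlt
  have hcA : Nat.card (A.subgroupOf H) = p ^ a := by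
    rw [Nat.card_congr (Subgroup.subgroupOfEquivOfLe hAH).toEquiv, ha]
  have hdvd : p ^ (h - 1) ∣ Nat.card H := by
    rw [hh]; exact pow_dvd_pow p (Nat.sub_le h 1)
  obtain ⟨K, hK, hAK⟩ :=
    Sylow.exists_subgroup_card_pow_prime_le p hdvd (A.subgroupOf H) hcA (by omega)
  have hM : Nat.card (K.map H.subtype) = p ^ (h - 1) := by
    rw [Subgroup.card_subtype, hK]
  have hMH : K.map H.subtype ≤ H := Subgroup.map_subtype_le K
  have hidx : Nat.card H = p * Nat.card (K.map H.subtype) := by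
    rw [hM, hh, ← pow_succ']; congr 1; omega
  have hLM := hfr _ hMH hidx
  have hAM : A ≤ K.map H.subtype := by
    intro x hx
    exact ⟨⟨x, hAH hx⟩, hAK (Subgroup.mem_subgroupOf.mpr hx), rfl⟩
  have hHM : H ≤ K.map H.subtype := by
    have h1 : A ⊔ L ≤ K.map H.subtype := sup_le hAM hLM
    rwa [hA] at h1
  have hle : Nat.card H ≤ Nat.card (K.map H.subtype) := Subgroup.card_le_of_le hHM
  rw [hM, hh] at hle
  have : h ≤ h - 1 := (Nat.pow_le_pow_iff_right hp.one_lt).mp hle
  omega

end Cfsg.Agent.Lib.helper52.PearlJ
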