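import Mathlib
import Cfsg.Agent.Lib.helper68.HallPet
import Cfsg.Agent.Lib.helper1.PearlJJ2
import Cfsg.Agent.Lib.helper90.PearlJJ1
import Cfsg.Agent.Lib.helper55.PearlJJ9

set_option autoImplicit false

namespace Cfsg.Agent.Lib.helper52.PearlJ

open Cfsg.Agent.Lib.helper68

/-- J11 (M). `H = ⊤`: `card G = p ^ 2 * card (gam G 2) ≤ p ^ p * card (gam G 2)`; J1 with `L = gam G 2`,
J4 + J2. -/
theorem jp_top {G : Type*} [Group G] [Finite G] (p : ℕ) [Fact p.Prime] (n : ℕ)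
    (hG : Nat.card G = p ^ n) (hn : 2 ≤ n) (hP2 : Nat.card (gam G 2) = p ^ (n - 2)) :
    ∃ T : Finset G, T.card ≤ p ∧ Subgroup.closure (T : Set G) = (⊤ : Subgroup G) := by
  have hp : p.Prime := Fact.out
  have hGp : IsPGroup p G := IsPGroup.of_card hG
  have hidx : Nat.card (⊤ : Subgroup G) ≤ p ^ 2 * Nat.card (gam G 2) := by
    rw [Subgroup.card_top, hG, hP2, ← pow_add]
    exact le_of_eq (by congr 1; omega)
  obtain ⟨T, hT, hTsup⟩ := h90_jp_greedy p hGp 2 ⊤ (gam G 2) le_top hidx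
  refine ⟨T, hT.trans hp.two_le, ?_⟩
  refine jp_nongen p hGp ⊤ (gam G 2) (Subgroup.closure (T : Set G)) ?_ hTsup
  intro M _ hM
  rw [Subgroup.card_top] at hM
  exact h55_jp_gam_two_le p hGp M hM

end Cfsg.Agent.Lib.helper52.PearlJ
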