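import Mathlib

set_option autoImplicit false

namespace Cfsg.Agent.Lib.helper2

open Matrix

/-- EVEN (race copy by helper1). -/
theorem h1_qfu_even_card {F : Type*} [Field F] {ι : Type} [Fintype ι] [DecidableEq ι]
    (δ : F) (hδ : ∀ r : F, r ^ 2 ≠ δ + 0 * r) (κ : Matrix ι ι F)
    (hκ : κ * κ = δ • (1 : Matrix ι ι F)) : Even (Fintype.card ι) := by
  have hδ0 : δ ≠ 0 := by
    intro h
    exact hδ 0 (by simp [h])
  have hdet : κ.det ^ 2 = δ ^ Fintype.card ι := by
    have h := congrArg Matrix.det hκ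
    rw [Matrix.det_mul, Matrix.det_smul, Matrix.det_one, mul_one] at h
    rw [sq]; exact h
  by_contra hodd
  rw [Nat.not_even_iff_odd] at hodd
  obtain ⟨m, hm⟩ := hodd
  rw [hm] at hdet
  refine hδ (κ.det / δ ^ m) ?_
  rw [zero_mul, add_zero, div_pow, hdet, ← pow_mul, mul_comm m 2, pow_succ]
  field_simp
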