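import Mathlib
import Cfsg.Prelude.Def_Solvable
import Cfsg.Agent.Lib.helper38.RO1
import Cfsg.Agent.Lib.helper38.RONorm
import Cfsg.Agent.Lib.helper49.ROGen
import Cfsg.Agent.Lib.helper72.ROSub

/-!
# S4330, piece DEC1 (helper1): the elementary abelian case, `X` fixing every `D ∈ Λ`
-/

set_option autoImplicit false
open Pointwise

namespace Cfsg.Agent.Lib.helper38.RO

universe u v

theorem step_elemAb_fix (p : ℕ) [Fact p.Prime] {M : Type v} [CommGroup M] [Finite M]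
    (hcop : ¬ p ∣ Nat.card M) (ih : IHyp p M)
    (N Q X : Subgroup (MulAut M)) (hQN : Q ≤ N)
    (hnorm : ∀ n ∈ N, ∀ q ∈ Q, n * q * n⁻¹ ∈ Q) (hQ : IsPGroup p ↥Q) (hXQ : X ≤ Q) (hX : X ≠ ⊥)
    (B : Subgroup (MulAut M)) (hBQ : B ≤ Q) (hBn : ∀ n ∈ N, ∀ b ∈ B, n * b * n⁻¹ ∈ B)
    (hBc : ∀ a ∈ B, ∀ b ∈ B, a * b = b * a) (hBp : ∀ b ∈ B, b ^ p = 1)
    (hB2 : p < Nat.card ↥B) (hBfix : fixedPts B = ⊥)
    (hI : ∀ x ∈ X, ∀ D : Subgroup (MulAut M), IsMaxIn B D → fixedPts D ≠ ⊥ → conjSub x D = D) :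
    ∃ m : M, ∀ n ∈ N, ∃ x ∈ X, (n * x * n⁻¹) m ≠ m := by
  classical
  have hBconj : ∀ n ∈ N, conjSub n B = B := fun n hn =>
    conjSub_eq_self_of_normal (hBn n hn) (fun d hd => by
      have := hBn n⁻¹ (inv_mem hn) d hd
      simpa using this)
  obtain ⟨x₀, hx₀X, hx₀⟩ : ∃ x ∈ X, x ≠ 1 := by
    by_contra hcon
    push Not at hcon
    exact hX ((Subgroup.eq_bot_iff_forall X).2 hcon)
  let S : Subgroup M :=
    { carrier := {m | x₀ m = m}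
      one_mem' := map_one x₀
      mul_mem' := fun {a b} ha hb => by
        have ha' : x₀ a = a := ha
        have hb' : x₀ b = b := hb
        show x₀ (a * b) = a * b
        rw [map_mul, ha', hb']
      inv_mem' := fun {a} ha => by
        have ha' : x₀ a = a := ha
        show x₀ a⁻¹ = a⁻¹
        rw [map_inv, ha'] }
  have hex : ∃ D₀, IsMaxIn B D₀ ∧ ¬ fixedPts D₀ ≤ S := by
    by_contra hcon
    push Not at hcon
    have hS := gen_max p hcop B hBc hBp hBfix S hcon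
    apply hx₀
    apply MulEquiv.ext
    intro m
    have hm : m ∈ S := by rw [hS]; trivial
    exact hm
  obtain ⟨D₀, hD₀max, hD₀S⟩ := hex
  obtain ⟨m₀, hm₀D, hm₀S⟩ := SetLike.not_le_iff_exists.1 hD₀S
  have hm₀ : x₀ m₀ ≠ m₀ := hm₀S
  have hD₀fix : fixedPts D₀ ≠ ⊥ := by
    intro h
    rw [h] at hm₀D
    have h1 : m₀ = 1 := (Subgroup.mem_bot).1 hm₀D
    apply hm₀
    rw [h1, map_one]
  have hD₀bot : D₀ ≠ ⊥ := isMaxIn_ne_bot p B D₀ hBp hB2 hD₀max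
  let N₁ : Subgroup (MulAut M) :=
    { carrier := {n | n ∈ N ∧ conjSub n D₀ = D₀}
      one_mem' := ⟨one_mem N, conjSub_one D₀⟩
      mul_mem' := fun {a b} ha hb => ⟨mul_mem ha.1 hb.1, by rw [conjSub_mul, hb.2, ha.2]⟩
      inv_mem' := fun {a} ha => ⟨inv_mem ha.1, by
        have h1 := conjSub_inv_conjSub a D₀
        rw [ha.2] at h1
        exact h1⟩ }
  have hXQ₁ : X ≤ Q ⊓ N₁ := fun x hx =>
    Subgroup.mem_inf.2 ⟨hXQ hx, ⟨hQN (hXQ hx), hI x hx D₀ hD₀max hD₀fix⟩⟩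
  have hQ₁p : IsPGroup p ↥(Q ⊓ N₁) := hQ.to_le inf_le_left
  have hnorm₁ : ∀ n ∈ N₁, ∀ q ∈ Q ⊓ N₁, n * q * n⁻¹ ∈ Q ⊓ N₁ := fun n hn q hq =>
    Subgroup.mem_inf.2 ⟨hnorm n hn.1 q (Subgroup.mem_inf.1 hq).1,
      N₁.mul_mem (N₁.mul_mem hn (Subgroup.mem_inf.1 hq).2) (N₁.inv_mem hn)⟩
  have hinv : ∀ n ∈ N₁, ∀ m ∈ fixedPts D₀, n m ∈ fixedPts D₀ := by
    intro n hn m hm
    have h1 := map_mem_fixedPts_conjSub (n := n) hm
    rw [hn.2] at h1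
    exact h1
  have hlt : Nat.card ↥(fixedPts D₀) < Nat.card M := card_fixedPts_lt D₀ hD₀bot
  obtain ⟨u, huM, hu⟩ := sub_goal p hcop ih N₁ (Q ⊓ N₁) X inf_le_right hnorm₁ hQ₁p hXQ₁
    (fixedPts D₀) hinv hlt ⟨x₀, hx₀X, m₀, hm₀D, hm₀⟩
  -- the orbit of `D₀`
  let Ω : Set (Subgroup (MulAut M)) := {D | ∃ n ∈ N, conjSub n D₀ = D}
  have : Finite (MulAut M) :=
    Finite.of_injective (fun e : MulAut M => (e : M → M)) DFunLike.coe_injective
  have hΩfin : Ω.Finite := Set.toFinite Ω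
  have hch : ∀ D : Subgroup (MulAut M), ∃ t : MulAut M, D ∈ Ω → (t ∈ N ∧ conjSub t D₀ = D) := by
    intro D
    by_cases hD : D ∈ Ω
    · obtain ⟨n, hn, hnD⟩ := hD
      exact ⟨n, fun _ => ⟨hn, hnD⟩⟩
    · exact ⟨1, fun h => absurd h hD⟩
  choose t ht using hch
  have hv : ∀ D ∈ Ω, (t D) u ∈ fixedPts D := by
    intro D hD
    have h1 := map_mem_fixedPts_conjSub (n := t D) huM
    rw [(ht D hD).2] at h1
    exact h1
  have hΩmax : ∀ D' ∈ Ω, IsMaxIn B D' := by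
    rintro D' ⟨n', hn', rfl⟩
    exact isMaxIn_conjSub n' B D₀ (hBconj n' hn') hD₀max
  refine ⟨∏ D ∈ hΩfin.toFinset, (t D) u, ?_⟩
  intro n hn
  by_contra hcon
  push Not at hcon
  obtain ⟨D, hDdef⟩ : ∃ D, D = conjSub n D₀ := ⟨_, rfl⟩
  have hDΩ : D ∈ Ω := ⟨n, hn, hDdef.symm⟩
  have hDmax : IsMaxIn B D := hΩmax D hDΩ
  have hnw : normMap D (∏ D' ∈ hΩfin.toFinset, (t D') u) = (t D) u ^ Nat.card ↥D := by
    have h1 : normMap D (∏ D' ∈ hΩfin.toFinset, (t D') u)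
        = ∏ D' ∈ hΩfin.toFinset, normMap D ((t D') u) := by
      exact map_prod (normHom D) (fun D' => (t D') u) hΩfin.toFinset
    rw [h1, Finset.prod_eq_single D]
    · exact normMap_of_mem_fixedPts D _ (hv D hDΩ)
    · intro D' hD' hne
      have hD'Ω : D' ∈ Ω := (Set.Finite.mem_toFinset hΩfin).1 hD'
      exact normMap_eq_one_of_ne B D D' hBc hBfix hDmax (hΩmax D' hD'Ω) (Ne.symm hne) _
        (hv D' hD'Ω)
    · intro hD'
      exact absurd ((Set.Finite.mem_toFinset hΩfin).2 hDΩ) hD'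
  have htD := ht D hDΩ
  have hh : (t D)⁻¹ * n ∈ N₁ := by
    refine ⟨mul_mem (inv_mem htD.1) hn, ?_⟩
    rw [conjSub_mul, ← hDdef]
    have h1 := conjSub_inv_conjSub (t D) D₀
    rw [htD.2] at h1
    exact h1
  obtain ⟨x, hxX, hxu⟩ := hu _ hh
  apply hxu
  have hgw := hcon x hxX
  have hgD : conjSub (n * x * n⁻¹) D = D := by
    rw [conjSub_mul, conjSub_mul]
    have h1 : conjSub n⁻¹ D = D₀ := by rw [hDdef]; exact conjSub_inv_conjSub n D₀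
    rw [h1, hI x hxX D₀ hD₀max hD₀fix, ← hDdef]
  have h2 : (n * x * n⁻¹) ((t D) u ^ Nat.card ↥D) = (t D) u ^ Nat.card ↥D := by
    rw [← hnw, map_normMap, hgD, hgw]
  have hcopD : (Nat.card M).Coprime (Nat.card ↥D) := by
    have hDp : IsPGroup p ↥D := hQ.to_le (le_trans hDmax.1.le hBQ)
    obtain ⟨k, hk⟩ := hDp.exists_card_eq
    rw [hk]
    exact Nat.Coprime.pow_right k
      ((Nat.Prime.coprime_iff_not_dvd (Fact.out : p.Prime)).2 hcop).symm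
  have h3 : (n * x * n⁻¹) ((t D) u) = (t D) u := by
    have h4 : ((n * x * n⁻¹) ((t D) u)) ^ Nat.card ↥D = ((t D) u) ^ Nat.card ↥D := by
      rw [← map_pow]
      exact h2
    exact (powCoprime hcopD).injective h4
  have h5 : ((t D)⁻¹ * n) * x * ((t D)⁻¹ * n)⁻¹ = (t D)⁻¹ * ((n * x * n⁻¹) * (t D)) := by
    group
  rw [h5]
  show (t D)⁻¹ ((n * x * n⁻¹) ((t D) u)) = u
  rw [h3]
  simp

end Cfsg.Agent.Lib.helper38.RO
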