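import Mathlib

set_option autoImplicit false

/-!
# 2-groups of class two with a small centre have extra involutions

`exists_involution_of_c2`: if `V ≤ Z(R)` is elementary abelian of order at most 4, all squares and
commutators of `R` lie in `V`, and `|R| ≥ 64 |V|`, then `R` has an involution outside `V`.

Also: `card_dvd_of_free_action` (a free action of a finite group on a finite set) and
the conjugation action `conjSetAction` of a subgroup on an invariant set.
-/

namespace Cfsg.Agent.Lib.helper1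

open scoped commutatorElement

section C2
variable {X : Type*} [Group X]

/-- `V ≤ R` central in `R` and containing all commutators of `R`. -/
structure C2Data (R V : Subgroup X) : Prop where
  le : V ≤ R
  central : ∀ v ∈ V, ∀ x ∈ R, v * x = x * v
  comm : ∀ x ∈ R, ∀ y ∈ R, ⁅x, y⁆ ∈ V

theorem C2Data.comm_mul {R V : Subgroup X} (h : C2Data R V) {a y z : X} (ha : a ∈ R)
    (hy : y ∈ R) (hz : z ∈ R) : ⁅a, y * z⁆ = ⁅a, y⁆ * ⁅a, z⁆ := by
  have h1 := h.central _ (h.comm a ha z hz) y⁻¹ (R.inv_mem hy)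
  rw [commutatorElement_def] at h1
  rw [commutatorElement_def, commutatorElement_def, commutatorElement_def]
  calc a * (y * z) * a⁻¹ * (y * z)⁻¹ = a * y * a⁻¹ * ((a * z * a⁻¹ * z⁻¹) * y⁻¹) := by group
    _ = a * y * a⁻¹ * (y⁻¹ * (a * z * a⁻¹ * z⁻¹)) := by rw [h1]
    _ = a * y * a⁻¹ * y⁻¹ * (a * z * a⁻¹ * z⁻¹) := by group

theorem C2Data.sq_mul {R V : Subgroup X} (h : C2Data R V) {x y : X} (hx : x ∈ R) (hy : y ∈ R) :
    (x * y) ^ 2 = ⁅y, x⁆ * x ^ 2 * y ^ 2 := by
  have hc := h.central _ (h.comm y hy x hx) x hx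
  calc (x * y) ^ 2 = (x * ⁅y, x⁆) * x * y * y := by rw [pow_two, commutatorElement_def]; group
    _ = (⁅y, x⁆ * x) * x * y * y := by rw [hc]
    _ = ⁅y, x⁆ * x ^ 2 * y ^ 2 := by rw [pow_two, pow_two]; simp only [mul_assoc]

/-- the hom `y ↦ ⁅a, y⁆` from `U ≤ R` to `V` -/
def C2Data.commHom {R V : Subgroup X} (h : C2Data R V) (a : X) (ha : a ∈ R) (U : Subgroup X)
    (hU : U ≤ R) : ↥U →* ↥V where
  toFun y := ⟨⁅a, (y : X)⁆, h.comm a ha y (hU y.2)⟩
  map_one' := by
    apply Subtype.ext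
    simp
  map_mul' y z := by
    apply Subtype.ext
    simpa using h.comm_mul ha (hU y.2) (hU z.2)

theorem C2Data.commHom_ker {R V : Subgroup X} (h : C2Data R V) (a : X) (ha : a ∈ R)
    (U : Subgroup X) (hU : U ≤ R) :
    (h.commHom a ha U hU).ker = (U ⊓ Subgroup.centralizer {a}).subgroupOf U := by
  ext y
  rw [MonoidHom.mem_ker, Subgroup.mem_subgroupOf, Subgroup.mem_inf, Subgroup.mem_centralizer_iff]
  constructor
  · intro hy
    have h1 : ⁅a, (y : X)⁆ = 1 := congrArg Subtype.val hy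
    rw [commutatorElement_eq_one_iff_commute] at h1
    refine ⟨y.2, ?_⟩
    intro g hg
    rw [Set.mem_singleton_iff] at hg
    rw [hg]
    exact h1.eq
  · rintro ⟨-, hy⟩
    apply Subtype.ext
    change ⁅a, (y : X)⁆ = 1
    rw [commutatorElement_eq_one_iff_commute]
    exact hy a rfl

theorem C2Data.card_eq {R V : Subgroup X} [Finite X] (h : C2Data R V) (a : X) (ha : a ∈ R)
    (U : Subgroup X) (hU : U ≤ R) :
    Nat.card U = Nat.card (U ⊓ Subgroup.centralizer {a} : Subgroup X) *
      Nat.card (h.commHom a ha U hU).range := by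
  rw [← Subgroup.index_ker, ← Subgroup.card_mul_index (h.commHom a ha U hU).ker, h.commHom_ker,
    Nat.card_congr (Subgroup.subgroupOfEquivOfLe (inf_le_left : U ⊓ Subgroup.centralizer {a} ≤ U)).toEquiv]

theorem C2Data.card_le {R V : Subgroup X} [Finite X] (h : C2Data R V) (a : X) (ha : a ∈ R)
    (U : Subgroup X) (hU : U ≤ R) :
    Nat.card U ≤ Nat.card V * Nat.card (U ⊓ Subgroup.centralizer {a} : Subgroup X) := by
  rw [h.card_eq a ha U hU, mul_comm]
  exact Nat.mul_le_mul_right _ (Subgroup.card_le_card_group _)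

theorem C2Data.exists_or_card {R V : Subgroup X} [Finite X] (h : C2Data R V) (a : X) (ha : a ∈ R)
    (U : Subgroup X) (hU : U ≤ R) (v : X) (hv : v ∈ V) :
    (∃ y ∈ U, ⁅a, y⁆ = v) ∨
      2 * Nat.card U ≤ Nat.card V * Nat.card (U ⊓ Subgroup.centralizer {a} : Subgroup X) := by
  by_cases hr : (⟨v, hv⟩ : V) ∈ (h.commHom a ha U hU).range
  · left
    obtain ⟨y, hy⟩ := hr
    exact ⟨y, y.2, congrArg Subtype.val hy⟩
  · right
    have hne : (h.commHom a ha U hU).range ≠ ⊤ := fun ht => hr (ht ▸ Subgroup.mem_top _)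
    have hidx : (h.commHom a ha U hU).range.index ≠ 1 := fun h1 => hne (Subgroup.index_eq_one.mp h1)
    have hidx0 : (h.commHom a ha U hU).range.index ≠ 0 := Subgroup.index_ne_zero_of_finite
    have hmul := Subgroup.card_mul_index (h.commHom a ha U hU).range
    have h2 : 2 * Nat.card (h.commHom a ha U hU).range ≤ Nat.card V := by
      rw [← hmul, mul_comm]
      exact Nat.mul_le_mul_left _ (by omega)
    rw [h.card_eq a ha U hU]
    calc 2 * (Nat.card (U ⊓ Subgroup.centralizer {a} : Subgroup X) *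
          Nat.card (h.commHom a ha U hU).range)
        = Nat.card (U ⊓ Subgroup.centralizer {a} : Subgroup X) *
          (2 * Nat.card (h.commHom a ha U hU).range) := by ring
      _ ≤ Nat.card (U ⊓ Subgroup.centralizer {a} : Subgroup X) * Nat.card V :=
          Nat.mul_le_mul_left _ h2
      _ = Nat.card V * Nat.card (U ⊓ Subgroup.centralizer {a} : Subgroup X) := by ring

/-- **Involution lemma.** `V ≤ Z(R)` elementary abelian of order at most 4 containing all squares
and commutators of `R`, and `|R| ≥ 64 |V|`: then `R` has an involution outside `V`. -/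
theorem exists_involution_of_c2 [Finite X] {R V : Subgroup X} (h : C2Data R V)
    (hV2 : ∀ v ∈ V, v ^ 2 = 1) (hV4 : Nat.card V ≤ 4) (hsq : ∀ x ∈ R, x ^ 2 ∈ V)
    (hbig : 64 * Nat.card V ≤ Nat.card R) : ∃ x ∈ R, x ∉ V ∧ x ^ 2 = 1 := by
  by_contra hno
  push Not at hno
  have hVpos : 0 < Nat.card V := Nat.card_pos
  obtain ⟨x₁, hx₁R, hx₁V⟩ : ∃ x ∈ R, x ∉ V := by
    by_contra hcon
    push Not at hcon
    have h1 : Nat.card R ≤ Nat.card V := Subgroup.card_le_of_le (fun x hx => hcon x hx)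
    omega
  have hv₁V : x₁ ^ 2 ∈ V := hsq x₁ hx₁R
  have hv₁ : x₁ ^ 2 ≠ 1 := hno x₁ hx₁R hx₁V
  have hC₁le : (R ⊓ Subgroup.centralizer {x₁} : Subgroup X) ≤ R := inf_le_left
  have hC₁card : 64 ≤ Nat.card (R ⊓ Subgroup.centralizer {x₁} : Subgroup X) := by
    have h1 := h.card_le x₁ hx₁R R le_rfl
    by_contra hlt
    push Not at hlt
    have h2 : Nat.card V * Nat.card (R ⊓ Subgroup.centralizer {x₁} : Subgroup X) <
        Nat.card V * 64 := Nat.mul_lt_mul_of_pos_left hlt hVpos
    omega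
  obtain ⟨x₂, hx₂C, hx₂bad⟩ : ∃ x ∈ ((R ⊓ Subgroup.centralizer {x₁} : Subgroup X) : Set X),
      x ∉ ((V : Set X) ∪ (fun v => x₁⁻¹ * v) '' (V : Set X)) := by
    have hfin : ((V : Set X) ∪ (fun v => x₁⁻¹ * v) '' (V : Set X)).Finite := Set.toFinite _
    have hcard : ((V : Set X) ∪ (fun v => x₁⁻¹ * v) '' (V : Set X)).ncard <
        ((R ⊓ Subgroup.centralizer {x₁} : Subgroup X) : Set X).ncard := by
      have h1 := Set.ncard_union_le (V : Set X) ((fun v => x₁⁻¹ * v) '' (V : Set X))
      have h2 : ((fun v => x₁⁻¹ * v) '' (V : Set X)).ncard ≤ (V : Set X).ncard :=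
        Set.ncard_image_le (Set.toFinite _)
      have h3 : (V : Set X).ncard = Nat.card V := rfl
      have h4 : ((R ⊓ Subgroup.centralizer {x₁} : Subgroup X) : Set X).ncard =
          Nat.card (R ⊓ Subgroup.centralizer {x₁} : Subgroup X) := rfl
      omega
    exact Set.exists_mem_notMem_of_ncard_lt_ncard hcard hfin
  have hx₂R : x₂ ∈ R := hx₂C.1
  have hx₁₂ : Commute x₁ x₂ := Subgroup.mem_centralizer_iff.mp hx₂C.2 x₁ rfl
  have hx₂V : x₂ ∉ V := fun hh => hx₂bad (Or.inl hh)
  have hx₁₂V : x₁ * x₂ ∉ V := fun hh => hx₂bad (Or.inr ⟨x₁ * x₂, hh, by group⟩)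
  have hv₂V : x₂ ^ 2 ∈ V := hsq x₂ hx₂R
  have hv₂ : x₂ ^ 2 ≠ 1 := hno x₂ hx₂R hx₂V
  have hx₁₂R : x₁ * x₂ ∈ R := R.mul_mem hx₁R hx₂R
  have hv₁₂ : x₁ ^ 2 * x₂ ^ 2 ≠ 1 := by
    have h1 := hno (x₁ * x₂) hx₁₂R hx₁₂V
    rwa [h.sq_mul hx₁R hx₂R, (commutatorElement_eq_one_iff_commute).mpr hx₁₂.symm, one_mul] at h1
  obtain ⟨v₁, hv₁def⟩ : ∃ v, v = x₁ ^ 2 := ⟨_, rfl⟩
  obtain ⟨v₂, hv₂def⟩ : ∃ v, v = x₂ ^ 2 := ⟨_, rfl⟩
  rw [← hv₁def] at hv₁V hv₁ hv₁₂
  rw [← hv₂def] at hv₂V hv₂ hv₁₂
  have hv₁sq : v₁ * v₁ = 1 := by rw [← pow_two]; exact hV2 v₁ hv₁V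
  have hv₂sq : v₂ * v₂ = 1 := by rw [← pow_two]; exact hV2 v₂ hv₂V
  have hv21 : v₂ * v₁ = v₁ * v₂ := h.central v₂ hv₂V v₁ (h.le hv₁V)
  have hVmem : ∀ u ∈ V, u = 1 ∨ u = v₁ ∨ u = v₂ ∨ u = v₁ * v₂ := by
    classical
    have hsub : ((({1, v₁, v₂, v₁ * v₂} : Finset X) : Set X)) ⊆ (V : Set X) := by
      intro w hw
      simp only [Finset.coe_insert, Finset.coe_singleton, Set.mem_insert_iff,
        Set.mem_singleton_iff] at hw
      rcases hw with rfl | rfl | rfl | rfl
      · exact V.one_mem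
      · exact hv₁V
      · exact hv₂V
      · exact V.mul_mem hv₁V hv₂V
    have hcard : ({1, v₁, v₂, v₁ * v₂} : Finset X).card = 4 := by
      rw [Finset.card_insert_of_notMem, Finset.card_insert_of_notMem,
        Finset.card_insert_of_notMem, Finset.card_singleton]
      · simp only [Finset.mem_singleton]
        intro hh
        apply hv₁
        have h1 : 1 * v₂ = v₁ * v₂ := by rw [one_mul]; exact hh
        exact (mul_right_cancel h1).symm
      · simp only [Finset.mem_insert, Finset.mem_singleton]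
        rintro (hh | hh)
        · apply hv₁₂
          rw [← hh]
          exact hv₁sq
        · apply hv₂
          have h1 : v₁ * v₂ = v₁ * 1 := by rw [mul_one]; exact hh.symm
          exact mul_left_cancel h1
      · simp only [Finset.mem_insert, Finset.mem_singleton]
        rintro (hh | hh | hh)
        · exact hv₁ hh.symm
        · exact hv₂ hh.symm
        · exact hv₁₂ hh.symm
    have heq := Set.eq_of_subset_of_ncard_le hsub
      (by rw [Set.ncard_coe_finset, hcard]; exact hV4) (Set.toFinite _)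
    intro u hu
    have hu' : u ∈ (({1, v₁, v₂, v₁ * v₂} : Finset X) : Set X) := by rw [heq]; exact hu
    simpa using hu'
  obtain ⟨y, hyC, t, ht, hty, hyV⟩ : ∃ y ∈ (R ⊓ Subgroup.centralizer {x₁} : Subgroup X),
      ∃ t : X, (t = v₁ ∨ t = 1) ∧ ⁅x₂, y⁆ = t ∧
        (y ∉ V ∧ y * x₁ ∉ V ∧ y * x₂ ∉ V ∧ y * x₁ * x₂ ∉ V) := by
    rcases h.exists_or_card x₂ hx₂R _ hC₁le v₁ hv₁V with ⟨y, hyC, hy⟩ | hcard
    · refine ⟨y, hyC, v₁, Or.inl rfl, hy, ?_⟩
      have key : ∀ a : X, Commute x₂ a → y * a ∉ V := by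
        intro a ha hmem
        have h1 : Commute x₂ (y * a) := (h.central _ hmem x₂ hx₂R).symm
        have h2 : Commute x₂ y := by
          have h3 := h1.mul_right ha.inv_right
          simpa using h3
        apply hv₁
        rw [← hy]
        exact commutatorElement_eq_one_iff_commute.mpr h2
      refine ⟨?_, key x₁ hx₁₂.symm, key x₂ (Commute.refl _), ?_⟩
      · have h1 := key 1 (Commute.one_right _)
        simpa using h1
      · have h1 := key (x₁ * x₂) (hx₁₂.symm.mul_right (Commute.refl x₂))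
        rwa [← mul_assoc] at h1
    · have hDcard : 32 ≤ Nat.card ((R ⊓ Subgroup.centralizer {x₁}) ⊓ Subgroup.centralizer {x₂} :
          Subgroup X) := by
        by_contra hlt
        push Not at hlt
        have h2 : Nat.card V * Nat.card ((R ⊓ Subgroup.centralizer {x₁}) ⊓
            Subgroup.centralizer {x₂} : Subgroup X) ≤ 4 * 31 :=
          Nat.mul_le_mul hV4 (by omega)
        omega
      obtain ⟨y, hyD, hybad⟩ : ∃ y ∈ (((R ⊓ Subgroup.centralizer {x₁}) ⊓
          Subgroup.centralizer {x₂} : Subgroup X) : Set X),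
          y ∉ ((V : Set X) ∪ (fun v => v * x₁⁻¹) '' (V : Set X) ∪
            (fun v => v * x₂⁻¹) '' (V : Set X) ∪ (fun v => v * (x₁ * x₂)⁻¹) '' (V : Set X)) := by
        have hfin : ((V : Set X) ∪ (fun v => v * x₁⁻¹) '' (V : Set X) ∪
            (fun v => v * x₂⁻¹) '' (V : Set X) ∪
            (fun v => v * (x₁ * x₂)⁻¹) '' (V : Set X)).Finite := Set.toFinite _
        have hcard' : ((V : Set X) ∪ (fun v => v * x₁⁻¹) '' (V : Set X) ∪
            (fun v => v * x₂⁻¹) '' (V : Set X) ∪
            (fun v => v * (x₁ * x₂)⁻¹) '' (V : Set X)).ncard <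
            (((R ⊓ Subgroup.centralizer {x₁}) ⊓ Subgroup.centralizer {x₂} : Subgroup X) :
              Set X).ncard := by
          have h1 := Set.ncard_union_le ((V : Set X) ∪ (fun v => v * x₁⁻¹) '' (V : Set X) ∪
            (fun v => v * x₂⁻¹) '' (V : Set X)) ((fun v => v * (x₁ * x₂)⁻¹) '' (V : Set X))
          have h1' := Set.ncard_union_le ((V : Set X) ∪ (fun v => v * x₁⁻¹) '' (V : Set X))
            ((fun v => v * x₂⁻¹) '' (V : Set X))
          have h1'' := Set.ncard_union_le (V : Set X) ((fun v => v * x₁⁻¹) '' (V : Set X))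
          have h2 : ((fun v => v * x₁⁻¹) '' (V : Set X)).ncard ≤ (V : Set X).ncard :=
            Set.ncard_image_le (Set.toFinite _)
          have h2' : ((fun v => v * x₂⁻¹) '' (V : Set X)).ncard ≤ (V : Set X).ncard :=
            Set.ncard_image_le (Set.toFinite _)
          have h2'' : ((fun v => v * (x₁ * x₂)⁻¹) '' (V : Set X)).ncard ≤ (V : Set X).ncard :=
            Set.ncard_image_le (Set.toFinite _)
          have h3 : (V : Set X).ncard = Nat.card V := rfl
          have h4 : (((R ⊓ Subgroup.centralizer {x₁}) ⊓ Subgroup.centralizer {x₂} : Subgroup X) :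
              Set X).ncard = Nat.card ((R ⊓ Subgroup.centralizer {x₁}) ⊓
                Subgroup.centralizer {x₂} : Subgroup X) := rfl
          omega
        exact Set.exists_mem_notMem_of_ncard_lt_ncard hcard' hfin
      have hyx₂ : Commute x₂ y := Subgroup.mem_centralizer_iff.mp hyD.2 x₂ rfl
      refine ⟨y, hyD.1, 1, Or.inr rfl, commutatorElement_eq_one_iff_commute.mpr hyx₂, ?_, ?_, ?_, ?_⟩
      · exact fun hh => hybad (Or.inl (Or.inl (Or.inl hh)))
      · exact fun hh => hybad (Or.inl (Or.inl (Or.inr ⟨y * x₁, hh, by group⟩)))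
      · exact fun hh => hybad (Or.inl (Or.inr ⟨y * x₂, hh, by group⟩))
      · exact fun hh => hybad (Or.inr ⟨y * x₁ * x₂, hh, by group⟩)
  have hyR : y ∈ R := hyC.1
  have hy₁ : Commute x₁ y := Subgroup.mem_centralizer_iff.mp hyC.2 x₁ rfl
  have huV : y ^ 2 ∈ V := hsq y hyR
  have hu1 : y ^ 2 ≠ 1 := hno y hyR hyV.1
  have hsq1 : (y * x₁) ^ 2 = y ^ 2 * v₁ := by
    rw [h.sq_mul hyR hx₁R, commutatorElement_eq_one_iff_commute.mpr hy₁, one_mul, hv₁def]
  have hu2 : y ^ 2 * v₁ ≠ 1 := by
    have h1 := hno (y * x₁) (R.mul_mem hyR hx₁R) hyV.2.1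
    rwa [hsq1] at h1
  have hu3 : t * y ^ 2 * v₂ ≠ 1 := by
    have h1 := hno (y * x₂) (R.mul_mem hyR hx₂R) hyV.2.2.1
    rwa [h.sq_mul hyR hx₂R, hty, ← hv₂def] at h1
  have hu4 : t * (y ^ 2 * v₁) * v₂ ≠ 1 := by
    have h1 := hno (y * x₁ * x₂) (R.mul_mem (R.mul_mem hyR hx₁R) hx₂R) hyV.2.2.2
    rwa [h.sq_mul (R.mul_mem hyR hx₁R) hx₂R, h.comm_mul hx₂R hyR hx₁R, hty,
      commutatorElement_eq_one_iff_commute.mpr hx₁₂.symm, mul_one, hsq1, ← hv₂def] at h1
  have e1 : v₁ * (v₁ * v₂) * v₂ = 1 := by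
    simp only [mul_assoc]
    rw [hv₂sq, mul_one, hv₁sq]
  have e2 : v₁ * (v₂ * v₁) * v₂ = 1 := by rw [hv21]; exact e1
  rcases hVmem (y ^ 2) huV with hu | hu | hu | hu
  · exact hu1 hu
  · rw [hu] at hu2
    exact hu2 hv₁sq
  · rw [hu] at hu3 hu4
    rcases ht with rfl | rfl
    · exact hu4 e2
    · apply hu3
      rw [one_mul]
      exact hv₂sq
  · rw [hu] at hu3 hu4
    rcases ht with rfl | rfl
    · exact hu3 e1
    · apply hu4
      rw [one_mul, mul_assoc v₁ v₂ v₁]
      exact e2

end C2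

section Action

/-- A free action of a finite group on a finite set: the order divides the size. -/
theorem card_dvd_of_free_action {G α : Type*} [Group G] [MulAction G α] [Finite G] [Finite α]
    (hfree : ∀ (g : G) (a : α), g • a = a → g = 1) : Nat.card G ∣ Nat.card α := by
  classical
  have := Fintype.ofFinite G
  have := Fintype.ofFinite α
  have h := MulAction.sum_card_fixedBy_eq_card_orbits_mul_card_group G α
  have hsum : (∑ g : G, Fintype.card (MulAction.fixedBy α g)) = Fintype.card α := by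
    rw [Finset.sum_eq_single (1 : G)]
    · exact Fintype.card_congr (Equiv.subtypeUnivEquiv (fun a => MulAction.mem_fixedBy.mpr (one_smul G a)))
    · intro g _ hg
      rw [Fintype.card_eq_zero_iff]
      exact ⟨fun ⟨a, ha⟩ => hg (hfree g a (MulAction.mem_fixedBy.mp ha))⟩
    · intro h1
      exact absurd (Finset.mem_univ _) h1
  rw [hsum] at h
  rw [Nat.card_eq_fintype_card, Nat.card_eq_fintype_card, h]
  exact Dvd.intro_left _ rfl

variable {X : Type*} [Group X]

/-- conjugation action of a subgroup on an invariant set -/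
@[reducible] def conjSetAction (D : Subgroup X) (S : Set X)
    (hS : ∀ g ∈ D, ∀ x ∈ S, g * x * g⁻¹ ∈ S) : MulAction D S where
  smul g x := ⟨(g : X) * x * (g : X)⁻¹, hS g g.2 x x.2⟩
  one_smul x := by
    apply Subtype.ext
    change ((1 : D) : X) * x * ((1 : D) : X)⁻¹ = x
    simp
  mul_smul g h x := by
    apply Subtype.ext
    change ((g * h : D) : X) * x * ((g * h : D) : X)⁻¹ =
      (g : X) * ((h : X) * x * (h : X)⁻¹) * (g : X)⁻¹
    simp [mul_assoc]

theorem le_normalizer_of_forall_conj_mem {B U : Subgroup X}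
    (h : ∀ g ∈ B, ∀ x ∈ U, g * x * g⁻¹ ∈ U) : B ≤ Subgroup.normalizer (U : Set X) := by
  intro g hg
  rw [Subgroup.mem_normalizer_iff]
  intro x
  constructor
  · exact h g hg x
  · intro hx
    have h1 := h g⁻¹ (B.inv_mem hg) _ hx
    simpa [mul_assoc] using h1

theorem conj_mem_of_le_normalizer {B U : Subgroup X} (h : B ≤ Subgroup.normalizer (U : Set X))
    {g x : X} (hg : g ∈ B) (hx : x ∈ U) : g * x * g⁻¹ ∈ U :=
  (Subgroup.mem_normalizer_iff.mp (h hg) x).mp hx

theorem le_normalizer_sup {B U₁ U₂ : Subgroup X} (h₁ : B ≤ Subgroup.normalizer (U₁ : Set X))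
    (h₂ : B ≤ Subgroup.normalizer (U₂ : Set X)) : B ≤ Subgroup.normalizer ((U₁ ⊔ U₂ : Subgroup X) : Set X) := by
  apply le_normalizer_of_forall_conj_mem
  intro g hg x hx
  have hle : U₁ ⊔ U₂ ≤ (U₁ ⊔ U₂).comap (MulAut.conj g).toMonoidHom := by
    apply sup_le
    · intro y hy
      rw [Subgroup.mem_comap]
      exact (le_sup_left : U₁ ≤ U₁ ⊔ U₂) (conj_mem_of_le_normalizer h₁ hg hy)
    · intro y hy
      rw [Subgroup.mem_comap]
      exact (le_sup_right : U₂ ≤ U₁ ⊔ U₂) (conj_mem_of_le_normalizer h₂ hg hy)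
  exact hle hx

end Action

section Adjoin
variable {X : Type*} [Group X]

/-- Adjoining an involution `x ∉ E` centralizing the elementary abelian 2-group `E`. -/
theorem exists_elemAb_adjoin [Finite X] (E : Subgroup X) (hEc : ∀ a ∈ E, ∀ b ∈ E, a * b = b * a)
    (hE2 : ∀ a ∈ E, a ^ 2 = 1) (x : X) (hx : x ^ 2 = 1) (hxc : ∀ v ∈ E, x * v = v * x)
    (hxE : x ∉ E) :
    ∃ K : Subgroup X, E ≤ K ∧ x ∈ K ∧ (∀ a ∈ K, ∀ b ∈ K, a * b = b * a) ∧ (∀ a ∈ K, a ^ 2 = 1) ∧
      Nat.card K = 2 * Nat.card E ∧ (∀ a ∈ K, a ∈ E ∨ a * x ∈ E) := by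
  have hxx : x * x = 1 := by rw [← pow_two]; exact hx
  have hcomm : ∀ y : X, y * x ∈ E → x * y = y * x := by
    intro y hy
    have h1 := hxc (y * x) hy
    calc x * y = x * (y * x) * x := by rw [mul_assoc, mul_assoc, hxx, mul_one]
      _ = (y * x) * x * x := by rw [h1]
      _ = y * x := by rw [mul_assoc (y * x), hxx, mul_one]
  let K : Subgroup X :=
    { carrier := {y | y ∈ E ∨ y * x ∈ E}
      one_mem' := Or.inl E.one_mem
      mul_mem' := by
        rintro a b (ha | ha) (hb | hb)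
        · exact Or.inl (E.mul_mem ha hb)
        · right
          rw [mul_assoc]
          exact E.mul_mem ha hb
        · right
          have h1 : a * b * x = (a * x) * b := by rw [mul_assoc, ← hxc b hb, ← mul_assoc]
          rw [h1]
          exact E.mul_mem ha hb
        · left
          have h1 : a * b = (a * x) * (b * x) := by
            rw [← hcomm b hb, mul_assoc, ← mul_assoc x, hxx, one_mul]
          rw [h1]
          exact E.mul_mem ha hb
      inv_mem' := by
        rintro a (ha | ha)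
        · exact Or.inl (E.inv_mem ha)
        · right
          have h2 : x⁻¹ = x := inv_eq_of_mul_eq_one_left hxx
          have h1 : a⁻¹ * x = (a * x)⁻¹ := by
            rw [← hcomm a ha, mul_inv_rev, h2]
          rw [h1]
          exact E.inv_mem ha }
  have hKmem : ∀ a, a ∈ K ↔ (a ∈ E ∨ a * x ∈ E) := fun a => Iff.rfl
  have hxK : x ∈ K := (hKmem x).mpr (Or.inr (by rw [hxx]; exact E.one_mem))
  have hEK : E ≤ K := fun a ha => (hKmem a).mpr (Or.inl ha)
  -- every element of `K` commutes with `E` and `x`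
  have hKx : ∀ a ∈ K, x * a = a * x := by
    intro a ha
    rcases (hKmem a).mp ha with h | h
    · exact hxc a h
    · exact hcomm a h
  have hKE : ∀ a ∈ K, ∀ v ∈ E, a * v = v * a := by
    intro a ha v hv
    rcases (hKmem a).mp ha with h | h
    · exact hEc a h v hv
    · have h1 := hEc (a * x) h v hv
      have h2 := hxc v hv
      calc a * v = a * (x * x) * v := by rw [hxx, mul_one]
        _ = a * x * (x * v) := by simp only [mul_assoc]
        _ = a * x * (v * x) := by rw [h2]
        _ = (a * x * v) * x := by simp only [mul_assoc]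
        _ = (v * (a * x)) * x := by rw [h1]
        _ = v * a * (x * x) := by simp only [mul_assoc]
        _ = v * a := by rw [hxx, mul_one]
  have hKc : ∀ a ∈ K, ∀ b ∈ K, a * b = b * a := by
    intro a ha b hb
    rcases (hKmem b).mp hb with h | h
    · exact hKE a ha b h
    · have h1 := hKE a ha (b * x) h
      have h2 := hKx a ha
      calc a * b = a * b * (x * x) := by rw [hxx, mul_one]
        _ = a * (b * x) * x := by simp only [mul_assoc]
        _ = (b * x) * a * x := by rw [h1]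
        _ = b * (x * a) * x := by simp only [mul_assoc]
        _ = b * (a * x) * x := by rw [h2]
        _ = b * a * (x * x) := by simp only [mul_assoc]
        _ = b * a := by rw [hxx, mul_one]
  have hK2 : ∀ a ∈ K, a ^ 2 = 1 := by
    intro a ha
    rcases (hKmem a).mp ha with h | h
    · exact hE2 a h
    · have h1 := hE2 (a * x) h
      have h2 := hKx a ha
      rw [pow_two] at h1 ⊢
      calc a * a = a * a * (x * x) := by rw [hxx, mul_one]
        _ = a * (a * x) * x := by simp only [mul_assoc]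
        _ = a * (x * a) * x := by rw [h2]
        _ = (a * x) * (a * x) := by simp only [mul_assoc]
        _ = 1 := h1
  refine ⟨K, hEK, hxK, hKc, hK2, ?_, fun a ha => (hKmem a).mp ha⟩
  have hset : (K : Set X) = (E : Set X) ∪ (fun v => v * x) '' (E : Set X) := by
    ext a
    constructor
    · intro ha
      rcases (hKmem a).mp ha with h | h
      · exact Or.inl h
      · exact Or.inr ⟨a * x, h, by show a * x * x = a; rw [mul_assoc, hxx, mul_one]⟩
    · rintro (h | ⟨v, hv, rfl⟩)
      · exact (hKmem a).mpr (Or.inl h)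
      · exact (hKmem _).mpr (Or.inr (by show v * x * x ∈ E; rw [mul_assoc, hxx, mul_one]; exact hv))
  have hdisj : Disjoint (E : Set X) ((fun v => v * x) '' (E : Set X)) := by
    rw [Set.disjoint_left]
    rintro a ha ⟨v, hv, hva⟩
    apply hxE
    have h1 : x = v⁻¹ * a := by rw [← hva]; show x = v⁻¹ * (v * x); group
    rw [h1]
    exact E.mul_mem (E.inv_mem hv) ha
  have h1 : Nat.card K = (K : Set X).ncard := rfl
  have h2 : Nat.card E = (E : Set X).ncard := rfl
  rw [h1, hset, Set.ncard_union_eq hdisj (Set.toFinite _) (Set.toFinite _),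
    Set.ncard_image_of_injective _ (mul_left_injective x), h2]
  ring

end Adjoin

end Cfsg.Agent.Lib.helper1
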