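import Mathlib
import Cfsg.Agent.Lib.helper1.RankTwo
import Cfsg.Agent.Lib.helper1.Coprime
import Cfsg.Agent.Lib.helper1.PGroup
import Cfsg.Agent.Lib.helper3.Class2
import Cfsg.Agent.Lib.helper3.PGroupFrattini
import Cfsg.Agent.S3736

set_option autoImplicit false

/-!
# A 3-element acting faithfully and fixed-point-freely on a 2-group of rank ≤ 2 has order 3
-/

namespace Cfsg.Agent.Lib.helper1

open scoped commutatorElement

section Omega
variable {X : Type*} [Group X]

/-- `Ω₁(Z(P))` -/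
def omegaCenter (P : Subgroup X) : Subgroup X where
  carrier := {x | x ∈ P ∧ (∀ y ∈ P, x * y = y * x) ∧ x * x = 1}
  one_mem' := ⟨P.one_mem, fun y _ => by simp, by simp⟩
  mul_mem' := by
    rintro a b ⟨ha, hac, ha2⟩ ⟨hb, hbc, hb2⟩
    refine ⟨P.mul_mem ha hb, fun y hy => ?_, ?_⟩
    · rw [mul_assoc, hbc y hy, ← mul_assoc, hac y hy, mul_assoc]
    · calc a * b * (a * b) = a * (b * a) * b := by simp only [mul_assoc]
        _ = a * (a * b) * b := by rw [hbc a ha]
        _ = (a * a) * (b * b) := by simp only [mul_assoc]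
        _ = 1 := by rw [ha2, hb2, one_mul]
  inv_mem' := by
    rintro a ⟨ha, hac, ha2⟩
    have hinv : a⁻¹ = a := inv_eq_of_mul_eq_one_left ha2
    rw [hinv]
    exact ⟨ha, hac, ha2⟩

theorem omegaCenter_le (P : Subgroup X) : omegaCenter P ≤ P := fun _ hx => hx.1

theorem conj_mem_omegaCenter {P : Subgroup X} {g : X} (hg : g ∈ Subgroup.normalizer (P : Set X))
    {h : X} (hh : h ∈ omegaCenter P) : g * h * g⁻¹ ∈ omegaCenter P := by
  obtain ⟨h1, h2, h3⟩ := hh
  refine ⟨(Subgroup.mem_normalizer_iff.mp hg h).mp h1, fun y hy => ?_, ?_⟩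
  · have hy' : g⁻¹ * y * g ∈ P := by
      rw [Subgroup.mem_normalizer_iff.mp hg (g⁻¹ * y * g)]
      have h5 : g * (g⁻¹ * y * g) * g⁻¹ = y := by group
      rw [h5]
      exact hy
    have h4 := h2 _ hy'
    calc g * h * g⁻¹ * y = g * (h * (g⁻¹ * y * g)) * g⁻¹ := by group
      _ = g * ((g⁻¹ * y * g) * h) * g⁻¹ := by rw [h4]
      _ = y * (g * h * g⁻¹) := by group
  · calc g * h * g⁻¹ * (g * h * g⁻¹) = g * (h * h) * g⁻¹ := by group
      _ = 1 := by rw [h3]; group

theorem card_le_four_of_elemAb (P : Subgroup X)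
    (hrank : ∀ V : Subgroup X, V ≤ P → IsMulCommutative V → Cfsg.PRankLE 2 2 V)
    (E : Subgroup X) (hE : E ≤ P) (hEc : ∀ a ∈ E, ∀ b ∈ E, a * b = b * a)
    (hE2 : ∀ a ∈ E, a ^ 2 = 1) : Nat.card E ≤ 4 := by
  have : IsMulCommutative E := .of_setLike_mul_comm (fun a ha b hb => hEc a ha b hb)
  have h := hrank E hE inferInstance ⊤ inferInstance
    (fun a _ => Subtype.ext (by simpa using hE2 a a.2))
  rw [Subgroup.card_top] at h
  norm_num at h
  exact h

theorem involution_mem_omega [Finite X] (P : Subgroup X)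
    (hrank : ∀ V : Subgroup X, V ≤ P → IsMulCommutative V → Cfsg.PRankLE 2 2 V)
    (hΩ : Nat.card (omegaCenter P) = 4) :
    ∀ x ∈ P, x ^ 2 = 1 → x ∈ omegaCenter P := by
  intro x hxP hx
  by_contra hxΩ
  have hΩc : ∀ a ∈ omegaCenter P, ∀ b ∈ omegaCenter P, a * b = b * a :=
    fun a ha b hb => ha.2.1 b hb.1
  have hΩ2 : ∀ a ∈ omegaCenter P, a ^ 2 = 1 := fun a ha => by rw [pow_two]; exact ha.2.2
  obtain ⟨K, hEK, hxK, hKc, hK2, hKcard, hKmem⟩ :=
    exists_elemAb_adjoin (omegaCenter P) hΩc hΩ2 x hx (fun v hv => (hv.2.1 x hxP).symm) hxΩ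
  have hKP : K ≤ P := by
    intro a ha
    rcases hKmem a ha with h | h
    · exact h.1
    · have h1 : a = (a * x) * x⁻¹ := by group
      rw [h1]
      exact P.mul_mem h.1 (P.inv_mem hxP)
  have h4 := card_le_four_of_elemAb P hrank K hKP hKc hK2
  omega

/-- in a cyclic group of order `3 ^ n`, every nontrivial subgroup contains the subgroup of order 3 -/
theorem pow_mem_zpowers_of_ne_one (d : X) (n : ℕ) (hn : 1 ≤ n) (hd : orderOf d = 3 ^ n) (g : X)
    (hg : g ∈ Subgroup.zpowers d) (hg1 : g ≠ 1) : d ^ (3 ^ (n - 1)) ∈ Subgroup.zpowers g := by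
  have hfin : IsOfFinOrder d := orderOf_pos_iff.mp (by rw [hd]; positivity)
  have hdvd : orderOf g ∣ 3 ^ n := by rw [← hd]; exact orderOf_dvd_of_mem_zpowers hg
  obtain ⟨k, hk, hgk⟩ := (Nat.dvd_prime_pow Nat.prime_three).mp hdvd
  have hk0 : k ≠ 0 := by
    rintro rfl
    rw [pow_zero, orderOf_eq_one_iff] at hgk
    exact hg1 hgk
  have hh3 : (g ^ (3 ^ (k - 1))) ^ 3 = 1 := by
    rw [← pow_mul, ← pow_succ, Nat.sub_add_cancel (Nat.one_le_iff_ne_zero.mpr hk0), ← hgk]
    exact pow_orderOf_eq_one g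
  have hh1 : g ^ (3 ^ (k - 1)) ≠ 1 := by
    intro h1
    have h2 := orderOf_dvd_of_pow_eq_one h1
    rw [hgk] at h2
    have h3 := Nat.le_of_dvd (by positivity) h2
    have h4 := Nat.pow_lt_pow_right (a := 3) (by norm_num) (show k - 1 < k by omega)
    omega
  have hhd : g ^ (3 ^ (k - 1)) ∈ Subgroup.zpowers d := Subgroup.pow_mem _ hg _
  obtain ⟨j, hj⟩ := (Submonoid.mem_powers_iff _ _).mp (hfin.mem_powers_iff_mem_zpowers.mpr hhd)
  have hj3 : d ^ (j * 3) = 1 := by rw [pow_mul, hj]; exact hh3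
  have hdj : 3 ^ n ∣ j * 3 := by rw [← hd]; exact orderOf_dvd_of_pow_eq_one hj3
  have hdj' : 3 ^ (n - 1) ∣ j := by
    have h1 : 3 ^ n = 3 ^ (n - 1) * 3 := by
      rw [← pow_succ, Nat.sub_add_cancel hn]
    rw [h1] at hdj
    exact Nat.dvd_of_mul_dvd_mul_right (by norm_num) hdj
  obtain ⟨m, rfl⟩ := hdj'
  have he3 : (d ^ (3 ^ (n - 1))) ^ 3 = 1 := by
    rw [← pow_mul, ← pow_succ, Nat.sub_add_cancel hn, ← hd]
    exact pow_orderOf_eq_one d
  have hle : Subgroup.zpowers (g ^ (3 ^ (k - 1))) ≤ Subgroup.zpowers g :=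
    Subgroup.zpowers_le.mpr (Subgroup.pow_mem _ (Subgroup.mem_zpowers g) _)
  apply hle
  have hem : g ^ (3 ^ (k - 1)) = (d ^ (3 ^ (n - 1))) ^ (m % 3) := by
    rw [← hj, pow_mul]
    conv_lhs => rw [← Nat.div_add_mod m 3]
    rw [pow_add, pow_mul, he3, one_pow, one_mul]
  have hm3 : m % 3 < 3 := Nat.mod_lt _ (by norm_num)
  interval_cases hmm : m % 3
  · rw [pow_zero] at hem
    exact absurd hem hh1
  · rw [pow_one] at hem
    rw [← hem]
    exact Subgroup.mem_zpowers _
  · have h5 : d ^ (3 ^ (n - 1)) = (g ^ (3 ^ (k - 1))) ^ 2 := by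
      rw [hem, ← pow_mul]
      have : (d ^ (3 ^ (n - 1))) ^ (2 * 2) = (d ^ (3 ^ (n - 1))) ^ 3 * d ^ (3 ^ (n - 1)) := by
        rw [← pow_succ]
      rw [this, he3, one_mul]
    rw [h5]
    exact Subgroup.pow_mem _ (Subgroup.mem_zpowers _) _

theorem special_center_sq {G : Type*} [Group G] [Finite G] (hG : IsPGroup 2 G)
    (h1 : frattini G = Subgroup.center G) (h2 : commutator G = Subgroup.center G) :
    ∀ z ∈ Subgroup.center G, z ^ 2 = 1 := by
  have hcc : Cfsg.Agent.Lib.helper3.CommCentral G := by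
    intro x y z
    have h3 : ⁅x, y⁆ ∈ Subgroup.center G := by
      rw [← h2, commutator_def]
      exact Subgroup.commutator_mem_commutator (Subgroup.mem_top x) (Subgroup.mem_top y)
    exact (Subgroup.mem_center_iff.mp h3 z).symm
  intro z hz
  rw [← h2, commutator_def, Subgroup.commutator_def] at hz
  induction hz using Subgroup.closure_induction with
  | mem w hw =>
    obtain ⟨a, -, b, -, rfl⟩ := hw
    rw [← Cfsg.Agent.Lib.helper3.commutator_pow_left_class2 hcc b a 2]
    have ha2 : a ^ 2 ∈ Subgroup.center G := by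
      rw [← h1]
      exact Cfsg.Agent.Lib.helper3.pow_prime_mem_frattini hG a
    rw [commutatorElement_eq_one_iff_commute]
    exact (Subgroup.mem_center_iff.mp ha2 b).symm
  | one => simp
  | mul x y hx hy ihx ihy =>
    have hxc : x ∈ Subgroup.center G := by
      rw [← h2, commutator_def, Subgroup.commutator_def]
      exact hx
    have hc : Commute x y := (Subgroup.mem_center_iff.mp hxc y).symm
    rw [hc.mul_pow, ihx, ihy, one_mul]
  | inv x hx ih => rw [inv_pow, ih, inv_one]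

end Omega

section Main
variable {X : Type*} [Group X] [Finite X]

theorem omega_card_four (d : X) (n : ℕ) (hn : 1 ≤ n) (hd : orderOf d = 3 ^ n)
    (P : Subgroup X) (hP : IsPGroup 2 P) (hdP : d ∈ Subgroup.normalizer (P : Set X))
    (hfaith : Subgroup.zpowers d ⊓ Subgroup.centralizer (P : Set X) = ⊥)
    (hfpf : P ⊓ Subgroup.centralizer {d} = ⊥)
    (hrank : ∀ V : Subgroup X, V ≤ P → IsMulCommutative V → Cfsg.PRankLE 2 2 V) :
    Nat.card (omegaCenter P) = 4 ∧ ∀ v ∈ omegaCenter P, d ^ 3 * v = v * d ^ 3 := by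
  have hd1 : d ≠ 1 := by
    rintro rfl
    rw [orderOf_one] at hd
    have h3 : 3 ^ 1 ≤ 3 ^ n := Nat.pow_le_pow_right (by norm_num) hn
    omega
  have hPne : P ≠ ⊥ := by
    rintro rfl
    have h1 : d ∈ Subgroup.zpowers d ⊓ Subgroup.centralizer ((⊥ : Subgroup X) : Set X) := by
      refine Subgroup.mem_inf.mpr ⟨Subgroup.mem_zpowers d, Subgroup.mem_centralizer_iff.mpr ?_⟩
      intro h hh
      rw [Subgroup.coe_bot, Set.mem_singleton_iff] at hh
      rw [hh]
      simp
    rw [hfaith, Subgroup.mem_bot] at h1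
    exact hd1 h1
  have hΩne : omegaCenter P ≠ ⊥ := by
    have : Nontrivial P := (Subgroup.nontrivial_iff_ne_bot P).mpr hPne
    have := hP.center_nontrivial
    have h2 : IsPGroup 2 (Subgroup.center P) := hP.to_subgroup _
    have h3 : 2 ∣ Nat.card (Subgroup.center P) := by
      rcases h2.card_eq_or_dvd with h | h
      · have h4 := Finite.one_lt_card (α := Subgroup.center P)
        omega
      · exact h
    obtain ⟨z, hz⟩ := exists_prime_orderOf_dvd_card' 2 h3
    intro hbot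
    have hzΩ : ((z : P) : X) ∈ omegaCenter P := by
      refine ⟨(z : P).2, fun y hy => ?_, ?_⟩
      · have h4 := Subgroup.mem_center_iff.mp z.2 ⟨y, hy⟩
        exact (congrArg Subtype.val h4).symm
      · have h4 : z ^ 2 = 1 := by rw [← hz]; exact pow_orderOf_eq_one z
        have h5 : (((z ^ 2 : Subgroup.center P) : P) : X) = 1 := by rw [h4]; rfl
        rw [← pow_two]
        exact h5
    rw [hbot, Subgroup.mem_bot] at hzΩ
    have h6 : z = 1 := Subtype.ext (Subtype.ext hzΩ)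
    rw [h6, orderOf_one] at hz
    omega
  have hΩc : ∀ a ∈ omegaCenter P, ∀ b ∈ omegaCenter P, a * b = b * a :=
    fun a ha b hb => ha.2.1 b hb.1
  have hΩ2 : ∀ a ∈ omegaCenter P, a ^ 2 = 1 := fun a ha => by rw [pow_two]; exact ha.2.2
  have hΩ4 : Nat.card (omegaCenter P) ≤ 4 :=
    card_le_four_of_elemAb P hrank _ (omegaCenter_le P) hΩc hΩ2
  have hD3 : IsPGroup 3 (Subgroup.zpowers d) :=
    IsPGroup.of_card (n := n) (by rw [Nat.card_zpowers, hd])
  have hBP : Subgroup.zpowers d ≤ Subgroup.normalizer (P : Set X) := Subgroup.zpowers_le.mpr hdP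
  have hinv : ∀ g ∈ Subgroup.zpowers d, ∀ x ∈ (omegaCenter P : Set X),
      g * x * g⁻¹ ∈ (omegaCenter P : Set X) :=
    fun g hg x hx => conj_mem_omegaCenter (hBP hg) hx
  let _ := conjSetAction (Subgroup.zpowers d) (omegaCenter P : Set X) hinv
  have hfix : Nat.card (MulAction.fixedPoints (Subgroup.zpowers d) (omegaCenter P : Set X)) = 1 := by
    rw [Nat.card_eq_one_iff_exists]
    refine ⟨⟨⟨1, (omegaCenter P).one_mem⟩, fun g => Subtype.ext (by
      change (g : X) * 1 * (g : X)⁻¹ = 1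
      simp)⟩, ?_⟩
    rintro ⟨⟨y, hy⟩, hfy⟩
    apply Subtype.ext
    apply Subtype.ext
    change y = 1
    have h1 := hfy ⟨d, Subgroup.mem_zpowers d⟩
    have h2 : d * y * d⁻¹ = y := congrArg Subtype.val h1
    have h3 : y ∈ P ⊓ Subgroup.centralizer {d} := by
      refine Subgroup.mem_inf.mpr ⟨hy.1, Subgroup.mem_centralizer_iff.mpr ?_⟩
      intro g hg
      rw [Set.mem_singleton_iff] at hg
      rw [hg]
      calc d * y = (d * y * d⁻¹) * d := by group
        _ = y * d := by rw [h2]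
    rw [hfpf, Subgroup.mem_bot] at h3
    exact h3
  have hmod := hD3.card_modEq_card_fixedPoints (omegaCenter P : Set X)
  rw [hfix] at hmod
  have hcardΩ : Nat.card (omegaCenter P) = 4 := by
    obtain ⟨k, hk⟩ := IsPGroup.iff_card.mp (hP.to_le (omegaCenter_le P))
    have h1 : Nat.card (omegaCenter P) ≠ 1 := fun h => hΩne (Subgroup.card_eq_one.mp h)
    have hmod' : Nat.card (omegaCenter P) % 3 = 1 % 3 := hmod
    rw [hk] at h1 hmod' hΩ4 ⊢
    have hk2 : k < 3 := by
      by_contra hh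
      push Not at hh
      have h5 := Nat.pow_le_pow_right (n := 2) (by norm_num) hh
      omega
    interval_cases k <;> simp_all
  refine ⟨hcardΩ, ?_⟩
  intro v hv
  have hidx : (MulAction.stabilizer (Subgroup.zpowers d) (⟨v, hv⟩ : (omegaCenter P : Set X))).index ∣ 3 := by
    have h1 : (MulAction.stabilizer (Subgroup.zpowers d)
        (⟨v, hv⟩ : (omegaCenter P : Set X))).index ∣ 3 ^ n := by
      have h2 := Subgroup.index_dvd_card (MulAction.stabilizer (Subgroup.zpowers d)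
        (⟨v, hv⟩ : (omegaCenter P : Set X)))
      rwa [Nat.card_zpowers, hd] at h2
    have h2 : (MulAction.stabilizer (Subgroup.zpowers d)
        (⟨v, hv⟩ : (omegaCenter P : Set X))).index ≤ 4 := by
      rw [MulAction.index_stabilizer]
      calc (MulAction.orbit (Subgroup.zpowers d) (⟨v, hv⟩ : (omegaCenter P : Set X))).ncard
          ≤ Nat.card (omegaCenter P : Set X) := Set.ncard_le_card _
        _ = 4 := hcardΩ
    obtain ⟨j, hj, hj2⟩ := (Nat.dvd_prime_pow Nat.prime_three).mp h1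
    rw [hj2] at h2 ⊢
    have hj3 : j < 2 := by
      by_contra hh
      push Not at hh
      have h5 := Nat.pow_le_pow_right (n := 3) (by norm_num) hh
      omega
    interval_cases j <;> simp
  have h3 : (⟨d, Subgroup.mem_zpowers d⟩ : Subgroup.zpowers d) ^ 3 ∈
      MulAction.stabilizer (Subgroup.zpowers d) (⟨v, hv⟩ : (omegaCenter P : Set X)) := by
    obtain ⟨c, hc⟩ := hidx
    have h4 := (MulAction.stabilizer (Subgroup.zpowers d)
      (⟨v, hv⟩ : (omegaCenter P : Set X))).pow_index_mem ⟨d, Subgroup.mem_zpowers d⟩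
    have h5 := Subgroup.pow_mem _ h4 c
    rwa [← pow_mul, ← hc] at h5
  have h5 := MulAction.mem_stabilizer_iff.mp h3
  have h6 : d ^ 3 * v * (d ^ 3)⁻¹ = v := congrArg Subtype.val h5
  calc d ^ 3 * v = (d ^ 3 * v * (d ^ 3)⁻¹) * d ^ 3 := by group
    _ = v * d ^ 3 := by rw [h6]

theorem frattini_index_ge (d : X) (n : ℕ) (hn2 : 2 ≤ n) (hd : orderOf d = 3 ^ n) (R : Subgroup X)
    (hR : IsPGroup 2 R) (hBR : Subgroup.zpowers d ≤ Subgroup.normalizer (R : Set X))
    (hnt : ⁅R, Subgroup.zpowers (d ^ (3 ^ (n - 1)))⁆ ≠ ⊥)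
    (hirr : ∀ U : Subgroup X, (frattini ↥R).map R.subtype ≤ U → U ≤ R →
      Subgroup.zpowers d ≤ Subgroup.normalizer (U : Set X) →
      U = (frattini ↥R).map R.subtype ∨ U = R) :
    64 * Nat.card ((frattini ↥R).map R.subtype : Subgroup X) ≤ Nat.card R := by
  have hΦR : (frattini ↥R).map R.subtype ≤ R := Subgroup.map_subtype_le _
  have hBΦ : Subgroup.zpowers d ≤ Subgroup.normalizer (((frattini ↥R).map R.subtype : Subgroup X) : Set X) :=
    hBR.trans (normalizer_le_normalizer_map_of_characteristic R (frattini ↥R))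
  have hcentA : ∀ x : X, d ^ (3 ^ (n - 1)) * x = x * d ^ (3 ^ (n - 1)) →
      x ∈ Subgroup.centralizer ((Subgroup.zpowers (d ^ (3 ^ (n - 1))) : Subgroup X) : Set X) := by
    intro x hx
    rw [Subgroup.mem_centralizer_iff]
    intro a ha
    obtain ⟨k, rfl⟩ := Subgroup.mem_zpowers_iff.mp ha
    exact ((show Commute (d ^ (3 ^ (n - 1))) x from hx).zpow_left k).eq
  have hCΦ : ∀ x ∈ R, d ^ (3 ^ (n - 1)) * x = x * d ^ (3 ^ (n - 1)) →
      x ∈ (frattini ↥R).map R.subtype := by
    have hBC : Subgroup.zpowers d ≤ Subgroup.normalizer ((R ⊓ Subgroup.centralizer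
        ((Subgroup.zpowers (d ^ (3 ^ (n - 1))) : Subgroup X) : Set X) : Subgroup X) : Set X) := by
      apply le_normalizer_of_forall_conj_mem
      intro g hg x hx
      refine Subgroup.mem_inf.mpr ⟨conj_mem_of_le_normalizer hBR hg hx.1,
        Subgroup.mem_centralizer_iff.mpr ?_⟩
      intro a ha
      have hc1 : Commute a g := by
        have ha' : a ∈ Subgroup.zpowers d :=
          (Subgroup.zpowers_le.mpr (Subgroup.pow_mem _ (Subgroup.mem_zpowers d) _)) ha
        obtain ⟨i, rfl⟩ := Subgroup.mem_zpowers_iff.mp ha'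
        obtain ⟨j, rfl⟩ := Subgroup.mem_zpowers_iff.mp hg
        exact (Commute.refl d).zpow_zpow i j
      have hc2 : Commute a x := Subgroup.mem_centralizer_iff.mp hx.2 a ha
      exact ((hc1.mul_right hc2).mul_right hc1.inv_right).eq
    have hBU := le_normalizer_sup hBC hBΦ
    have hUR : (R ⊓ Subgroup.centralizer ((Subgroup.zpowers (d ^ (3 ^ (n - 1))) : Subgroup X) :
        Set X)) ⊔ (frattini ↥R).map R.subtype ≤ R := sup_le inf_le_left hΦR
    rcases hirr _ le_sup_right hUR hBU with hUΦ | hUR'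
    · intro x hxR hxe
      have h1 : x ∈ (R ⊓ Subgroup.centralizer ((Subgroup.zpowers (d ^ (3 ^ (n - 1))) :
          Subgroup X) : Set X)) ⊔ (frattini ↥R).map R.subtype :=
        Subgroup.mem_sup_left (Subgroup.mem_inf.mpr ⟨hxR, hcentA x hxe⟩)
      rw [hUΦ] at h1
      exact h1
    · exfalso
      apply hnt
      rw [Subgroup.commutator_eq_bot_iff_le_centralizer]
      have hK : (R ⊓ Subgroup.centralizer ((Subgroup.zpowers (d ^ (3 ^ (n - 1))) : Subgroup X) :
          Set X)).subgroupOf R ⊔ frattini ↥R = ⊤ := by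
        apply Subgroup.map_injective R.subtype_injective
        rw [Subgroup.map_sup, Subgroup.map_subgroupOf_eq_of_le inf_le_left,
          ← MonoidHom.range_eq_map, Subgroup.range_subtype]
        exact hUR'
      have hK' := frattini_nongenerating hK
      intro x hx
      have h1 : (⟨x, hx⟩ : R) ∈ (R ⊓ Subgroup.centralizer
          ((Subgroup.zpowers (d ^ (3 ^ (n - 1))) : Subgroup X) : Set X)).subgroupOf R := by
        rw [hK']
        exact Subgroup.mem_top _
      exact (Subgroup.mem_subgroupOf.mp h1).2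
  have hinv : ∀ g ∈ Subgroup.zpowers d,
      ∀ x ∈ ((R : Set X) \ (((frattini ↥R).map R.subtype : Subgroup X) : Set X)),
      g * x * g⁻¹ ∈ ((R : Set X) \ (((frattini ↥R).map R.subtype : Subgroup X) : Set X)) := by
    intro g hg x hx
    refine ⟨conj_mem_of_le_normalizer hBR hg hx.1, fun hmem => hx.2 ?_⟩
    have h1 := conj_mem_of_le_normalizer hBΦ (Subgroup.inv_mem _ hg) hmem
    simpa [mul_assoc] using h1
  let _ := conjSetAction (Subgroup.zpowers d)
    ((R : Set X) \ (((frattini ↥R).map R.subtype : Subgroup X) : Set X)) hinv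
  have hfree : ∀ (g : Subgroup.zpowers d)
      (x : ((R : Set X) \ (((frattini ↥R).map R.subtype : Subgroup X) : Set X) : Set X)),
      g • x = x → g = 1 := by
    intro g x hgx
    by_contra hg1
    have hg1' : (g : X) ≠ 1 := fun h => hg1 (Subtype.ext h)
    have hmem := pow_mem_zpowers_of_ne_one d n (by omega) hd (g : X) g.2 hg1'
    have h2 : (g : X) * x * (g : X)⁻¹ = x := congrArg Subtype.val hgx
    have hgc : Commute (g : X) (x : X) := by
      show (g : X) * x = x * g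
      calc (g : X) * x = ((g : X) * x * (g : X)⁻¹) * g := by group
        _ = x * g := by rw [h2]
    obtain ⟨k, hk⟩ := Subgroup.mem_zpowers_iff.mp hmem
    have hec : d ^ (3 ^ (n - 1)) * (x : X) = x * d ^ (3 ^ (n - 1)) := by
      rw [← hk]
      exact (hgc.zpow_left k).eq
    exact x.2.2 (hCΦ x x.2.1 hec)
  have hdvd := card_dvd_of_free_action hfree
  rw [Nat.card_zpowers, hd] at hdvd
  have hcard1 : Nat.card ((R : Set X) \ (((frattini ↥R).map R.subtype : Subgroup X) : Set X) : Set X)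
      + Nat.card ((frattini ↥R).map R.subtype : Subgroup X) = Nat.card R :=
    Set.ncard_sdiff_add_ncard_of_subset
      (show (((frattini ↥R).map R.subtype : Subgroup X) : Set X) ⊆ (R : Set X) from hΦR)
      (Set.toFinite _)
  have hne : (frattini ↥R).map R.subtype ≠ R := by
    intro h
    apply hnt
    have h1 : frattini ↥R = ⊤ := by
      apply Subgroup.map_injective R.subtype_injective
      rw [← MonoidHom.range_eq_map, Subgroup.range_subtype]
      exact h
    have h2 : (⊥ : Subgroup R) = ⊤ := frattini_nongenerating (by rw [h1]; simp)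
    have h3 : R = ⊥ := by
      rw [eq_bot_iff]
      intro x hx
      have h4 : (⟨x, hx⟩ : R) ∈ (⊥ : Subgroup R) := by rw [h2]; exact Subgroup.mem_top _
      rw [Subgroup.mem_bot] at h4
      rw [Subgroup.mem_bot]
      exact congrArg Subtype.val h4
    rw [h3]
    exact Subgroup.commutator_bot_left _
  obtain ⟨a, ha⟩ := IsPGroup.iff_card.mp hR
  obtain ⟨b, hb⟩ := IsPGroup.iff_card.mp (hR.to_le hΦR)
  have hlt : Nat.card ((frattini ↥R).map R.subtype : Subgroup X) < Nat.card R :=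
    card_lt_card_of_lt hΦR hne
  rw [ha, hb] at hlt hcard1
  have hba : b < a := (Nat.pow_lt_pow_iff_right (by norm_num)).mp hlt
  have h9 : 9 ∣ Nat.card ((R : Set X) \ (((frattini ↥R).map R.subtype : Subgroup X) : Set X) : Set X) := by
    refine dvd_trans ?_ hdvd
    exact ⟨3 ^ (n - 2), by
      rw [show (9 : ℕ) = 3 ^ 2 by norm_num, ← pow_add]
      congr 1
      omega⟩
  have h6 : 6 ≤ a - b := by
    by_contra hlt6
    push Not at hlt6
    obtain ⟨c, hc⟩ : ∃ c, a = b + c := ⟨a - b, by omega⟩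
    subst hc
    have hc6 : c < 6 := by omega
    have hc0 : 0 < c := by omega
    rw [pow_add] at hcard1
    have hdiff : Nat.card ((R : Set X) \ (((frattini ↥R).map R.subtype : Subgroup X) : Set X) : Set X)
        = 2 ^ b * (2 ^ c - 1) := by
      have h1 : 1 ≤ 2 ^ c := Nat.one_le_two_pow
      rw [Nat.mul_sub, mul_one]
      omega
    rw [hdiff] at h9
    have hcop : Nat.Coprime 9 (2 ^ b) := by
      apply Nat.Coprime.pow_right
      norm_num
    have h7 := hcop.dvd_of_dvd_mul_left h9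
    interval_cases c <;> exact absurd h7 (by decide)
  rw [ha, hb]
  calc 64 * 2 ^ b = 2 ^ (6 + b) := by rw [pow_add]; norm_num
    _ ≤ 2 ^ a := Nat.pow_le_pow_right (by norm_num) (by omega)

/-- **S3738**: a 3-element acting faithfully and fixed-point-freely on a 2-group all of whose
abelian subgroups have rank at most 2 has order 3. -/
theorem fpf_rank_two_order (d : X) (n : ℕ) (hn : 1 ≤ n) (hd : orderOf d = 3 ^ n)
    (P : Subgroup X) (hP : IsPGroup 2 P) (hdP : d ∈ Subgroup.normalizer (P : Set X))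
    (hfaith : Subgroup.zpowers d ⊓ Subgroup.centralizer (P : Set X) = ⊥)
    (hfpf : P ⊓ Subgroup.centralizer {d} = ⊥)
    (hrank : ∀ V : Subgroup X, V ≤ P → IsMulCommutative V → Cfsg.PRankLE 2 2 V) :
    orderOf d = 3 := by
  by_contra hne
  have hn2 : 2 ≤ n := by
    by_contra hh
    apply hne
    have h1 : n = 1 := by omega
    rw [hd, h1, pow_one]
  obtain ⟨hΩ4, hcube⟩ := omega_card_four d n hn hd P hP hdP hfaith hfpf hrank
  have hinvΩ := involution_mem_omega P hrank hΩ4
  have heΩ : ∀ v ∈ omegaCenter P, d ^ (3 ^ (n - 1)) * v = v * d ^ (3 ^ (n - 1)) := by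
    intro v hv
    have h1 : d ^ (3 ^ (n - 1)) = (d ^ 3) ^ (3 ^ (n - 2)) := by
      rw [← pow_mul, ← pow_succ']
      congr 2
      omega
    rw [h1]
    exact ((show Commute (d ^ 3) v from hcube v hv).pow_left _).eq
  have he3 : (d ^ (3 ^ (n - 1))) ^ 3 = 1 := by
    rw [← pow_mul, ← pow_succ, Nat.sub_add_cancel hn, ← hd]
    exact pow_orderOf_eq_one d
  have he1 : d ^ (3 ^ (n - 1)) ≠ 1 := by
    intro h
    have h2 := orderOf_dvd_of_pow_eq_one h
    rw [hd] at h2
    have h3 := Nat.le_of_dvd (by positivity) h2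
    have h4 := Nat.pow_lt_pow_right (a := 3) (by norm_num) (show n - 1 < n by omega)
    omega
  have heB : d ^ (3 ^ (n - 1)) ∈ Subgroup.zpowers d := Subgroup.pow_mem _ (Subgroup.mem_zpowers d) _
  have hAB : Subgroup.zpowers (d ^ (3 ^ (n - 1))) ≤ Subgroup.zpowers d := Subgroup.zpowers_le.mpr heB
  have hBcomm : ∀ x ∈ Subgroup.zpowers d, ∀ y ∈ Subgroup.zpowers d, x * y = y * x := by
    intro x hx y hy
    obtain ⟨i, rfl⟩ := Subgroup.mem_zpowers_iff.mp hx
    obtain ⟨j, rfl⟩ := Subgroup.mem_zpowers_iff.mp hy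
    exact ((Commute.refl d).zpow_zpow i j).eq
  have hAn : Subgroup.zpowers d ≤
      Subgroup.normalizer ((Subgroup.zpowers (d ^ (3 ^ (n - 1))) : Subgroup X) : Set X) := by
    apply le_normalizer_of_forall_conj_mem
    intro g hg x hx
    have h1 : g * x * g⁻¹ = x := by
      rw [hBcomm g hg x (hAB hx)]
      group
    rw [h1]
    exact hx
  have hAp : (Nat.card (Subgroup.zpowers (d ^ (3 ^ (n - 1))))).Coprime 2 := by
    rw [Nat.card_zpowers, orderOf_eq_prime he3 he1]
    norm_num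
  have hBP : Subgroup.zpowers d ≤ Subgroup.normalizer (P : Set X) := Subgroup.zpowers_le.mpr hdP
  have hcomm_bot : ∀ U : Subgroup X,
      (∀ x ∈ U, d ^ (3 ^ (n - 1)) * x = x * d ^ (3 ^ (n - 1))) →
      ⁅U, Subgroup.zpowers (d ^ (3 ^ (n - 1)))⁆ = ⊥ := by
    intro U hU
    rw [Subgroup.commutator_eq_bot_iff_le_centralizer]
    intro x hx
    rw [Subgroup.mem_centralizer_iff]
    intro a ha
    obtain ⟨k, rfl⟩ := Subgroup.mem_zpowers_iff.mp ha
    exact ((show Commute (d ^ (3 ^ (n - 1))) x from hU x hx).zpow_left k).eq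
  have hPnt : ⁅P, Subgroup.zpowers (d ^ (3 ^ (n - 1)))⁆ ≠ ⊥ := by
    intro h
    rw [Subgroup.commutator_eq_bot_iff_le_centralizer] at h
    have h1 : d ^ (3 ^ (n - 1)) ∈ Subgroup.zpowers d ⊓ Subgroup.centralizer (P : Set X) := by
      refine Subgroup.mem_inf.mpr ⟨heB, Subgroup.mem_centralizer_iff.mpr ?_⟩
      intro y hy
      exact (Subgroup.mem_centralizer_iff.mp (h hy) _ (Subgroup.mem_zpowers _)).symm
    rw [hfaith, Subgroup.mem_bot] at h1
    exact he1 h1
  obtain ⟨R, ⟨hRP, hBR, hRnt⟩, hRmin⟩ := (wellFounded_lt (α := Subgroup X)).has_min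
    {U : Subgroup X | U ≤ P ∧ Subgroup.zpowers d ≤ Subgroup.normalizer (U : Set X) ∧
      ⁅U, Subgroup.zpowers (d ^ (3 ^ (n - 1)))⁆ ≠ ⊥} ⟨P, le_rfl, hBP, hPnt⟩
  have hmin : ∀ U : Subgroup X, U < R → Subgroup.zpowers d ≤ Subgroup.normalizer (U : Set X) →
      ⁅U, Subgroup.zpowers (d ^ (3 ^ (n - 1)))⁆ = ⊥ := by
    intro U hUR hBU
    by_contra hU
    exact hRmin U ⟨hUR.le.trans hRP, hBU, hU⟩ hUR
  have hR2 : IsPGroup 2 R := hP.to_le hRP
  obtain ⟨-, h2, h3, -⟩ := Cfsg.Agent.S3736.result (p := 2) (Subgroup.zpowers d)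
    (Subgroup.zpowers (d ^ (3 ^ (n - 1)))) R hR2 hBR hAB hAn hAp hRnt hmin
  rcases h2 with hel | hsp
  · apply hRnt
    apply hcomm_bot
    intro x hx
    exact heΩ x (hinvΩ x (hRP hx) (hel.2 x hx))
  · obtain ⟨-, hfc, hcc⟩ := hsp
    have hΦR : (frattini ↥R).map R.subtype ≤ R := Subgroup.map_subtype_le _
    have hmemΦ : ∀ y : R, y ∈ frattini ↥R → (y : X) ∈ (frattini ↥R).map R.subtype :=
      fun y hy => ⟨y, hy, rfl⟩
    have hmemΦ' : ∀ x ∈ (frattini ↥R).map R.subtype, ∃ hx : x ∈ R, (⟨x, hx⟩ : R) ∈ frattini ↥R := by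
      rintro x ⟨y, hy, rfl⟩
      exact ⟨y.2, hy⟩
    have hcentΦ : ∀ v ∈ (frattini ↥R).map R.subtype, ∀ x ∈ R, v * x = x * v := by
      intro v hv x hx
      obtain ⟨hvR, hvf⟩ := hmemΦ' v hv
      rw [hfc] at hvf
      have h5 := Subgroup.mem_center_iff.mp hvf ⟨x, hx⟩
      exact (congrArg Subtype.val h5).symm
    have hΦ2 : ∀ v ∈ (frattini ↥R).map R.subtype, v ^ 2 = 1 := by
      intro v hv
      obtain ⟨hvR, hvf⟩ := hmemΦ' v hv
      rw [hfc] at hvf
      have h5 := special_center_sq hR2 hfc hcc _ hvf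
      exact congrArg Subtype.val h5
    have hsqΦ : ∀ x ∈ R, x ^ 2 ∈ (frattini ↥R).map R.subtype := by
      intro x hx
      exact hmemΦ _ (Cfsg.Agent.Lib.helper3.pow_prime_mem_frattini hR2 ⟨x, hx⟩)
    have hcommΦ : ∀ x ∈ R, ∀ y ∈ R, ⁅x, y⁆ ∈ (frattini ↥R).map R.subtype := by
      intro x hx y hy
      have h5 : ⁅(⟨x, hx⟩ : R), ⟨y, hy⟩⁆ ∈ commutator ↥R := by
        rw [commutator_def]
        exact Subgroup.commutator_mem_commutator (Subgroup.mem_top _) (Subgroup.mem_top _)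
      rw [hcc, ← hfc] at h5
      exact hmemΦ _ h5
    have hΦΩ : (frattini ↥R).map R.subtype ≤ omegaCenter P :=
      fun v hv => hinvΩ v (hRP (hΦR hv)) (hΦ2 v hv)
    have hΦ4 : Nat.card ((frattini ↥R).map R.subtype : Subgroup X) ≤ 4 := by
      have h5 := Subgroup.card_le_of_le hΦΩ
      omega
    have hdata : C2Data R ((frattini ↥R).map R.subtype) := ⟨hΦR, hcentΦ, hcommΦ⟩
    have hbig := frattini_index_ge d n hn2 hd R hR2 hBR hRnt h3
    obtain ⟨x, hxR, hxΦ, hx2⟩ := exists_involution_of_c2 hdata hΦ2 hΦ4 hsqΦ hbig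
    apply hxΦ
    have hxΩ := hinvΩ x (hRP hxR) hx2
    have hxc : (⟨x, hxR⟩ : R) ∈ Subgroup.center ↥R := by
      rw [Subgroup.mem_center_iff]
      intro g
      apply Subtype.ext
      exact (hxΩ.2.1 g (hRP g.2)).symm
    rw [← hfc] at hxc
    exact hmemΦ ⟨x, hxR⟩ hxc

end Main

end Cfsg.Agent.Lib.helper1
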