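import Mathlib
import Cfsg.Agent.Lib.helper1.RankTwoFpf
import Cfsg.Agent.Lib.helper1.SZ
import Cfsg.Agent.S3734

set_option autoImplicit false

/-!
# Groups of 2-rank ≤ 2 with `C_G(O₂(G)) ≤ O₂(G)`: elements of order 6 versus
fixed-point-free 3-elements on four-groups (S3739)
-/

namespace Cfsg.Agent.Lib.helper1

open scoped commutatorElement

section General
variable {X : Type*} [Group X] [Finite X]

/-- fixed points of a `p`-element acting by conjugation on a subgroup it normalizes -/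
theorem card_modEq_card_inf_centralizer (p : ℕ) [Fact p.Prime] (c : X) (k : ℕ)
    (hc : c ^ (p ^ k) = 1) (U : Subgroup X) (hcU : c ∈ Subgroup.normalizer (U : Set X)) :
    Nat.card U ≡ Nat.card (U ⊓ Subgroup.centralizer {c} : Subgroup X) [MOD p] := by
  have hD : IsPGroup p (Subgroup.zpowers c) := by
    obtain ⟨j, -, hj⟩ := (Nat.dvd_prime_pow (Fact.out : p.Prime)).mp (orderOf_dvd_of_pow_eq_one hc)
    exact IsPGroup.of_card (n := j) (by rw [Nat.card_zpowers, hj])
  have hBU : Subgroup.zpowers c ≤ Subgroup.normalizer (U : Set X) := Subgroup.zpowers_le.mpr hcU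
  have hinv : ∀ g ∈ Subgroup.zpowers c, ∀ x ∈ (U : Set X), g * x * g⁻¹ ∈ (U : Set X) :=
    fun g hg x hx => conj_mem_of_le_normalizer hBU hg hx
  let _ := conjSetAction (Subgroup.zpowers c) (U : Set X) hinv
  have hmod := hD.card_modEq_card_fixedPoints (U : Set X)
  have hcard : Nat.card (MulAction.fixedPoints (Subgroup.zpowers c) (U : Set X)) =
      Nat.card (U ⊓ Subgroup.centralizer {c} : Subgroup X) := by
    refine Nat.card_congr
      { toFun := fun y => ⟨(y : (U : Set X)), Subgroup.mem_inf.mpr ⟨(y : (U : Set X)).2,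
          Subgroup.mem_centralizer_iff.mpr ?_⟩⟩
        invFun := fun y => ⟨⟨(y : X), (Subgroup.mem_inf.mp y.2).1⟩, ?_⟩
        left_inv := fun y => rfl
        right_inv := fun y => rfl }
    · intro g hg
      rw [Set.mem_singleton_iff] at hg
      rw [hg]
      have h1 := y.2 ⟨c, Subgroup.mem_zpowers c⟩
      have h2 : c * ((y : (U : Set X)) : X) * c⁻¹ = ((y : (U : Set X)) : X) := congrArg Subtype.val h1
      calc c * ((y : (U : Set X)) : X) = (c * ((y : (U : Set X)) : X) * c⁻¹) * c := by group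
        _ = ((y : (U : Set X)) : X) * c := by rw [h2]
    · intro g
      apply Subtype.ext
      change (g : X) * (y : X) * (g : X)⁻¹ = (y : X)
      have h1 : Commute c (y : X) :=
        Subgroup.mem_centralizer_iff.mp (Subgroup.mem_inf.mp y.2).2 c rfl
      obtain ⟨i, hi⟩ := Subgroup.mem_zpowers_iff.mp g.2
      have h2 : Commute (g : X) (y : X) := by
        rw [← hi]
        exact h1.zpow_left i
      rw [h2.eq]
      group
  rw [hcard] at hmod
  exact hmod

/-- a 3-element acting without fixed points on a nontrivial 2-group of order at most 4 -/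
theorem fpf_card_four (d : X) (n : ℕ) (hd : orderOf d = 3 ^ n) (U : Subgroup X)
    (hU2 : IsPGroup 2 U) (hdU : d ∈ Subgroup.normalizer (U : Set X))
    (hfpf : U ⊓ Subgroup.centralizer {d} = ⊥) (hne : U ≠ ⊥) (h4 : Nat.card U ≤ 4) :
    Nat.card U = 4 := by
  have hmod := card_modEq_card_inf_centralizer 3 d n (by rw [← hd]; exact pow_orderOf_eq_one d) U hdU
  rw [hfpf, Subgroup.card_bot] at hmod
  obtain ⟨k, hk⟩ := IsPGroup.iff_card.mp hU2
  have h1 : Nat.card U ≠ 1 := fun h => hne (Subgroup.card_eq_one.mp h)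
  have hmod' : Nat.card U % 3 = 1 % 3 := hmod
  rw [hk] at h1 hmod' h4 ⊢
  have hk2 : k < 3 := by
    by_contra hh
    push Not at hh
    have h5 := Nat.pow_le_pow_right (n := 2) (by norm_num) hh
    omega
  interval_cases k <;> simp_all

theorem omegaCenter_ne_bot (P : Subgroup X) (hP : IsPGroup 2 P) (hPne : P ≠ ⊥) :
    omegaCenter P ≠ ⊥ := by
  have : Nontrivial P := (Subgroup.nontrivial_iff_ne_bot P).mpr hPne
  have := hP.center_nontrivial
  have h2 : IsPGroup 2 (Subgroup.center P) := hP.to_subgroup _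
  have h3 : 2 ∣ Nat.card (Subgroup.center P) := by
    rcases h2.card_eq_or_dvd with h | h
    · have h4 := Finite.one_lt_card (α := Subgroup.center P)
      omega
    · exact h
  obtain ⟨z, hz⟩ := exists_prime_orderOf_dvd_card' 2 h3
  intro hbot
  have hzΩ : ((z : P) : X) ∈ omegaCenter P := by
    refine ⟨(z : P).2, fun y hy => ?_, ?_⟩
    · have h4 := Subgroup.mem_center_iff.mp z.2 ⟨y, hy⟩
      exact (congrArg Subtype.val h4).symm
    · have h4 : z ^ 2 = 1 := by rw [← hz]; exact pow_orderOf_eq_one z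
      have h5 : (((z ^ 2 : Subgroup.center P) : P) : X) = 1 := by rw [h4]; rfl
      rw [← pow_two]
      exact h5
  rw [hbot, Subgroup.mem_bot] at hzΩ
  have h6 : z = 1 := Subtype.ext (Subtype.ext hzΩ)
  rw [h6, orderOf_one] at hz
  omega

end General

section Six
variable {G : Type*} [Group G] [Finite G]

/-- **S3739.** -/
theorem e8_of_six
    (hchar : Subgroup.centralizer (Cfsg.pCore 2 G : Set G) ≤ Cfsg.pCore 2 G)
    (hsix : ∃ g : G, orderOf g = 6) (d : G) (hd1 : d ≠ 1)
    (hd : IsPGroup 3 ↥(Subgroup.zpowers d)) (W : Subgroup G) (hW : Cfsg.IsElementaryAbelian 2 W)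
    (hW1 : W ≠ ⊥) (hdW : d ∈ Subgroup.normalizer (W : Set G))
    (hfpf : W ⊓ Subgroup.centralizer {d} = ⊥) :
    ∃ E : Subgroup G, Cfsg.IsElementaryAbelian 2 E ∧ Nat.card E = 8 := by
  by_contra hno
  push Not at hno
  -- Step 0: elementary abelian 2-subgroups have order at most 4
  have hrk : ∀ E : Subgroup G, (∀ a ∈ E, ∀ b ∈ E, a * b = b * a) → (∀ a ∈ E, a ^ 2 = 1) →
      Nat.card E ≤ 4 := by
    intro E hEc hE2
    have hE2g : IsPGroup 2 E := fun g => ⟨1, Subtype.ext (by simpa using hE2 g g.2)⟩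
    obtain ⟨k, hk⟩ := IsPGroup.iff_card.mp hE2g
    by_contra hgt
    push Not at hgt
    have hk3 : 3 ≤ k := by
      by_contra hh
      push Not at hh
      have h5 : 2 ^ k ≤ 2 ^ 2 := Nat.pow_le_pow_right (by norm_num) (by omega)
      omega
    obtain ⟨K, hK⟩ := Sylow.exists_subgroup_card_pow_prime (G := E) 2 (n := 3)
      (by rw [hk]; exact pow_dvd_pow 2 hk3)
    apply hno (K.map E.subtype)
    · refine ⟨.of_setLike_mul_comm ?_, ?_⟩
      · rintro a ⟨a', -, rfl⟩ b ⟨b', -, rfl⟩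
        exact hEc _ a'.2 _ b'.2
      · rintro a ⟨a', -, rfl⟩
        exact hE2 _ a'.2
    · rw [Subgroup.card_map_of_injective E.subtype_injective, hK]
      norm_num
  have hWc : ∀ a ∈ W, ∀ b ∈ W, a * b = b * a := by
    intro a ha b hb
    have := hW.1
    exact setLike_mul_comm ha hb
  have hW2 : ∀ a ∈ W, a ^ 2 = 1 := hW.2
  -- Step 1: the order of d
  obtain ⟨n, hn⟩ := IsPGroup.iff_card.mp hd
  rw [Nat.card_zpowers] at hn
  have hn1 : 1 ≤ n := by
    by_contra hh
    have h0 : n = 0 := by omega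
    rw [h0, pow_zero, orderOf_eq_one_iff] at hn
    exact hd1 hn
  -- Step 2: |W| = 4, d irreducible on W
  have hW2g : IsPGroup 2 W := fun g => ⟨1, Subtype.ext (by simpa using hW2 g g.2)⟩
  have hW4 : Nat.card W = 4 := fpf_card_four d n hn W hW2g hdW hfpf hW1 (hrk W hWc hW2)
  have hirr : ∀ (c : G) (m : ℕ), orderOf c = 3 ^ m → W ⊓ Subgroup.centralizer {c} = ⊥ →
      ∀ U : Subgroup G, U ≤ W → c ∈ Subgroup.normalizer (U : Set G) → U ≠ ⊥ → U = W := by
    intro c m hc hcf U hUW hcU hU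
    have hU4 : Nat.card U = 4 := fpf_card_four c m hc U (hW2g.to_le hUW) hcU
      (by rw [eq_bot_iff, ← hcf]; exact inf_le_inf_right _ hUW) hU
      (by have h5 := Subgroup.card_le_of_le hUW; omega)
    exact Subgroup.eq_of_le_of_card_ge hUW (by omega)
  -- Q = O_2(G)
  have hQn : (Cfsg.pCore 2 G).Normal := Subgroup.sSup_normal _ (fun _ h => h.1)
  have hQ2 : IsPGroup 2 (Cfsg.pCore 2 G) := Sylow.sSup_of_normal _ (fun _ h => h.2) (fun _ h => h.1)
  have hQnorm : ∀ g : G, g ∈ Subgroup.normalizer ((Cfsg.pCore 2 G : Subgroup G) : Set G) := by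
    intro g
    rw [Subgroup.normalizer_eq_top_iff.mpr hQn]
    exact Subgroup.mem_top g
  have hQne : Cfsg.pCore 2 G ≠ ⊥ := by
    intro h
    have h1 : d ∈ Subgroup.centralizer ((Cfsg.pCore 2 G : Subgroup G) : Set G) := by
      rw [h, Subgroup.mem_centralizer_iff]
      intro x hx
      rw [Subgroup.coe_bot, Set.mem_singleton_iff] at hx
      rw [hx]
      simp
    have h2 := hchar h1
    rw [h, Subgroup.mem_bot] at h2
    exact hd1 h2
  have hZne : omegaCenter (Cfsg.pCore 2 G) ≠ ⊥ := omegaCenter_ne_bot _ hQ2 hQne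
  have hZnorm : ∀ g : G, ∀ z ∈ omegaCenter (Cfsg.pCore 2 G),
      g * z * g⁻¹ ∈ omegaCenter (Cfsg.pCore 2 G) :=
    fun g z hz => conj_mem_omegaCenter (hQnorm g) hz
  -- involutions centralizing W lie in W
  have hE8 : ∀ x : G, x ^ 2 = 1 → (∀ w ∈ W, x * w = w * x) → x ∈ W := by
    intro x hx hxc
    by_contra hxW
    obtain ⟨K, -, -, hKc, hK2, hKcard, -⟩ := exists_elemAb_adjoin W hWc hW2 x hx hxc hxW
    exact hno K ⟨.of_setLike_mul_comm hKc, hK2⟩ (by rw [hKcard, hW4])
  -- Step 4: W ≤ Q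
  have hWQ : W ≤ Cfsg.pCore 2 G := by
    have hinf : W ⊓ Cfsg.pCore 2 G = ⊥ ∨ W ⊓ Cfsg.pCore 2 G = W := by
      by_cases h : W ⊓ Cfsg.pCore 2 G = ⊥
      · exact Or.inl h
      · right
        apply hirr d n hn hfpf _ inf_le_left _ h
        rw [Subgroup.mem_normalizer_iff]
        intro x
        rw [Subgroup.mem_inf, Subgroup.mem_inf, ← Subgroup.mem_normalizer_iff.mp hdW x,
          ← Subgroup.mem_normalizer_iff.mp (hQnorm d) x]
    rcases hinf with h | h
    · exfalso
      have hinv : ∀ g ∈ W, ∀ x ∈ (omegaCenter (Cfsg.pCore 2 G) : Set G),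
          g * x * g⁻¹ ∈ (omegaCenter (Cfsg.pCore 2 G) : Set G) := fun g _ x hx => hZnorm g x hx
      let _ := conjSetAction W (omegaCenter (Cfsg.pCore 2 G) : Set G) hinv
      have h2 : 2 ∣ Nat.card (omegaCenter (Cfsg.pCore 2 G) : Set G) := by
        rcases (hQ2.to_le (omegaCenter_le (Cfsg.pCore 2 G))).card_eq_or_dvd with h' | h'
        · exact absurd (Subgroup.card_eq_one.mp h') hZne
        · exact h'
      have hone : (⟨1, (omegaCenter (Cfsg.pCore 2 G)).one_mem⟩ :
          (omegaCenter (Cfsg.pCore 2 G) : Set G)) ∈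
          MulAction.fixedPoints W (omegaCenter (Cfsg.pCore 2 G) : Set G) := by
        intro g
        apply Subtype.ext
        change (g : G) * 1 * (g : G)⁻¹ = 1
        simp
      obtain ⟨⟨z, hz⟩, hzfix, hzne⟩ :=
        hW2g.exists_fixed_point_of_prime_dvd_card_of_fixed_point
          (omegaCenter (Cfsg.pCore 2 G) : Set G) h2 hone
      have hz1 : z ≠ 1 := fun h' => hzne (Subtype.ext h'.symm)
      have hzc : ∀ w ∈ W, z * w = w * z := by
        intro w hw
        have h3 : w * z * w⁻¹ = z := congrArg Subtype.val (hzfix ⟨w, hw⟩)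
        calc z * w = (w * z * w⁻¹) * w := by rw [h3]
          _ = w * z := by group
      have hzW := hE8 z (by rw [pow_two]; exact hz.2.2) hzc
      have h4 : z ∈ W ⊓ Cfsg.pCore 2 G := Subgroup.mem_inf.mpr ⟨hzW, hz.1⟩
      rw [h, Subgroup.mem_bot] at h4
      exact hz1 h4
    · exact inf_eq_left.mp h
  -- Step 5: Ω₁(Z(Q)) = W
  have hZW : omegaCenter (Cfsg.pCore 2 G) = W := by
    have hle : omegaCenter (Cfsg.pCore 2 G) ≤ W := by
      intro z hz
      exact hE8 z (by rw [pow_two]; exact hz.2.2) (fun w hw => hz.2.1 w (hWQ hw))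
    refine hirr d n hn hfpf _ hle ?_ hZne
    rw [Subgroup.mem_normalizer_iff]
    intro x
    refine ⟨fun hx => hZnorm d x hx, fun hx => ?_⟩
    have h1 := hZnorm d⁻¹ _ hx
    simpa [mul_assoc] using h1
  have hWcentQ : ∀ w ∈ W, ∀ q ∈ Cfsg.pCore 2 G, w * q = q * w := by
    intro w hw q hq
    rw [← hZW] at hw
    exact hw.2.1 q hq
  have hWnorm : ∀ g : G, ∀ w ∈ W, g * w * g⁻¹ ∈ W := by
    intro g w hw
    rw [← hZW] at hw ⊢
    exact hZnorm g w hw
  have hWnormalizer : ∀ g : G, g ∈ Subgroup.normalizer (W : Set G) := by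
    intro g
    rw [Subgroup.mem_normalizer_iff]
    intro x
    refine ⟨fun hx => hWnorm g x hx, fun hx => ?_⟩
    have h1 := hWnorm g⁻¹ _ hx
    simpa [mul_assoc] using h1
  -- Step 6: fixed-point-free on W implies fixed-point-free on Q
  have hfpfQ : ∀ b : G, W ⊓ Subgroup.centralizer {b} = ⊥ →
      Cfsg.pCore 2 G ⊓ Subgroup.centralizer {b} = ⊥ := by
    intro b hb
    by_contra hne
    have h2g : IsPGroup 2 (Cfsg.pCore 2 G ⊓ Subgroup.centralizer {b} : Subgroup G) :=
      hQ2.to_le inf_le_left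
    have h2 : 2 ∣ Nat.card (Cfsg.pCore 2 G ⊓ Subgroup.centralizer {b} : Subgroup G) := by
      rcases h2g.card_eq_or_dvd with h' | h'
      · exact absurd (Subgroup.card_eq_one.mp h') hne
      · exact h'
    obtain ⟨u, hu⟩ := exists_prime_orderOf_dvd_card' 2 h2
    have hu2 : (u : G) ^ 2 = 1 := by
      have h3 := pow_orderOf_eq_one u
      rw [hu] at h3
      exact congrArg Subtype.val h3
    have hu' := Subgroup.mem_inf.mp u.2
    have huW : (u : G) ∈ W := hE8 u hu2 (fun w hw => (hWcentQ w hw u hu'.1).symm)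
    have h4 : (u : G) ∈ W ⊓ Subgroup.centralizer {b} := Subgroup.mem_inf.mpr ⟨huW, hu'.2⟩
    rw [hb, Subgroup.mem_bot] at h4
    have hu1 : u = 1 := Subtype.ext h4
    rw [hu1, orderOf_one] at hu
    omega
  -- 2-elements of Q that are 3-elements are trivial
  have hQ3 : ∀ x ∈ Cfsg.pCore 2 G, ∀ m : ℕ, x ^ (3 ^ m) = 1 → x = 1 := by
    intro x hxQ m hxm
    obtain ⟨k, hk⟩ := hQ2 ⟨x, hxQ⟩
    have hk' : x ^ (2 ^ k) = 1 := congrArg Subtype.val hk
    have h1 : orderOf x ∣ 2 ^ k := orderOf_dvd_of_pow_eq_one hk'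
    have h2 : orderOf x ∣ 3 ^ m := orderOf_dvd_of_pow_eq_one hxm
    have hc : Nat.gcd (2 ^ k) (3 ^ m) = 1 := Nat.Coprime.pow _ _ (by norm_num)
    have h3 := Nat.dvd_gcd h1 h2
    rw [hc] at h3
    exact orderOf_eq_one_iff.mp (Nat.dvd_one.mp h3)
  -- Step 7: d has order 3
  have hd3 : orderOf d = 3 := by
    apply fpf_rank_two_order d n hn1 hn (Cfsg.pCore 2 G) hQ2 (hQnorm d) ?_ (hfpfQ d hfpf) ?_
    · rw [eq_bot_iff]
      intro x hx
      rw [Subgroup.mem_bot]
      have hx' := Subgroup.mem_inf.mp hx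
      refine hQ3 x (hchar hx'.2) n ?_
      have h2 : orderOf x ∣ 3 ^ n := by rw [← hn]; exact orderOf_dvd_of_mem_zpowers hx'.1
      exact orderOf_dvd_iff_pow_eq_one.mp h2
    · intro V hVQ hVc A hAc hA2
      have h1 := hrk (A.map V.subtype) ?_ ?_
      · rw [Subgroup.card_map_of_injective V.subtype_injective] at h1
        norm_num
        exact h1
      · rintro a ⟨a', ha', rfl⟩ b ⟨b', hb', rfl⟩
        have h2 : a' * b' = b' * a' := setLike_mul_comm ha' hb'
        exact congrArg Subtype.val h2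
      · rintro a ⟨a', ha', rfl⟩
        exact congrArg Subtype.val (hA2 a' ha')
  -- Step 8: an element of order 3 centralizing W
  obtain ⟨g, hg⟩ := hsix
  have hg6 : g ^ 6 = 1 := by rw [← hg]; exact pow_orderOf_eq_one g
  obtain ⟨t, htdef⟩ : ∃ t, t = g ^ 3 := ⟨_, rfl⟩
  obtain ⟨c, hcdef⟩ : ∃ c, c = g ^ 2 := ⟨_, rfl⟩
  have ht2 : t ^ 2 = 1 := by rw [htdef, ← pow_mul]; exact hg6
  have ht1 : t ≠ 1 := by
    intro h
    rw [htdef] at h
    have h2 := orderOf_dvd_of_pow_eq_one h
    rw [hg] at h2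
    omega
  have hc3 : c ^ 3 = 1 := by rw [hcdef, ← pow_mul]; exact hg6
  have hc1 : c ≠ 1 := by
    intro h
    rw [hcdef] at h
    have h2 := orderOf_dvd_of_pow_eq_one h
    rw [hg] at h2
    omega
  have hco : orderOf c = 3 ^ 1 := by rw [pow_one]; exact orderOf_eq_prime hc3 hc1
  have htc : Commute t c := by rw [htdef, hcdef]; exact (Commute.refl g).pow_pow 3 2
  have hcW : ∀ w ∈ W, c * w = w * c := by
    by_contra hcon
    push Not at hcon
    obtain ⟨w₀, hw₀, hw₀c⟩ := hcon
    have hUbot : W ⊓ Subgroup.centralizer {c} = ⊥ := by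
      by_contra hU
      have hmod := card_modEq_card_inf_centralizer 3 c 1 (by rw [pow_one]; exact hc3) W
        (hWnormalizer _)
      rw [hW4] at hmod
      have hdvd : Nat.card (W ⊓ Subgroup.centralizer {c} : Subgroup G) ∣ 4 := by
        rw [← hW4]
        exact Subgroup.card_dvd_of_le inf_le_left
      have hne1 : Nat.card (W ⊓ Subgroup.centralizer {c} : Subgroup G) ≠ 1 :=
        fun h => hU (Subgroup.card_eq_one.mp h)
      have hle : Nat.card (W ⊓ Subgroup.centralizer {c} : Subgroup G) ≤ 4 :=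
        Nat.le_of_dvd (by norm_num) hdvd
      have hmod' : 4 % 3 = Nat.card (W ⊓ Subgroup.centralizer {c} : Subgroup G) % 3 := hmod
      have h4 : Nat.card (W ⊓ Subgroup.centralizer {c} : Subgroup G) = 4 := by
        obtain ⟨m, hm⟩ : ∃ m, m = Nat.card (W ⊓ Subgroup.centralizer {c} : Subgroup G) := ⟨_, rfl⟩
        rw [← hm] at hdvd hne1 hle hmod' ⊢
        interval_cases m <;> omega
      have hEq : W ⊓ Subgroup.centralizer {c} = W :=
        Subgroup.eq_of_le_of_card_ge inf_le_left (by rw [h4, hW4])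
      have h5 : w₀ ∈ W ⊓ Subgroup.centralizer {c} := by rw [hEq]; exact hw₀
      exact hw₀c (Subgroup.mem_centralizer_iff.mp (Subgroup.mem_inf.mp h5).2 _ rfl)
    have hTne : W ⊓ Subgroup.centralizer {t} ≠ ⊥ := by
      intro hT
      have hmod := card_modEq_card_inf_centralizer 2 t 1 (by rw [pow_one]; exact ht2) W
        (hWnormalizer _)
      rw [hT, Subgroup.card_bot, hW4] at hmod
      exact absurd hmod (by decide)
    have hTnorm : c ∈ Subgroup.normalizer ((W ⊓ Subgroup.centralizer {t} : Subgroup G) : Set G) := by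
      have key : ∀ y : G, Commute y t → ∀ x ∈ W ⊓ Subgroup.centralizer {t},
          y * x * y⁻¹ ∈ W ⊓ Subgroup.centralizer {t} := by
        intro y hy x hx
        have hx' := Subgroup.mem_inf.mp hx
        refine Subgroup.mem_inf.mpr ⟨hWnorm y x hx'.1, Subgroup.mem_centralizer_iff.mpr ?_⟩
        intro a ha
        rw [Set.mem_singleton_iff] at ha
        rw [ha]
        have h1 : Commute t x := Subgroup.mem_centralizer_iff.mp hx'.2 _ rfl
        exact ((hy.symm.mul_right h1).mul_right hy.symm.inv_right).eq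
      rw [Subgroup.mem_normalizer_iff]
      intro x
      refine ⟨fun hx => key _ htc.symm x hx, fun hx => ?_⟩
      have h1 := key c⁻¹ htc.symm.inv_left _ hx
      simpa [mul_assoc] using h1
    have hTW := hirr c 1 hco hUbot _ inf_le_left hTnorm hTne
    have htW : t ∈ W := by
      apply hE8 _ ht2
      intro w hw
      have h5 : w ∈ W ⊓ Subgroup.centralizer {t} := by rw [hTW]; exact hw
      exact Subgroup.mem_centralizer_iff.mp (Subgroup.mem_inf.mp h5).2 _ rfl
    have h6 : t ∈ W ⊓ Subgroup.centralizer {c} := by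
      refine Subgroup.mem_inf.mpr ⟨htW, Subgroup.mem_centralizer_iff.mpr ?_⟩
      intro a ha
      rw [Set.mem_singleton_iff] at ha
      rw [ha]
      exact htc.symm.eq
    rw [hUbot, Subgroup.mem_bot] at h6
    exact ht1 h6
  -- Step 9: a central element of a Sylow 3-subgroup centralizing W
  obtain ⟨D, hdD⟩ := hd.exists_le_sylow
  have hcP : IsPGroup 3 (Subgroup.zpowers c) :=
    IsPGroup.of_card (n := 1) (by rw [Nat.card_zpowers, hco])
  obtain ⟨D', hcD'⟩ := hcP.exists_le_sylow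
  obtain ⟨x, hx⟩ := MulAction.exists_smul_eq G D' D
  have hc₁D : x * c * x⁻¹ ∈ (D : Subgroup G) := by
    have h1 : c ∈ (D' : Subgroup G) := hcD' (Subgroup.mem_zpowers _)
    have h2 := Subgroup.smul_mem_pointwise_smul c (MulAut.conj x) (D' : Subgroup G) h1
    rw [← hx, Sylow.coe_subgroup_smul]
    simpa [MulAut.smul_def] using h2
  have hc₁W : ∀ w ∈ W, (x * c * x⁻¹) * w = w * (x * c * x⁻¹) := by
    intro w hw
    have h1 := hcW _ (hWnorm x⁻¹ w hw)
    rw [inv_inv] at h1
    calc x * c * x⁻¹ * w = x * (c * (x⁻¹ * w * x)) * x⁻¹ := by group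
      _ = x * ((x⁻¹ * w * x) * c) * x⁻¹ := by rw [h1]
      _ = w * (x * c * x⁻¹) := by group
  have hc₁1 : x * c * x⁻¹ ≠ 1 := by
    intro h
    apply hc1
    have h2 : c = x⁻¹ * (x * c * x⁻¹) * x := by group
    rw [h2, h]
    group
  have hNinv : ∀ y ∈ (D : Subgroup G),
      ∀ z ∈ (((D : Subgroup G) ⊓ Subgroup.centralizer (W : Set G) : Subgroup G) : Set G),
      y * z * y⁻¹ ∈ (((D : Subgroup G) ⊓ Subgroup.centralizer (W : Set G) : Subgroup G) : Set G) := by
    intro y hy z hz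
    have hz' := Subgroup.mem_inf.mp hz
    refine Subgroup.mem_inf.mpr ⟨(D : Subgroup G).mul_mem ((D : Subgroup G).mul_mem hy hz'.1)
      ((D : Subgroup G).inv_mem hy), Subgroup.mem_centralizer_iff.mpr ?_⟩
    intro w hw
    have h1 : (y⁻¹ * w * y) * z = z * (y⁻¹ * w * y) := by
      have h2 := hWnorm y⁻¹ w hw
      rw [inv_inv] at h2
      exact Subgroup.mem_centralizer_iff.mp hz'.2 _ h2
    calc w * (y * z * y⁻¹) = y * ((y⁻¹ * w * y) * z) * y⁻¹ := by group
      _ = y * (z * (y⁻¹ * w * y)) * y⁻¹ := by rw [h1]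
      _ = y * z * y⁻¹ * w := by group
  let _ := conjSetAction (D : Subgroup G)
    (((D : Subgroup G) ⊓ Subgroup.centralizer (W : Set G) : Subgroup G) : Set G) hNinv
  have hN3 : IsPGroup 3 ((D : Subgroup G) ⊓ Subgroup.centralizer (W : Set G) : Subgroup G) :=
    D.2.to_le inf_le_left
  have hc₁N : x * c * x⁻¹ ∈ (D : Subgroup G) ⊓ Subgroup.centralizer (W : Set G) :=
    Subgroup.mem_inf.mpr ⟨hc₁D, Subgroup.mem_centralizer_iff.mpr (fun w hw => (hc₁W w hw).symm)⟩
  have h3N : 3 ∣ Nat.card (((D : Subgroup G) ⊓ Subgroup.centralizer (W : Set G) : Subgroup G) : Set G) := by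
    rcases hN3.card_eq_or_dvd with h' | h'
    · exfalso
      have h5 := Subgroup.card_eq_one.mp h'
      rw [h5, Subgroup.mem_bot] at hc₁N
      exact hc₁1 hc₁N
    · exact h'
  have hone : (⟨1, Subgroup.one_mem _⟩ :
      (((D : Subgroup G) ⊓ Subgroup.centralizer (W : Set G) : Subgroup G) : Set G)) ∈
      MulAction.fixedPoints (D : Subgroup G)
        (((D : Subgroup G) ⊓ Subgroup.centralizer (W : Set G) : Subgroup G) : Set G) := by
    intro y
    apply Subtype.ext
    change (y : G) * 1 * (y : G)⁻¹ = 1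
    simp
  obtain ⟨⟨c', hc'N⟩, hc'fix, hc'ne⟩ :=
    D.2.exists_fixed_point_of_prime_dvd_card_of_fixed_point _ h3N hone
  have hc'1 : c' ≠ 1 := fun h' => hc'ne (Subtype.ext h'.symm)
  have hc'N' := Subgroup.mem_inf.mp hc'N
  have hc'd : Commute d c' := by
    have h1 : d * c' * d⁻¹ = c' :=
      congrArg Subtype.val (hc'fix ⟨d, hdD (Subgroup.mem_zpowers d)⟩)
    show d * c' = c' * d
    calc d * c' = (d * c' * d⁻¹) * d := by group
      _ = c' * d := by rw [h1]
  have hc'W : ∀ w ∈ W, Commute c' w :=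
    fun w hw => (Subgroup.mem_centralizer_iff.mp hc'N'.2 w hw).symm
  obtain ⟨m, hm⟩ := (IsPGroup.iff_orderOf.mp D.2) ⟨c', hc'N'.1⟩
  rw [← Subgroup.orderOf_coe] at hm
  have hm' : orderOf c' = 3 ^ m := hm
  have hm1 : 1 ≤ m := by
    by_contra hh
    have h0 : m = 0 := by omega
    rw [h0, pow_zero, orderOf_eq_one_iff] at hm'
    exact hc'1 hm'
  obtain ⟨c₂, hc₂def⟩ : ∃ c₂, c₂ = c' ^ (3 ^ (m - 1)) := ⟨_, rfl⟩
  have hc₂3 : c₂ ^ 3 = 1 := by
    rw [hc₂def, ← pow_mul, ← pow_succ, Nat.sub_add_cancel hm1, ← hm']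
    exact pow_orderOf_eq_one c'
  have hc₂1 : c₂ ≠ 1 := by
    intro h
    rw [hc₂def] at h
    have h2 := orderOf_dvd_of_pow_eq_one h
    rw [hm'] at h2
    have h3 := Nat.le_of_dvd (by positivity) h2
    have h4 := Nat.pow_lt_pow_right (a := 3) (by norm_num) (show m - 1 < m by omega)
    omega
  have hc₂d : Commute d c₂ := by rw [hc₂def]; exact hc'd.pow_right _
  have hc₂W : ∀ w ∈ W, Commute c₂ w := fun w hw => by
    rw [hc₂def]
    exact (hc'W w hw).pow_left _
  -- Step 10: generation by centralizers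
  have hAnorm : Subgroup.zpowers d ≤
      Subgroup.normalizer ((Subgroup.zpowers c₂ : Subgroup G) : Set G) := by
    apply le_normalizer_of_forall_conj_mem
    intro y hy z hz
    obtain ⟨i, rfl⟩ := Subgroup.mem_zpowers_iff.mp hy
    obtain ⟨j, rfl⟩ := Subgroup.mem_zpowers_iff.mp hz
    have h1 : Commute (d ^ i) (c₂ ^ j) := hc₂d.zpow_zpow i j
    rw [h1.eq, mul_inv_cancel_right]
    exact Subgroup.zpow_mem_zpowers c₂ j
  have hArep : ∀ y ∈ Subgroup.zpowers c₂ ⊔ Subgroup.zpowers d, ∃ i j : ℤ, y = c₂ ^ i * d ^ j := by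
    intro y hy
    obtain ⟨a, ha, b, hb, rfl⟩ := mem_sup_normal_left hAnorm hy
    obtain ⟨i, rfl⟩ := Subgroup.mem_zpowers_iff.mp ha
    obtain ⟨j, rfl⟩ := Subgroup.mem_zpowers_iff.mp hb
    exact ⟨i, j, rfl⟩
  have hd3' : d ^ 3 = 1 := by rw [← hd3]; exact pow_orderOf_eq_one d
  have hAcomm : ∀ y ∈ Subgroup.zpowers c₂ ⊔ Subgroup.zpowers d,
      ∀ z ∈ Subgroup.zpowers c₂ ⊔ Subgroup.zpowers d, y * z = z * y := by
    intro y hy z hz
    obtain ⟨i, j, rfl⟩ := hArep y hy
    obtain ⟨k, l, rfl⟩ := hArep z hz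
    have h1 : Commute (c₂ ^ i) (c₂ ^ k) := (Commute.refl c₂).zpow_zpow i k
    have h2 : Commute (c₂ ^ i) (d ^ l) := hc₂d.symm.zpow_zpow i l
    have h3 : Commute (d ^ j) (c₂ ^ k) := hc₂d.zpow_zpow j k
    have h4 : Commute (d ^ j) (d ^ l) := (Commute.refl d).zpow_zpow j l
    exact ((h1.mul_right h2).mul_left (h3.mul_right h4)).eq
  have zpow_cube : ∀ (a : G) (i : ℤ), a ^ 3 = 1 → (a ^ i) ^ 3 = 1 := by
    intro a i ha
    rw [← zpow_natCast, ← zpow_mul, mul_comm, zpow_mul, zpow_natCast, ha, one_zpow]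
  have hAcube : ∀ y ∈ Subgroup.zpowers c₂ ⊔ Subgroup.zpowers d, y ^ 3 = 1 := by
    intro y hy
    obtain ⟨i, j, rfl⟩ := hArep y hy
    have h2 : Commute (c₂ ^ i) (d ^ j) := hc₂d.symm.zpow_zpow i j
    rw [h2.mul_pow, zpow_cube c₂ i hc₂3, zpow_cube d j hd3', one_mul]
  have hA3 : IsPGroup 3 (Subgroup.zpowers c₂ ⊔ Subgroup.zpowers d : Subgroup G) :=
    fun y => ⟨1, Subtype.ext (by simpa using hAcube y y.2)⟩
  have hAcop : (Nat.card (Subgroup.zpowers c₂ ⊔ Subgroup.zpowers d : Subgroup G)).Coprime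
      (Nat.card (Cfsg.pCore 2 G)) := by
    obtain ⟨k, hk⟩ := IsPGroup.iff_card.mp hA3
    obtain ⟨l, hl⟩ := IsPGroup.iff_card.mp hQ2
    rw [hk, hl]
    exact Nat.Coprime.pow _ _ (by norm_num)
  have hAQ : Subgroup.zpowers c₂ ⊔ Subgroup.zpowers d ≤
      Subgroup.normalizer ((Cfsg.pCore 2 G : Subgroup G) : Set G) := fun y _ => hQnorm y
  have hAab : IsMulCommutative (Subgroup.zpowers c₂ ⊔ Subgroup.zpowers d : Subgroup G) :=
    .of_setLike_mul_comm hAcomm
  have hgen := (Cfsg.Agent.S3734.result (Subgroup.zpowers c₂ ⊔ Subgroup.zpowers d)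
    (Cfsg.pCore 2 G) hAab hAQ hAcop).1
  have hdich : ∀ y ∈ Subgroup.zpowers c₂ ⊔ Subgroup.zpowers d,
      (∀ w ∈ W, Commute y w) ∨ W ⊓ Subgroup.centralizer {y} = ⊥ := by
    intro y hy
    obtain ⟨i, j, rfl⟩ := hArep y hy
    by_cases hj : d ^ j = 1
    · left
      intro w hw
      rw [hj, mul_one]
      exact (hc₂W w hw).zpow_left i
    · right
      have hdm := pow_mem_zpowers_of_ne_one d 1 le_rfl (by rw [pow_one]; exact hd3) (d ^ j)
        (Subgroup.zpow_mem_zpowers d j) hj
      obtain ⟨k, hk⟩ := Subgroup.mem_zpowers_iff.mp hdm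
      have hk' : (d ^ j) ^ k = d := by rw [hk]; simp
      rw [eq_bot_iff]
      intro w hw
      have hw' := Subgroup.mem_inf.mp hw
      have h1 : Commute (c₂ ^ i * d ^ j) w := Subgroup.mem_centralizer_iff.mp hw'.2 _ rfl
      have h2 : Commute (c₂ ^ i) w := (hc₂W w hw'.1).zpow_left i
      have h3 : Commute (d ^ j) w := by
        have h4 : d ^ j = (c₂ ^ i)⁻¹ * (c₂ ^ i * d ^ j) := by group
        rw [h4]
        exact h2.inv_left.mul_left h1
      have h5 : Commute d w := by
        rw [← hk']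
        exact h3.zpow_left k
      have h6 : w ∈ W ⊓ Subgroup.centralizer {d} :=
        Subgroup.mem_inf.mpr ⟨hw'.1, Subgroup.mem_centralizer_iff.mpr (fun a ha => by
          rw [Set.mem_singleton_iff] at ha
          rw [ha]
          exact h5.eq)⟩
      rw [hfpf] at h6
      exact h6
  have hkey : ∀ B : Subgroup G, B ≤ Subgroup.zpowers c₂ ⊔ Subgroup.zpowers d →
      (∃ a ∈ Subgroup.zpowers c₂ ⊔ Subgroup.zpowers d,
        B ⊔ Subgroup.zpowers a = Subgroup.zpowers c₂ ⊔ Subgroup.zpowers d) →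
      Cfsg.pCore 2 G ⊓ Subgroup.centralizer (B : Set G) ≤ Subgroup.centralizer {c₂} := by
    rintro B hBA ⟨a, haA, hBa⟩
    by_cases hB : ∃ b ∈ B, W ⊓ Subgroup.centralizer {b} = ⊥
    · obtain ⟨b, hbB, hb⟩ := hB
      have h1 : Cfsg.pCore 2 G ⊓ Subgroup.centralizer (B : Set G) ≤
          Cfsg.pCore 2 G ⊓ Subgroup.centralizer {b} :=
        inf_le_inf_left _ (Subgroup.centralizer_le (Set.singleton_subset_iff.mpr hbB))
      rw [hfpfQ b hb] at h1
      exact h1.trans bot_le
    · push Not at hB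
      have hBcen : ∀ b ∈ B, ∀ w ∈ W, Commute b w := by
        intro b hb
        rcases hdich b (hBA hb) with h | h
        · exact h
        · exact absurd h (hB b hb)
      have hafpf : W ⊓ Subgroup.centralizer {a} = ⊥ := by
        rcases hdich a haA with h | h
        · exfalso
          have hle : Subgroup.zpowers c₂ ⊔ Subgroup.zpowers d ≤ Subgroup.centralizer (W : Set G) := by
            rw [← hBa]
            apply sup_le
            · intro b hb
              rw [Subgroup.mem_centralizer_iff]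
              intro w hw
              exact (hBcen b hb w hw).symm.eq
            · rw [Subgroup.zpowers_le, Subgroup.mem_centralizer_iff]
              intro w hw
              exact (h w hw).symm.eq
          have hdcen := hle (Subgroup.mem_sup_right (Subgroup.mem_zpowers d))
          apply hW1
          rw [eq_bot_iff, ← hfpf]
          intro w hw
          exact Subgroup.mem_inf.mpr ⟨hw, Subgroup.mem_centralizer_iff.mpr (fun y hy => by
            rw [Set.mem_singleton_iff] at hy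
            rw [hy]
            exact (Subgroup.mem_centralizer_iff.mp hdcen w hw).symm)⟩
        · exact h
      have haB : Subgroup.zpowers a ≤ Subgroup.normalizer (B : Set G) := by
        apply le_normalizer_of_forall_conj_mem
        intro y hy z hz
        have hyA : y ∈ Subgroup.zpowers c₂ ⊔ Subgroup.zpowers d := (Subgroup.zpowers_le.mpr haA) hy
        rw [hAcomm y hyA z (hBA hz), mul_inv_cancel_right]
        exact hz
      have hc₂A : c₂ ∈ B ⊔ Subgroup.zpowers a := by
        rw [hBa]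
        exact Subgroup.mem_sup_left (Subgroup.mem_zpowers c₂)
      obtain ⟨b, hb, z, hz, hbz⟩ := mem_sup_normal_left haB hc₂A
      obtain ⟨k, rfl⟩ := Subgroup.mem_zpowers_iff.mp hz
      have hakW : ∀ w ∈ W, Commute (a ^ k) w := by
        intro w hw
        have h1 : a ^ k = b⁻¹ * c₂ := by rw [hbz]; group
        rw [h1]
        exact (hBcen b hb w hw).inv_left.mul_left (hc₂W w hw)
      have hak1 : a ^ k = 1 := by
        by_contra hne
        have ha1 : a ≠ 1 := by
          rintro rfl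
          exact hne (one_zpow k)
        have hao : orderOf a = 3 ^ 1 := by
          rw [pow_one]
          exact orderOf_eq_prime (hAcube a haA) ha1
        have hm2 := pow_mem_zpowers_of_ne_one a 1 le_rfl hao (a ^ k)
          (Subgroup.zpow_mem_zpowers a k) hne
        obtain ⟨l, hl⟩ := Subgroup.mem_zpowers_iff.mp hm2
        have hl' : (a ^ k) ^ l = a := by rw [hl]; simp
        apply hW1
        rw [eq_bot_iff, ← hafpf]
        intro w hw
        refine Subgroup.mem_inf.mpr ⟨hw, Subgroup.mem_centralizer_iff.mpr (fun y hy => ?_)⟩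
        rw [Set.mem_singleton_iff] at hy
        rw [hy, ← hl']
        exact ((hakW w hw).zpow_left l).eq
      have hc₂B : c₂ ∈ B := by
        rw [hbz, hak1, mul_one]
        exact hb
      exact inf_le_right.trans (Subgroup.centralizer_le (Set.singleton_subset_iff.mpr hc₂B))
  have hQle : Cfsg.pCore 2 G ≤ Subgroup.centralizer {c₂} :=
    le_of_eq_of_le hgen.symm (iSup₂_le fun B hB => hkey B hB.1 hB.2)
  have hc₂cent : c₂ ∈ Subgroup.centralizer ((Cfsg.pCore 2 G : Subgroup G) : Set G) := by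
    rw [Subgroup.mem_centralizer_iff]
    intro q hq
    exact (Subgroup.mem_centralizer_iff.mp (hQle hq) c₂ rfl).symm
  exact hc₂1 (hQ3 c₂ (hchar hc₂cent) 1 (by rw [pow_one]; exact hc₂3))

end Six

end Cfsg.Agent.Lib.helper1
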