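import Mathlib
import Cfsg.Agent.Lib.helper1.Coprime

/-!
# Real `q`-elements (helper1)

`RealIn q K`: the subgroup `K` contains a nontrivial `q`-element inverted by an element of `K`.

* `realIn_of_two_elt`: a `2`-element normalizing but not centralizing a `q`-subgroup inverts a
  nontrivial element of it.
* `realIn_of_hom`: lifting of real `q`-elements through an arbitrary homomorphism (`q` odd).
* `comm_mem_of_not_realIn_quot`: if `G / Q` has no real `q`-element, a `2`-element normalizing a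
  `q`-subgroup `X` centralizes `X` modulo `Q`.
-/

set_option autoImplicit false

namespace Cfsg.Agent.Lib.helper1

open Pointwise

section RealBasics

variable {G : Type*} [Group G]

/-- `K` contains a nontrivial `q`-element inverted by an element of `K`. -/
def RealIn (q : ℕ) (K : Subgroup G) : Prop :=
  ∃ x ∈ K, ∃ g ∈ K, x ≠ 1 ∧ (∃ k : ℕ, x ^ (q ^ k) = 1) ∧ g * x * g⁻¹ = x⁻¹

theorem RealIn.mono {q : ℕ} {K K' : Subgroup G} (h : K ≤ K') (hK : RealIn q K) : RealIn q K' := by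
  obtain ⟨x, hx, g, hg, h1, h2, h3⟩ := hK
  exact ⟨x, h hx, g, h hg, h1, h2, h3⟩

theorem RealIn.map_inj {q : ℕ} {H : Type*} [Group H] (f : G →* H) (hf : Function.Injective f)
    {K : Subgroup G} (hK : RealIn q K) : RealIn q (K.map f) := by
  obtain ⟨x, hx, g, hg, h1, ⟨k, h2⟩, h3⟩ := hK
  refine ⟨f x, Subgroup.mem_map_of_mem f hx, f g, Subgroup.mem_map_of_mem f hg, ?_, ⟨k, ?_⟩, ?_⟩
  · intro h; exact h1 (hf (by rw [h, map_one]))
  · rw [← map_pow, h2, map_one]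
  · rw [← map_inv, ← map_mul, ← map_mul, h3, map_inv]

theorem RealIn.of_map_inj {q : ℕ} {H : Type*} [Group H] (f : G →* H) (hf : Function.Injective f)
    {K : Subgroup G} (hK : RealIn q (K.map f)) : RealIn q K := by
  obtain ⟨_, ⟨x, hx, rfl⟩, _, ⟨g, hg, rfl⟩, h1, ⟨k, h2⟩, h3⟩ := hK
  refine ⟨x, hx, g, hg, ?_, ⟨k, ?_⟩, ?_⟩
  · rintro rfl; exact h1 (map_one f)
  · apply hf; rw [map_pow, h2, map_one]
  · apply hf; rw [map_mul, map_mul, map_inv, h3, map_inv]

theorem map_subtype_top' (N : Subgroup G) : (⊤ : Subgroup ↥N).map N.subtype = N := by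
  rw [← MonoidHom.range_eq_map, Subgroup.range_subtype]

theorem realIn_top_subtype_iff (q : ℕ) (N : Subgroup G) :
    RealIn q (⊤ : Subgroup ↥N) ↔ RealIn q N := by
  constructor
  · intro h
    have := h.map_inj N.subtype N.subtype_injective
    rwa [map_subtype_top'] at this
  · intro h
    apply RealIn.of_map_inj N.subtype N.subtype_injective
    rwa [map_subtype_top']

theorem RealIn.conj {q : ℕ} {K : Subgroup G} (hK : RealIn q K) (c : G) :
    RealIn q (K.map (MulAut.conj c).toMonoidHom) :=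
  hK.map_inj _ (MulAut.conj c).injective

/-- `p`-part of a preimage: if `f y` is a `p`-element, some power `x` of `y` is a `p`-element with
`f x = f y`. -/
theorem exists_pelt_lift [Finite G] (p : ℕ) [hp : Fact p.Prime] {H : Type*} [Group H] (f : G →* H)
    (y : G) (hy : ∃ k : ℕ, (f y) ^ (p ^ k) = 1) :
    ∃ x ∈ Subgroup.zpowers y, (∃ k : ℕ, x ^ (p ^ k) = 1) ∧ f x = f y := by
  obtain ⟨k, hk⟩ := hy
  have hpos : 0 < orderOf y := orderOf_pos y
  obtain ⟨a, r, hr, hn⟩ := Nat.exists_eq_pow_mul_and_not_dvd hpos.ne' p hp.out.ne_one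
  have hcop : Nat.Coprime r (p ^ k) :=
    (Nat.Coprime.pow_left k ((Nat.Prime.coprime_iff_not_dvd hp.out).mpr hr)).symm
  by_cases hk0 : p ^ k = 1
  · refine ⟨1, Subgroup.one_mem _, ⟨0, by simp⟩, ?_⟩
    rw [map_one]; rw [hk0, pow_one] at hk; exact hk.symm
  · have h1 : 1 < p ^ k := by
      have : 0 < p ^ k := pow_pos hp.out.pos k
      omega
    obtain ⟨u, -, hu⟩ := Nat.exists_mul_mod_eq_one_of_coprime hcop h1
    refine ⟨y ^ (r * u), Subgroup.pow_mem _ (Subgroup.mem_zpowers y) _, ⟨a, ?_⟩, ?_⟩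
    · rw [← pow_mul, mul_comm (r * u), ← mul_assoc, ← hn, pow_mul, pow_orderOf_eq_one, one_pow]
    · rw [map_pow]
      have h2 : r * u = p ^ k * (r * u / p ^ k) + 1 := by
        have := Nat.div_add_mod (r * u) (p ^ k)
        omega
      rw [h2, pow_add, pow_mul, hk, one_pow, one_mul, pow_one]

/-- an odd power of `g` is a `2`-element -/
theorem exists_odd_pow_two_elt [Finite G] (g : G) :
    ∃ m : ℕ, Odd m ∧ ∃ k : ℕ, (g ^ m) ^ (2 ^ k) = 1 := by
  obtain ⟨a, m, hodd, hn⟩ := Nat.exists_eq_two_pow_mul_odd (orderOf_pos g).ne'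
  refine ⟨m, hodd, a, ?_⟩
  rw [← pow_mul, mul_comm, ← hn, pow_orderOf_eq_one]

/-- odd powers of an inverting element invert -/
theorem conj_pow_of_inverts {g x : G} (h : g * x * g⁻¹ = x⁻¹) {m : ℕ} (hm : Odd m) :
    g ^ m * x * (g ^ m)⁻¹ = x⁻¹ := by
  obtain ⟨j, rfl⟩ := hm
  have h2 : g * x⁻¹ * g⁻¹ = x := by
    have : g * x⁻¹ * g⁻¹ = (g * x * g⁻¹)⁻¹ := by group
    rw [this, h, inv_inv]
  have key : ∀ j : ℕ, g ^ (2 * j) * x * (g ^ (2 * j))⁻¹ = x := by
    intro j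
    induction j with
    | zero => simp
    | succ j ih =>
      have e : g ^ (2 * (j + 1)) * x * (g ^ (2 * (j + 1)))⁻¹ =
          g * (g * (g ^ (2 * j) * x * (g ^ (2 * j))⁻¹) * g⁻¹) * g⁻¹ := by
        rw [show 2 * (j + 1) = 2 * j + 1 + 1 from by ring, pow_succ', pow_succ']
        group
      rw [e, ih, h, h2]
  have e : g ^ (2 * j + 1) * x * (g ^ (2 * j + 1))⁻¹ =
      g * (g ^ (2 * j) * x * (g ^ (2 * j))⁻¹) * g⁻¹ := by
    rw [pow_succ']
    group
  rw [e, key j, h]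

/-- a `2`-element normalizing but not centralizing a `q`-subgroup `X` inverts a nontrivial
element of `X` (some power of it does) -/
theorem realIn_of_two_elt (q : ℕ) {z : G} (hz : ∃ k : ℕ, z ^ (2 ^ k) = 1) {X : Subgroup G}
    (hX : IsPGroup q X) (hzX : z ∈ Subgroup.normalizer (X : Set G))
    (hnc : ∃ x ∈ X, z * x * z⁻¹ ≠ x) {K : Subgroup G} (hzK : z ∈ K) (hXK : X ≤ K) :
    RealIn q K := by
  classical
  have hex : ∃ k : ℕ, ∀ x ∈ X, z ^ (2 ^ k) * x * (z ^ (2 ^ k))⁻¹ = x := by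
    obtain ⟨k, hk⟩ := hz
    exact ⟨k, fun x _ => by rw [hk]; simp⟩
  have hmin := fun {m : ℕ} (hm : m < Nat.find hex) => Nat.find_min hex hm
  have hspec := Nat.find_spec hex
  have hne : Nat.find hex ≠ 0 := by
    intro h0
    rw [h0] at hspec
    obtain ⟨x, hx, hxz⟩ := hnc
    apply hxz
    have := hspec x hx
    simpa using this
  obtain ⟨j, hj⟩ := Nat.exists_eq_succ_of_ne_zero hne
  have hnj := hmin (show j < Nat.find hex by omega)
  push Not at hnj
  obtain ⟨c, hc, hcne⟩ := hnj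
  rw [hj] at hspec
  have hhN : z ^ (2 ^ j) ∈ Subgroup.normalizer (X : Set G) := Subgroup.pow_mem _ hzX _
  have hhc : z ^ (2 ^ j) * c * (z ^ (2 ^ j))⁻¹ ∈ X := (Subgroup.mem_normalizer_iff.mp hhN c).mp hc
  have hsq : z ^ (2 ^ (j + 1)) = z ^ (2 ^ j) * z ^ (2 ^ j) := by
    rw [← pow_add, pow_succ]; ring_nf
  have h2 := hspec c hc
  rw [hsq] at h2
  have hhK : z ^ (2 ^ j) ∈ K := K.pow_mem hzK _
  generalize z ^ (2 ^ j) = h at *
  have hxX : c⁻¹ * (h * c * h⁻¹) ∈ X := X.mul_mem (X.inv_mem hc) hhc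
  refine ⟨c⁻¹ * (h * c * h⁻¹), hXK hxX, h, ?_, ?_, ?_, ?_⟩
  · exact hhK
  · intro h1
    apply hcne
    have : h * c * h⁻¹ = c * (c⁻¹ * (h * c * h⁻¹)) := by group
    rw [this, h1, mul_one]
  · obtain ⟨k, hk⟩ := hX ⟨_, hxX⟩
    exact ⟨k, by simpa using congrArg Subtype.val hk⟩
  · have e : h * (c⁻¹ * (h * c * h⁻¹)) * h⁻¹ = (h * c * h⁻¹)⁻¹ * (h * h * c * (h * h)⁻¹) := by group
    rw [e, h2]
    group

end RealBasics

section RealLift

variable {G : Type*} [Group G]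

theorem mem_normalizer_of_forall_conj_mem' [Finite G] {J : Subgroup G} {b : G}
    (hb : ∀ x ∈ J, b * x * b⁻¹ ∈ J) : b ∈ Subgroup.normalizer (J : Set G) := by
  apply mem_normalizer_of_conj_smul_eq
  apply Subgroup.eq_of_le_of_card_ge
  · intro y hy
    rw [mem_conj_smul] at hy
    have := hb _ hy
    have e : b * (b⁻¹ * y * b) * b⁻¹ = y := by group
    rwa [e] at this
  · rw [card_conj_smul]

theorem isPGroup_zpowers_of_pow {p : ℕ} {x : G} (hx : ∃ k : ℕ, x ^ (p ^ k) = 1) :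
    IsPGroup p (Subgroup.zpowers x) := by
  obtain ⟨k, hk⟩ := hx
  rintro ⟨y, hy⟩
  obtain ⟨j, rfl⟩ := Subgroup.mem_zpowers_iff.mp hy
  refine ⟨k, Subtype.ext ?_⟩
  show (x ^ j) ^ (p ^ k) = 1
  rw [← zpow_natCast, ← zpow_mul, mul_comm, zpow_mul, zpow_natCast, hk, one_zpow]

/-- an element of odd prime power order equal to its inverse is trivial -/
theorem eq_one_of_inv_eq_self {q : ℕ} [hq : Fact q.Prime] (hq2 : q ≠ 2) {x : G}
    (hxq : ∃ k : ℕ, x ^ (q ^ k) = 1) (h : x⁻¹ = x) : x = 1 := by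
  obtain ⟨k, hk⟩ := hxq
  have h2 : x ^ 2 = 1 := by
    rw [pow_two]
    nth_rewrite 1 [← h]
    exact inv_mul_cancel x
  have h3 : orderOf x ∣ 2 := orderOf_dvd_of_pow_eq_one h2
  have h4 : orderOf x ∣ q ^ k := orderOf_dvd_of_pow_eq_one hk
  have hcop : Nat.Coprime 2 (q ^ k) := by
    apply Nat.Coprime.pow_right
    rw [Nat.coprime_primes Nat.prime_two hq.out]
    exact fun h => hq2 h.symm
  have h5 : orderOf x ∣ 1 := by
    have := Nat.dvd_gcd h3 h4
    rwa [hcop] at this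
  exact orderOf_eq_one_iff.mp (Nat.dvd_one.mp h5)

/-- Lifting real `q`-elements through a homomorphism (element form). -/
theorem realIn_of_hom [Finite G] (q : ℕ) [hq : Fact q.Prime] (hq2 : q ≠ 2) {H : Type*} [Group H]
    (f : G →* H) (K : Subgroup G) (x g : G) (hx : x ∈ K) (hg : g ∈ K) (hfx : f x ≠ 1)
    (hxq : ∃ k : ℕ, (f x) ^ (q ^ k) = 1) (hinv : f g * f x * (f g)⁻¹ = (f x)⁻¹) :
    RealIn q K := by
  obtain ⟨x', hx'z, hx'q, hfx'⟩ := exists_pelt_lift q f x hxq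
  have hx'K : x' ∈ K := (Subgroup.zpowers_le.mpr hx) hx'z
  have hconjz : ∀ w ∈ Subgroup.zpowers (f x), f g * w * (f g)⁻¹ = w⁻¹ := by
    intro w hw
    obtain ⟨j, rfl⟩ := Subgroup.mem_zpowers_iff.mp hw
    have : f g * (f x) ^ j * (f g)⁻¹ = (f g * f x * (f g)⁻¹) ^ j := by
      rw [← MulAut.conj_apply, ← MulAut.conj_apply, map_zpow]
    rw [this, hinv, inv_zpow]
  have hgM : g ∈ Subgroup.normalizer ((K ⊓ (Subgroup.zpowers (f x)).comap f : Subgroup G) : Set G) := by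
    apply mem_normalizer_of_forall_conj_mem'
    rintro m ⟨hmK, hmz⟩
    refine ⟨K.mul_mem (K.mul_mem hg hmK) (K.inv_mem hg), ?_⟩
    have hmz' : f m ∈ Subgroup.zpowers (f x) := hmz
    show f (g * m * g⁻¹) ∈ Subgroup.zpowers (f x)
    rw [map_mul, map_mul, map_inv, hconjz _ hmz']
    exact Subgroup.inv_mem _ hmz'
  have hx'M : x' ∈ K ⊓ (Subgroup.zpowers (f x)).comap f := by
    refine ⟨hx'K, ?_⟩
    show f x' ∈ Subgroup.zpowers (f x)
    rw [hfx']
    exact Subgroup.mem_zpowers _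
  generalize hM : K ⊓ (Subgroup.zpowers (f x)).comap f = M at hgM hx'M
  have hMK : M ≤ K := by rw [← hM]; exact inf_le_left
  have hMz : ∀ m ∈ M, f m ∈ Subgroup.zpowers (f x) := by
    intro m hm
    rw [← hM] at hm
    exact hm.2
  have hpg : IsPGroup q (Subgroup.zpowers (⟨x', hx'M⟩ : ↥M)) := by
    apply isPGroup_zpowers_of_pow
    obtain ⟨k, hk⟩ := hx'q
    exact ⟨k, Subtype.ext (by simpa using hk)⟩
  obtain ⟨P, hP⟩ := hpg.exists_le_sylow
  obtain ⟨k, hk⟩ := sylow_map_conj_of_mem_normalizer M P g hgM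
  have hx'X : x' ∈ (P : Subgroup ↥M).map M.subtype :=
    ⟨⟨x', hx'M⟩, hP (Subgroup.mem_zpowers _), rfl⟩
  have hXK : (P : Subgroup ↥M).map M.subtype ≤ K := (Subgroup.map_subtype_le _).trans hMK
  have hXp : IsPGroup q ((P : Subgroup ↥M).map M.subtype) := P.isPGroup'.map _
  generalize (P : Subgroup ↥M).map M.subtype = X at hk hx'X hXK hXp
  have hg'N : (k : G)⁻¹ * g ∈ Subgroup.normalizer (X : Set G) := by
    apply mem_normalizer_of_conj_smul_eq
    rw [← conj_smul_conj_smul, hk, conj_smul_conj_smul, inv_mul_cancel, map_one, one_smul]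
  have hg'K : (k : G)⁻¹ * g ∈ K := K.mul_mem (K.inv_mem (hMK k.2)) hg
  have hg'inv : f ((k : G)⁻¹ * g) * f x * (f ((k : G)⁻¹ * g))⁻¹ = (f x)⁻¹ := by
    have hkz := hMz k k.2
    have hxz : (f x)⁻¹ ∈ Subgroup.zpowers (f x) := Subgroup.inv_mem _ (Subgroup.mem_zpowers _)
    obtain ⟨i, hi⟩ := Subgroup.mem_zpowers_iff.mp hkz
    have hcomm : f (k : G) * (f x)⁻¹ = (f x)⁻¹ * f (k : G) := by
      rw [← hi, ← zpow_neg_one, ← zpow_add, ← zpow_add, add_comm]
    have e : f ((k : G)⁻¹ * g) * f x * (f ((k : G)⁻¹ * g))⁻¹ =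
        (f (k : G))⁻¹ * (f g * f x * (f g)⁻¹) * f (k : G) := by
      rw [map_mul, map_inv]; group
    rw [e, hinv, mul_assoc, ← hcomm, ← mul_assoc, inv_mul_cancel, one_mul]
  obtain ⟨m, hm, hm2⟩ := exists_odd_pow_two_elt ((k : G)⁻¹ * g)
  have hzinv : f (((k : G)⁻¹ * g) ^ m) * f x * (f (((k : G)⁻¹ * g) ^ m))⁻¹ = (f x)⁻¹ := by
    rw [map_pow]
    exact conj_pow_of_inverts hg'inv hm
  refine realIn_of_two_elt q hm2 hXp (Subgroup.pow_mem _ hg'N m) ⟨x', hx'X, ?_⟩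
    (K.pow_mem hg'K m) hXK
  intro hcen
  apply hfx
  apply eq_one_of_inv_eq_self hq2 hxq
  rw [← hzinv, ← hfx', ← map_inv, ← map_mul, ← map_mul, hcen]

/-- Lifting real `q`-elements through a homomorphism (subgroup form). -/
theorem RealIn.of_map [Finite G] {q : ℕ} [hq : Fact q.Prime] (hq2 : q ≠ 2) {H : Type*} [Group H]
    (f : G →* H) {K : Subgroup G} (hK : RealIn q (K.map f)) : RealIn q K := by
  obtain ⟨_, ⟨x, hx, rfl⟩, _, ⟨g, hg, rfl⟩, h1, h2, h3⟩ := hK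
  exact realIn_of_hom q hq2 f K x g hx hg h1 h2 h3

/-- If `G / Q` has no real `q`-element, a `2`-element normalizing a `q`-subgroup `X` centralizes
`X` modulo `Q`. -/
theorem comm_mem_of_not_realIn_quot (q : ℕ) (Q : Subgroup G) [Q.Normal]
    (hun : ¬ RealIn q (⊤ : Subgroup (G ⧸ Q))) {z : G} (hz : ∃ k : ℕ, z ^ (2 ^ k) = 1)
    {X : Subgroup G} (hX : IsPGroup q X) (hzX : z ∈ Subgroup.normalizer (X : Set G)) :
    ∀ x ∈ X, z * x * z⁻¹ * x⁻¹ ∈ Q := by
  intro x hx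
  by_contra hnot
  apply hun
  obtain ⟨k, hk⟩ := hz
  refine realIn_of_two_elt q (z := QuotientGroup.mk' Q z) ⟨k, by rw [← map_pow, hk, map_one]⟩
    (hX.map (QuotientGroup.mk' Q)) (Subgroup.le_normalizer_map _ ⟨z, hzX, rfl⟩)
    ⟨QuotientGroup.mk' Q x, ⟨x, hx, rfl⟩, ?_⟩ (Subgroup.mem_top _) le_top
  intro h
  apply hnot
  rw [← QuotientGroup.eq_one_iff, ← QuotientGroup.mk'_apply]
  simp only [map_mul, map_inv]
  rw [h, mul_inv_cancel]

end RealLift

end Cfsg.Agent.Lib.helper1
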