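import Cfsg.Agent.Lib.helper48.LBRefl

set_option autoImplicit false

/-!
# S2686 piece OI (helper1): automorphisms of odd order of `PSL_n(F)`

An automorphism `a` of odd order of `PSL_n(F)` (`n ≥ 3`) is `cAut h * fAut τ`, and the
semilinear map `v ↦ h τ(v)` commutes with every involution `s` of `SL_n(F)` whose image is fixed
by `a`.
-/

namespace Cfsg.Agent.Lib.helper1.S2686

open Matrix Cfsg
open Cfsg.Agent.Lib.helper47.PSLn
open Cfsg.Agent.Lib.helper48.LB
open Cfsg.Agent.Lib.helper48.AbsBal (fixG)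

variable {n : ℕ} {F : Type*} [Field F] [Fintype F]

omit [Fintype F] in
theorem oi_map_mul (σ : F ≃+* F) (A B : Matrix (Fin n) (Fin n) F) :
    (A * B).map σ = A.map σ * B.map σ := by
  ext i j
  simp only [Matrix.map_apply, Matrix.mul_apply, map_sum, map_mul]

omit [Fintype F] in
theorem oi_map_smul (σ : F ≃+* F) (c : F) (A : Matrix (Fin n) (Fin n) F) :
    (c • A).map σ = σ c • A.map σ := by
  ext i j
  simp only [Matrix.map_apply, Matrix.smul_apply, smul_eq_mul, map_mul]

omit [Fintype F] in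
theorem oi_mul (g g' : GL (Fin n) F) (σ σ' : F ≃+* F) :
    (cAut g * fAut σ * (cAut g' * fAut σ') : MulAut (ProjectiveSpecialLinearGroup (Fin n) F)) =
      cAut (g * Matrix.GeneralLinearGroup.map (σ : F →+* F) g') * fAut (σ * σ') := by
  rw [map_mul, map_mul, mul_assoc, ← mul_assoc (fAut σ), fAut_mul_cAut]
  simp only [mul_assoc]

omit [Fintype F] in
theorem oi_sq (g : GL (Fin n) F) (σ : F ≃+* F) :
    ∃ (g' : GL (Fin n) F) (σ' : F ≃+* F),
      (cAut g * fAut σ * gAut) * (cAut g * fAut σ * gAut) =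
        (cAut g' * fAut σ' : MulAut (ProjectiveSpecialLinearGroup (Fin n) F)) := by
  have e1 := gAut_mul_cAut g
  have e2 := gAut_mul_fAut (n := n) σ
  have h1 : (cAut g * fAut σ * gAut) * (cAut g * fAut σ * gAut) =
      (cAut g * fAut σ) * (cAut (itGL g) * fAut σ) *
        ((gAut : MulAut (ProjectiveSpecialLinearGroup (Fin n) F)) * gAut) := by
    calc (cAut g * fAut σ * gAut) * (cAut g * fAut σ * gAut)
        = cAut g * fAut σ * (gAut * cAut g) * fAut σ * gAut := by simp only [mul_assoc]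
      _ = cAut g * fAut σ * (cAut (itGL g) * gAut) * fAut σ * gAut := by rw [e1]
      _ = cAut g * fAut σ * cAut (itGL g) * (gAut * fAut σ) * gAut := by simp only [mul_assoc]
      _ = cAut g * fAut σ * cAut (itGL g) * (fAut σ * gAut) * gAut := by rw [e2]
      _ = _ := by simp only [mul_assoc]
  rw [h1, gAut_mul_self, mul_one, oi_mul]
  exact ⟨_, _, rfl⟩

theorem odd_aut_form {r f : ℕ} [Fact r.Prime] (hF : Fintype.card F = r ^ f) (hn : 3 ≤ n)
    (a : MulAut (ProjectiveSpecialLinearGroup (Fin n) F)) (ha : Odd (orderOf a)) :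
    ∃ (h : GL (Fin n) F) (τ : F ≃+* F), a = cAut h * fAut τ ∧
      ∀ s : SpecialLinearGroup (Fin n) F, s.1 * s.1 = 1 → a (pr s) = pr s →
        h.1 * s.1.map τ = s.1 * h.1 := by
  obtain ⟨g, σ, γ, hγ, hform⟩ := aut_structure_all hF (by omega) a
  obtain ⟨k, hk⟩ := ha
  have hpow : a ^ (2 * k + 1) = 1 := by rw [← hk]; exact pow_orderOf_eq_one _
  rcases hγ with rfl | rfl
  · rw [mul_one] at hform
    refine ⟨g, σ, hform, ?_⟩
    intro s hs hfix
    rw [hform] at hfix hpow
    rw [pow_cAut_fAut] at hpow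
    obtain ⟨hN1, hσm⟩ := normal_form_unique (by omega) (NkGL σ g (2 * k + 1)) 1
      (σ ^ (2 * k + 1)) 1 (by rw [hpow, map_one, map_one, mul_one])
    rw [map_one, cAut_eq_one_iff (by omega)] at hN1
    obtain ⟨c', hc'⟩ := hN1
    rw [MulAut.mul_apply, fAut_pr, cAut_pr, pr_eq_iff] at hfix
    obtain ⟨c, hcn, hc⟩ := hfix
    rw [conjSL_coe, mapSL_coe] at hc
    have e : g⁻¹.1 * g.1 = 1 := g.inv_mul
    have e' : g.1 * g⁻¹.1 = 1 := g.mul_inv
    have hc0 : c ≠ 0 := by
      rintro rfl
      rw [zero_pow (by omega)] at hcn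
      exact zero_ne_one hcn
    have h1 : s.1 * g.1 = c • (g.1 * s.1.map σ) := by
      conv_lhs => rw [hc]
      rw [Matrix.smul_mul, Matrix.mul_assoc, e, Matrix.mul_one]
    have hrel : g.1 * s.1.map σ = c⁻¹ • (s.1 * g.1) := by
      rw [h1, smul_smul, inv_mul_cancel₀ hc0, one_smul]
    have hm : s.1.map σ * s.1.map σ = 1 := by
      rw [← oi_map_mul, hs]
      exact Matrix.map_one _ (map_zero σ) (map_one σ)
    have hY : (g.1 * s.1.map σ * g⁻¹.1) * (g.1 * s.1.map σ * g⁻¹.1) = 1 := by
      calc (g.1 * s.1.map σ * g⁻¹.1) * (g.1 * s.1.map σ * g⁻¹.1)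
          = g.1 * (s.1.map σ * (g⁻¹.1 * g.1) * s.1.map σ) * g⁻¹.1 := by
            simp only [Matrix.mul_assoc]
        _ = 1 := by rw [e, Matrix.mul_one, hm, Matrix.mul_one, e']
    have hcc : c * c = 1 := by
      have h2 : s.1 * s.1 = (c * c) • (1 : Matrix (Fin n) (Fin n) F) := by
        conv_lhs => rw [hc]
        rw [Matrix.smul_mul, Matrix.mul_smul, hY, smul_smul]
      rw [hs] at h2
      have h3 := congrFun (congrFun h2 ⟨0, by omega⟩) ⟨0, by omega⟩
      simpa using h3.symm
    have hc1 : c = 1 := by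
      rcases mul_self_eq_one_iff.mp hcc with h | h
      · exact h
      · rw [h]
        -- `c = -1`: then `-1 = 1`
        have hrel' : g.1 * s.1.map σ = (-1 : F) • (s.1 * g.1) := by
          rw [hrel, h, inv_neg_one]
        have hP : ∀ j : ℕ, (NkGL σ g j).1 * s.1.map ((σ ^ j : F ≃+* F)) =
            (-1 : F) ^ j • (s.1 * (NkGL σ g j).1) := by
          intro j
          induction j with
          | zero =>
            show (1 : Matrix (Fin n) (Fin n) F) * s.1.map ((σ ^ 0 : F ≃+* F)) = _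
            rw [pow_zero, pow_zero, one_smul, Matrix.one_mul]
            show s.1.map ((1 : F ≃+* F)) = s.1 * 1
            rw [Matrix.mul_one]
            ext i j
            rfl
          | succ j ih =>
            show g.1 * ((NkGL σ g j).1.map σ) * s.1.map ((σ ^ (j + 1) : F ≃+* F)) =
              (-1 : F) ^ (j + 1) • (s.1 * (g.1 * (NkGL σ g j).1.map σ))
            have e1 : s.1.map ((σ ^ (j + 1) : F ≃+* F)) =
                (s.1.map ((σ ^ j : F ≃+* F))).map σ := by
              rw [pow_succ']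
              ext i j'
              rfl
            have e3 : σ ((-1 : F) ^ j) = (-1 : F) ^ j := by
              rw [map_pow, map_neg, map_one]
            rw [e1, Matrix.mul_assoc, ← oi_map_mul, ih, oi_map_smul, e3, oi_map_mul,
              Matrix.mul_smul, ← Matrix.mul_assoc, hrel', Matrix.smul_mul, smul_smul,
              Matrix.mul_assoc, pow_succ]
        have hPm := hP (2 * k + 1)
        rw [hσm, hc', Matrix.smul_mul, Matrix.one_mul, Matrix.mul_smul, Matrix.mul_one,
          Odd.neg_one_pow ⟨k, rfl⟩] at hPm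
        have hs1 : s.1.map ((1 : F ≃+* F)) = s.1 := by
          ext i j
          rfl
        rw [hs1] at hPm
        -- hPm : c' • s = -1 • (c' • s)
        have h4 : ((c' : F) • s.1) * s.1 = ((-1 : F) • ((c' : F) • s.1)) * s.1 := by
          rw [← hPm]
        rw [Matrix.smul_mul, Matrix.smul_mul, Matrix.smul_mul, hs] at h4
        have h5 := congrFun (congrFun h4 ⟨0, by omega⟩) ⟨0, by omega⟩
        simp only [Matrix.smul_apply, Matrix.one_apply_eq, smul_eq_mul, mul_one] at h5
        -- h5 : c' = -1 * c'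
        have hc'0 : (c' : F) ≠ 0 := c'.ne_zero
        have h6 : (1 : F) * (c' : F) = (-1 : F) * (c' : F) := by rw [one_mul]; exact h5
        exact (mul_right_cancel₀ hc'0 h6).symm
    rw [hrel, hc1, inv_one, one_smul]
  · exfalso
    rw [hform] at hpow
    obtain ⟨g', σ', hsq⟩ := oi_sq g σ
    rw [pow_succ, pow_mul, pow_two, hsq, pow_cAut_fAut,
      ← mul_assoc (cAut (NkGL σ' g' k) * fAut (σ' ^ k)) (cAut g * fAut σ) gAut, oi_mul] at hpow
    have h11 : (cAut (1 : GL (Fin n) F) * fAut (1 : F ≃+* F) :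
        MulAut (ProjectiveSpecialLinearGroup (Fin n) F)) = 1 := by
      rw [map_one, map_one, mul_one]
    exact normal_form_ne hn 1 _ 1 _ (h11.trans hpow.symm)

end Cfsg.Agent.Lib.helper1.S2686
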