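import Cfsg.Agent.Lib.helper48.LBRefl
import Cfsg.Agent.Lib.helper50.PSUTransfer
import Cfsg.Agent.Lib.helper50.PSUF4
import Cfsg.Agent.Lib.helper48.PSUOut
import Cfsg.Agent.S0283

set_option autoImplicit false

/-!
# S2687 piece G-OI (helper1): automorphisms of odd order of `PSU_n(q)`

An automorphism `a` of odd order of `PSU_n(q)` is `phiPSU w * fieldPSU τ` with `τ` of odd
order, and the semilinear map `v ↦ w τ(v)` commutes with every involution `s` of `SU_n(q)` whose
image is fixed by `a`.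
-/

namespace Cfsg.Agent.Lib.helper1.S2687

open Matrix Cfsg
open Cfsg.Agent.Lib.helper50
open Cfsg.Agent.Lib.helper48.LB
open Cfsg.Agent.Lib.helper48.AbsBal (fixG)
open Cfsg.Agent.Lib.helper99 (suMat)

universe u v

variable {n q : ℕ} {F : Type u} [Field F] [Fintype F]

omit [Fintype F] in
theorem goi_map_mul (σ : F ≃+* F) (A B : Matrix (Fin n) (Fin n) F) :
    (A * B).map σ = A.map σ * B.map σ := by
  ext i j
  simp only [Matrix.map_apply, Matrix.mul_apply, map_sum, map_mul]

omit [Fintype F] in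
theorem goi_map_smul (σ : F ≃+* F) (c : F) (A : Matrix (Fin n) (Fin n) F) :
    (c • A).map σ = σ c • A.map σ := by
  ext i j
  simp only [Matrix.map_apply, Matrix.smul_apply, smul_eq_mul, map_mul]

omit [Fintype F] in
/-- The matrix core: a twisted conjugation of odd order fixing an involution up to a scalar
fixes it. -/
theorem goi_core (hn : 1 ≤ n) (W Winv S : Matrix (Fin n) (Fin n) F) (τ : F ≃+* F)
    (N : ℕ → Matrix (Fin n) (Fin n) F) (hW : W * Winv = 1) (hW' : Winv * W = 1)
    (hS : S * S = 1) (c : F) (hc : S = c • (W * S.map τ * Winv))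
    (N0 : N 0 = 1) (Nsucc : ∀ j, N (j + 1) = W * (N j).map τ) (k : ℕ) (ρ : F) (hρ0 : ρ ≠ 0)
    (hNm : N (2 * k + 1) = ρ • (1 : Matrix (Fin n) (Fin n) F)) (hτ : τ ^ (2 * k + 1) = 1) :
    W * S.map τ = S * W := by
  have hc0 : c ≠ 0 := by
    rintro rfl
    rw [zero_smul] at hc
    rw [hc, Matrix.zero_mul] at hS
    have h3 := congrFun (congrFun hS ⟨0, by omega⟩) ⟨0, by omega⟩
    simp at h3
  have h1 : S * W = c • (W * S.map τ) := by
    conv_lhs => rw [hc]
    rw [Matrix.smul_mul, Matrix.mul_assoc, hW', Matrix.mul_one]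
  have hrel : W * S.map τ = c⁻¹ • (S * W) := by
    rw [h1, smul_smul, inv_mul_cancel₀ hc0, one_smul]
  have hm : S.map τ * S.map τ = 1 := by
    rw [← goi_map_mul, hS]
    exact Matrix.map_one _ (map_zero τ) (map_one τ)
  have hY : (W * S.map τ * Winv) * (W * S.map τ * Winv) = 1 := by
    calc (W * S.map τ * Winv) * (W * S.map τ * Winv)
        = W * (S.map τ * (Winv * W) * S.map τ) * Winv := by
          simp only [Matrix.mul_assoc]
      _ = 1 := by rw [hW', Matrix.mul_one, hm, Matrix.mul_one, hW]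
  have hcc : c * c = 1 := by
    have h2 : S * S = (c * c) • (1 : Matrix (Fin n) (Fin n) F) := by
      conv_lhs => rw [hc]
      rw [Matrix.smul_mul, Matrix.mul_smul, hY, smul_smul]
    rw [hS] at h2
    have h3 := congrFun (congrFun h2 ⟨0, by omega⟩) ⟨0, by omega⟩
    simpa using h3.symm
  have hc1 : c = 1 := by
    rcases mul_self_eq_one_iff.mp hcc with h | h
    · exact h
    · rw [h]
      have hrel' : W * S.map τ = (-1 : F) • (S * W) := by
        rw [hrel, h, inv_neg_one]
      have hP : ∀ j : ℕ, N j * S.map ((τ ^ j : F ≃+* F)) = (-1 : F) ^ j • (S * N j) := by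
        intro j
        induction j with
        | zero =>
          rw [N0, pow_zero, pow_zero, one_smul, Matrix.one_mul, Matrix.mul_one]
          ext i j
          rfl
        | succ j ih =>
          have e1 : S.map ((τ ^ (j + 1) : F ≃+* F)) = (S.map ((τ ^ j : F ≃+* F))).map τ := by
            rw [pow_succ']
            ext i j'
            rfl
          have e3 : τ ((-1 : F) ^ j) = (-1 : F) ^ j := by
            rw [map_pow, map_neg, map_one]
          rw [Nsucc, e1, Matrix.mul_assoc, ← goi_map_mul, ih, goi_map_smul, e3, goi_map_mul,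
            Matrix.mul_smul, ← Matrix.mul_assoc, hrel', Matrix.smul_mul, smul_smul,
            Matrix.mul_assoc, pow_succ]
      have hPm := hP (2 * k + 1)
      rw [hτ, hNm, Matrix.smul_mul, Matrix.one_mul, Matrix.mul_smul, Matrix.mul_one,
        Odd.neg_one_pow ⟨k, rfl⟩] at hPm
      have hs1 : S.map ((1 : F ≃+* F)) = S := by
        ext i j
        rfl
      rw [hs1] at hPm
      have h4 : (ρ • S) * S = ((-1 : F) • (ρ • S)) * S := by
        rw [← hPm]
      rw [Matrix.smul_mul, Matrix.smul_mul, Matrix.smul_mul, hS] at h4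
      have h5 := congrFun (congrFun h4 ⟨0, by omega⟩) ⟨0, by omega⟩
      simp only [Matrix.smul_apply, Matrix.one_apply_eq, smul_eq_mul, mul_one] at h5
      have h6 : (1 : F) * ρ = (-1 : F) * ρ := by rw [one_mul]; exact h5
      exact (mul_right_cancel₀ hρ0 h6).symm
  rw [hrel, hc1, inv_one, one_smul]

theorem odd_aut_form_U (hF : Fintype.card F = q ^ 2) (hn : 3 ≤ n) (h32 : ¬ (n = 3 ∧ q = 2))
    {r f : ℕ} [Fact r.Prime] (hq : q = r ^ f) (hf : 1 ≤ f) (a : MulAut (PSU n F q))
    (ha : Odd (orderOf a)) :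
    ∃ (w : ↥(GU n F q)) (τ : F ≃+* F), a = phiPSU w * fieldPSU τ ∧ Odd (orderOf τ) ∧
      ∀ s : ↥(SU n F q), s * s = 1 → a (QuotientGroup.mk s) = QuotientGroup.mk s →
        ((w : GL (Fin n) F) : Matrix (Fin n) (Fin n) F) * (suMat s).map τ
          = suMat s * ((w : GL (Fin n) F) : Matrix (Fin n) (Fin n) F) := by
  obtain ⟨τ, w, hform⟩ := Cfsg.Agent.Lib.helper48.PSUOut.exists_typ hF hn h32 hq hf a
  obtain ⟨k, hk⟩ := ha
  have hpow : a ^ (2 * k + 1) = 1 := by rw [← hk]; exact pow_orderOf_eq_one _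
  rw [hform, PSUF.pow_phi_field] at hpow
  obtain ⟨hτm, ρ, hρ⟩ := phi_field_eq_one hF hn _ _ hpow
  refine ⟨w, τ, hform, ?_, ?_⟩
  · exact Odd.of_dvd_nat ⟨k, rfl⟩ (orderOf_dvd_of_pow_eq_one hτm)
  · intro s hs hfix
    rw [hform, MulAut.mul_apply, fieldPSU_mk, phiPSU_mk] at hfix
    have hz := QuotientGroup.eq.mp hfix
    obtain ⟨ζ, hζ⟩ := central_scalar hF ⟨0, by omega⟩ _ hz
    have hW : ((w : GL (Fin n) F) : Matrix (Fin n) (Fin n) F) *
        (((w⁻¹ : ↥(GU n F q)) : GL (Fin n) F) : Matrix (Fin n) (Fin n) F) = 1 := by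
      have e : (w : GL (Fin n) F) * ((w⁻¹ : ↥(GU n F q)) : GL (Fin n) F) = 1 := by
        rw [← Subgroup.coe_mul, mul_inv_cancel]; rfl
      have e2 := congrArg (fun x : GL (Fin n) F => (x : Matrix (Fin n) (Fin n) F)) e
      exact e2
    have hW' : (((w⁻¹ : ↥(GU n F q)) : GL (Fin n) F) : Matrix (Fin n) (Fin n) F) *
        ((w : GL (Fin n) F) : Matrix (Fin n) (Fin n) F) = 1 := by
      have e : ((w⁻¹ : ↥(GU n F q)) : GL (Fin n) F) * (w : GL (Fin n) F) = 1 := by
        rw [← Subgroup.coe_mul, inv_mul_cancel]; rfl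
      have e2 := congrArg (fun x : GL (Fin n) F => (x : Matrix (Fin n) (Fin n) F)) e
      exact e2
    have hs' : suMat s = ζ • (((w : GL (Fin n) F) : Matrix (Fin n) (Fin n) F) * (suMat s).map τ *
        (((w⁻¹ : ↥(GU n F q)) : GL (Fin n) F) : Matrix (Fin n) (Fin n) F)) := by
      have e : s = conjSU w (fieldSU τ s) * ((conjSU w (fieldSU τ s))⁻¹ * s) := by group
      have e2 := congrArg suMat e
      rw [Cfsg.Agent.Lib.helper99.suMat_mul] at e2
      have e3 : suMat ((conjSU w (fieldSU τ s))⁻¹ * s) = ζ • (1 : Matrix (Fin n) (Fin n) F) := hζ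
      have e4 : suMat (conjSU w (fieldSU τ s)) =
          ((w : GL (Fin n) F) : Matrix (Fin n) (Fin n) F) * (suMat s).map τ *
            (((w⁻¹ : ↥(GU n F q)) : GL (Fin n) F) : Matrix (Fin n) (Fin n) F) := rfl
      rw [e3, e4, Matrix.mul_smul, Matrix.mul_one] at e2
      exact e2
    have hρ0 : ρ ≠ 0 := by
      rintro rfl
      rw [zero_smul] at hρ
      have e : (PSUF.NkGU τ w (2 * k + 1) : GL (Fin n) F) *
          ((PSUF.NkGU τ w (2 * k + 1) : GL (Fin n) F))⁻¹ = 1 := mul_inv_cancel _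
      have e2 := congrArg (fun x : GL (Fin n) F => (x : Matrix (Fin n) (Fin n) F)) e
      simp only [Units.val_mul] at e2
      rw [hρ, Matrix.zero_mul] at e2
      have h3 := congrFun (congrFun e2 ⟨0, by omega⟩) ⟨0, by omega⟩
      simp at h3
    exact goi_core (by omega) _ _ (suMat s) τ
      (fun j => ((PSUF.NkGU τ w j : GL (Fin n) F) : Matrix (Fin n) (Fin n) F)) hW hW'
      (congrArg suMat hs) ζ hs' rfl (fun j => rfl) k ρ hρ0 hρ hτm

end Cfsg.Agent.Lib.helper1.S2687
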