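import Mathlib
import Cfsg.Agent.Lib.helper26.S4409Defs

/-! S4409 piece G3 (helper1): `C_X(H) ≤ X'` when `[X,H] = X`, `H` of odd order normalizing the
2-group `X` (transfer-type product into the abelianization). -/

set_option autoImplicit false

namespace Cfsg.Agent.Lib.helper26.S4409

open scoped commutatorElement

variable {G : Type*} [Group G]

theorem g3 [Finite G] (X H : Subgroup G) (hX : IsPGroup 2 ↥X)
    (hH : H ≤ Subgroup.normalizer (X : Set G)) (hodd : (Nat.card ↥H).Coprime 2)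
    (hXH : ⁅X, H⁆ = X) (w : G) (hw : w ∈ X) (hc : ∀ h ∈ H, h * w = w * h) : w ∈ ⁅X, X⁆ := by
  classical
  have : Fintype ↥H := Fintype.ofFinite _
  have hconjmem : ∀ (h : G), h ∈ H → ∀ y : G, y ∈ X → h * y * h⁻¹ ∈ X := fun h hh y hy =>
    (Subgroup.mem_normalizer_iff.mp (hH hh) y).mp hy
  let c : ↥H → ↥X → ↥X := fun h y => ⟨(h : G) * (y : G) * (h : G)⁻¹, hconjmem h h.2 y y.2⟩
  have hc1 : ∀ h : ↥H, c h 1 = 1 := fun h => Subtype.ext (by simp [c])
  have hcmul : ∀ (h : ↥H) (y z : ↥X), c h (y * z) = c h y * c h z := fun h y z =>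
    Subtype.ext (by simp [c, mul_assoc])
  let τ : ↥X →* Abelianization ↥X :=
    { toFun := fun y => ∏ h : ↥H, Abelianization.of (c h y)
      map_one' := by
        apply Finset.prod_eq_one; intro h _
        rw [hc1, map_one]
      map_mul' := by
        intro y z
        rw [← Finset.prod_mul_distrib]
        apply Finset.prod_congr rfl; intro h _
        rw [hcmul, map_mul] }
  have hτ : ∀ y, τ y = ∏ h : ↥H, Abelianization.of (c h y) := fun y => rfl
  have hinv : ∀ (h₀ : ↥H) (y : ↥X), τ (c h₀ y) = τ y := by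
    intro h₀ y
    rw [hτ, hτ]
    rw [← Equiv.prod_comp (Equiv.mulRight h₀) (fun h => Abelianization.of (c h y))]
    apply Finset.prod_congr rfl; intro h _
    congr 1
    apply Subtype.ext
    simp [c, mul_assoc]
  have hker : ⁅X, H⁆ ≤ (τ.ker).map X.subtype := by
    rw [Subgroup.commutator_le]
    intro x hx h hh
    have hmem : ⁅x, h⁆ ∈ X := by
      rw [commutatorElement_def]
      have h1 : h * x⁻¹ * h⁻¹ ∈ X := hconjmem h hh x⁻¹ (X.inv_mem hx)
      have h2 := X.mul_mem hx h1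
      have h3 : x * (h * x⁻¹ * h⁻¹) = x * h * x⁻¹ * h⁻¹ := by group
      rwa [h3] at h2
    refine ⟨⟨⁅x, h⁆, hmem⟩, ?_, rfl⟩
    rw [SetLike.mem_coe, MonoidHom.mem_ker]
    have h4 : (⟨⁅x, h⁆, hmem⟩ : ↥X) = ⟨x, hx⟩ * (c ⟨h, hh⟩ ⟨x, hx⟩)⁻¹ :=
      Subtype.ext (by simp [c, commutatorElement_def, mul_assoc])
    rw [h4, map_mul, map_inv, hinv, mul_inv_cancel]
  rw [hXH] at hker
  obtain ⟨w', hw', hw'eq⟩ := hker hw
  have hw'' : w' = ⟨w, hw⟩ := Subtype.ext hw'eq
  rw [hw'', SetLike.mem_coe, MonoidHom.mem_ker] at hw'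
  have hτw : τ ⟨w, hw⟩ = (Abelianization.of (⟨w, hw⟩ : ↥X)) ^ (Fintype.card ↥H) := by
    rw [hτ, Finset.prod_eq_pow_card (b := Abelianization.of (⟨w, hw⟩ : ↥X))]
    · rw [Finset.card_univ]
    · intro h _
      congr 1
      apply Subtype.ext
      show (h : G) * w * (h : G)⁻¹ = w
      rw [hc h h.2]; group
  have h1 : orderOf (Abelianization.of (⟨w, hw⟩ : ↥X)) ∣ Fintype.card ↥H :=
    orderOf_dvd_of_pow_eq_one (hτw ▸ hw')
  obtain ⟨j, hj⟩ := hX ⟨w, hw⟩
  have h2 : orderOf (Abelianization.of (⟨w, hw⟩ : ↥X)) ∣ 2 ^ j :=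
    orderOf_dvd_of_pow_eq_one (by rw [← map_pow, hj, map_one])
  have hcop : Nat.Coprime (Fintype.card ↥H) (2 ^ j) := by
    rw [← Nat.card_eq_fintype_card]; exact Nat.Coprime.pow_right j hodd
  have h3 : Abelianization.of (⟨w, hw⟩ : ↥X) = 1 :=
    orderOf_eq_one_iff.mp (Nat.eq_one_of_dvd_coprimes hcop h1 h2)
  have h4 : (⟨w, hw⟩ : ↥X) ∈ commutator ↥X := by
    rw [← Abelianization.ker_of]
    exact MonoidHom.mem_ker.mpr h3
  rw [← Subgroup.map_subtype_commutator]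
  exact ⟨⟨w, hw⟩, h4, rfl⟩

end Cfsg.Agent.Lib.helper26.S4409
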