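import Mathlib
import Cfsg.Agent.Lib.helper26.S4409Defs

/-! S4409 piece G5 (helper1): `[X,H,H] = 1 ⇒ [X,H] = 1` for an odd-order `H` normalizing a 2-group `X`. -/

set_option autoImplicit false

namespace Cfsg.Agent.Lib.helper26.S4409

open scoped commutatorElement

variable {G : Type*} [Group G]

theorem g5 [Finite G] (X H : Subgroup G) (hX : IsPGroup 2 ↥X)
    (hH : H ≤ Subgroup.normalizer (X : Set G)) (hodd : (Nat.card ↥H).Coprime 2)
    (hc : H ≤ Subgroup.centralizer ((⁅X, H⁆ : Subgroup G) : Set G)) :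
    H ≤ Subgroup.centralizer (X : Set G) := by
  intro h hh
  rw [Subgroup.mem_centralizer_iff]
  intro x hx
  have hk : ⁅x, h⁆ ∈ ⁅X, H⁆ := Subgroup.commutator_mem_commutator hx hh
  have hkX : ⁅x, h⁆ ∈ X := by
    rw [commutatorElement_def]
    have h1 : h * x⁻¹ * h⁻¹ ∈ X :=
      (Subgroup.mem_normalizer_iff.mp (hH hh) x⁻¹).mp (X.inv_mem hx)
    have h2 := X.mul_mem hx h1
    have h3 : x * (h * x⁻¹ * h⁻¹) = x * h * x⁻¹ * h⁻¹ := by group
    rwa [h3] at h2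
  have hcomm : ⁅x, h⁆ * h = h * ⁅x, h⁆ := (Subgroup.mem_centralizer_iff.mp (hc hh)) _ hk
  obtain ⟨k, hkdef⟩ : ∃ k, k = ⁅x, h⁆ := ⟨_, rfl⟩
  rw [← hkdef] at hk hkX hcomm
  have hconj : x * h * x⁻¹ = k * h := by rw [hkdef, commutatorElement_def]; group
  have hpow : ∀ n : ℕ, x * h ^ n * x⁻¹ = k ^ n * h ^ n := by
    intro n
    have h1 : (x * h * x⁻¹) ^ n = x * h ^ n * x⁻¹ := conj_pow
    have h2 : Commute k h := hcomm
    rw [← h1, hconj, h2.mul_pow]
  have hn := hpow (orderOf h)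
  rw [pow_orderOf_eq_one, mul_one, mul_inv_cancel, mul_one] at hn
  have hord_dvd : orderOf h ∣ Nat.card H := by
    have h1 := orderOf_dvd_natCard (⟨h, hh⟩ : H)
    rwa [Subgroup.orderOf_mk] at h1
  obtain ⟨j, hj⟩ : ∃ j : ℕ, k ^ 2 ^ j = 1 := by
    obtain ⟨j, hj⟩ := hX ⟨k, hkX⟩
    exact ⟨j, by simpa using congrArg Subtype.val hj⟩
  have hcop : Nat.Coprime (orderOf h) (2 ^ j) :=
    Nat.Coprime.pow_right j (Nat.Coprime.coprime_dvd_left hord_dvd hodd)
  have hk1 : k = 1 := by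
    have h1 : orderOf k ∣ orderOf h := orderOf_dvd_of_pow_eq_one hn.symm
    have h2 : orderOf k ∣ 2 ^ j := orderOf_dvd_of_pow_eq_one hj
    exact orderOf_eq_one_iff.mp (Nat.eq_one_of_dvd_coprimes hcop h1 h2)
  rw [hk1, one_mul] at hconj
  calc x * h = x * h * x⁻¹ * x := by group
    _ = h * x := by rw [hconj]

end Cfsg.Agent.Lib.helper26.S4409
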