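import Mathlib
import Cfsg.Agent.Lib.helper24.S6eDefs
import Cfsg.Agent.Lib.helper17.Symp4

/-! S6002 piece B5E (helper1): an element of order 5 of `Sp_4(F)` normalizing `R`. -/

set_option autoImplicit false
set_option linter.unusedSimpArgs false

namespace Cfsg.Agent.Lib.helper24

open Matrix Cfsg Cfsg.Geo

section h1ring
variable {R : Type*} [Ring R]

theorem h1_U_conj_left (a b : R) (ha : a * a = 1) (hb : b * b = 1) (hab : a * b = -(b * a)) :
    (1 + a * b) * a = -b * (1 + a * b) := by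
  have hba : b * a = -(a * b) := by rw [hab, neg_neg]
  have e1 : a * b * a = -b := by
    rw [mul_assoc, hba, mul_neg, ← mul_assoc, ha, one_mul]
  have e2 : b * (a * b) = -a := by
    rw [← mul_assoc, hba, neg_mul, mul_assoc, hb, mul_one]
  rw [add_mul, one_mul, e1, mul_add, mul_one, neg_mul, e2]
  abel

theorem h1_U_conj_right (a b : R) (ha : a * a = 1) (hb : b * b = 1) :
    (1 + a * b) * b = a * (1 + a * b) := by
  rw [add_mul, one_mul, mul_assoc, hb, mul_one, mul_add, mul_one, ← mul_assoc, ha, one_mul]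
  abel

theorem h1_U_comm (a b c : R) (h : c * (a * b) = (a * b) * c) :
    (1 + a * b) * c = c * (1 + a * b) := by
  rw [add_mul, one_mul, mul_add, mul_one, h]

theorem h1_anti2 (a b c : R) (hca : c * a = -(a * c)) (hcb : c * b = -(b * c)) :
    c * (a * b) = (a * b) * c := by
  rw [← mul_assoc, hca, neg_mul, mul_assoc, hcb, mul_neg, neg_neg, mul_assoc]

theorem h1_neg_pass (u x y : R) (h : u * x = y * u) : u * (-x) = (-y) * u := by
  rw [mul_neg, h, neg_mul]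

theorem h1_pass4 (u1 u2 u3 u4 x0 x1 x2 x3 x4 : R) (e4 : u4 * x0 = x1 * u4)
    (e3 : u3 * x1 = x2 * u3) (e2 : u2 * x2 = x3 * u2) (e1 : u1 * x3 = x4 * u1) :
    u1 * u2 * u3 * u4 * x0 = x4 * (u1 * u2 * u3 * u4) := by
  calc u1 * u2 * u3 * u4 * x0 = u1 * (u2 * (u3 * (u4 * x0))) := by simp only [mul_assoc]
    _ = u1 * (u2 * ((u3 * x1) * u4)) := by rw [e4]; simp only [mul_assoc]
    _ = u1 * ((u2 * x2) * (u3 * u4)) := by rw [e3]; simp only [mul_assoc]
    _ = (u1 * x3) * (u2 * (u3 * u4)) := by rw [e2]; simp only [mul_assoc]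
    _ = x4 * (u1 * u2 * u3 * u4) := by rw [e1]; simp only [mul_assoc]

theorem h1_pass5 (g x0 x1 x2 x3 x4 x5 : R) (e1 : g * x0 = x1 * g) (e2 : g * x1 = x2 * g)
    (e3 : g * x2 = x3 * g) (e4 : g * x3 = x4 * g) (e5 : g * x4 = x5 * g) :
    g ^ 5 * x0 = x5 * g ^ 5 := by
  have h2 : g ^ 2 * x0 = x2 * g ^ 2 := by
    rw [pow_two, mul_assoc, e1, ← mul_assoc, e2, mul_assoc]
  have h22 : g ^ 2 * x2 = x4 * g ^ 2 := by
    rw [pow_two, mul_assoc, e3, ← mul_assoc, e4, mul_assoc]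
  have h4 : g ^ 4 * x0 = x4 * g ^ 4 := by
    have e : g ^ 4 = g ^ 2 * g ^ 2 := by rw [← pow_add]
    rw [e, mul_assoc, h2, ← mul_assoc, h22, mul_assoc]
  have e : g ^ 5 = g * g ^ 4 := pow_succ' g 4
  rw [e, mul_assoc, h4, ← mul_assoc, e5, mul_assoc]

theorem h1_a4 (a0 a1 a2 a3 : R) (s0 : a0 * a0 = 1) (s1 : a1 * a1 = 1) (s2 : a2 * a2 = 1)
    (s3 : a3 * a3 = 1)
    (r10 : a1 * a0 = -(a0 * a1)) (r20 : a2 * a0 = -(a0 * a2)) (r30 : a3 * a0 = -(a0 * a3))
    (r21 : a2 * a1 = -(a1 * a2)) (r31 : a3 * a1 = -(a1 * a3)) (r32 : a3 * a2 = -(a2 * a3)) :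
    (a0 * a1 * a2 * a3) * (a0 * a1 * a2 * a3) = 1 ∧
    (a0 * a1 * a2 * a3) * a0 = -(a0 * (a0 * a1 * a2 * a3)) ∧
    (a0 * a1 * a2 * a3) * a1 = -(a1 * (a0 * a1 * a2 * a3)) ∧
    (a0 * a1 * a2 * a3) * a2 = -(a2 * (a0 * a1 * a2 * a3)) ∧
    (a0 * a1 * a2 * a3) * a3 = -(a3 * (a0 * a1 * a2 * a3)) := by
  have s0' : ∀ X, a0 * (a0 * X) = X := fun X => by rw [← mul_assoc, s0, one_mul]
  have s1' : ∀ X, a1 * (a1 * X) = X := fun X => by rw [← mul_assoc, s1, one_mul]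
  have s2' : ∀ X, a2 * (a2 * X) = X := fun X => by rw [← mul_assoc, s2, one_mul]
  have s3' : ∀ X, a3 * (a3 * X) = X := fun X => by rw [← mul_assoc, s3, one_mul]
  have r10' : ∀ X, a1 * (a0 * X) = -(a0 * (a1 * X)) := fun X => by
    rw [← mul_assoc, r10, neg_mul, mul_assoc]
  have r20' : ∀ X, a2 * (a0 * X) = -(a0 * (a2 * X)) := fun X => by
    rw [← mul_assoc, r20, neg_mul, mul_assoc]
  have r30' : ∀ X, a3 * (a0 * X) = -(a0 * (a3 * X)) := fun X => by
    rw [← mul_assoc, r30, neg_mul, mul_assoc]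
  have r21' : ∀ X, a2 * (a1 * X) = -(a1 * (a2 * X)) := fun X => by
    rw [← mul_assoc, r21, neg_mul, mul_assoc]
  have r31' : ∀ X, a3 * (a1 * X) = -(a1 * (a3 * X)) := fun X => by
    rw [← mul_assoc, r31, neg_mul, mul_assoc]
  have r32' : ∀ X, a3 * (a2 * X) = -(a2 * (a3 * X)) := fun X => by
    rw [← mul_assoc, r32, neg_mul, mul_assoc]
  refine ⟨?_, ?_, ?_, ?_, ?_⟩ <;>
    simp only [mul_assoc, s0, s1, s2, s3, s0', s1', s2', s3', r10, r20, r30, r21, r31, r32,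
      r10', r20', r30', r21', r31', r32', mul_neg, neg_mul, neg_neg, mul_one, one_mul]

end h1ring

theorem h1_conj5 {G : Type*} [Group G] (h s : G) (h5 : h ^ 5 = 1) :
    h * (h * (h * (h * (h * s * h⁻¹) * h⁻¹) * h⁻¹) * h⁻¹) * h⁻¹ = s := by
  have e : h * (h * (h * (h * (h * s * h⁻¹) * h⁻¹) * h⁻¹) * h⁻¹) * h⁻¹ = h ^ 5 * s * (h ^ 5)⁻¹ := by
    simp only [pow_succ, pow_zero, one_mul, _root_.mul_inv_rev, mul_assoc]
  rw [e, h5, one_mul, inv_one, mul_one]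

/-- `M` scales the symplectic form by `c`. -/
def h1Sc {F : Type*} [Field F] (M : Matrix S6I S6I F) (c : F) : Prop :=
  ∀ x y : S6I → F, sympForm 2 F (M *ᵥ x) (M *ᵥ y) = c * sympForm 2 F x y

theorem h1Sc_mul {F : Type*} [Field F] {M N : Matrix S6I S6I F} {c d : F} (hM : h1Sc M c)
    (hN : h1Sc N d) : h1Sc (M * N) (c * d) := by
  intro x y
  rw [← Matrix.mulVec_mulVec, ← Matrix.mulVec_mulVec, hM, hN, mul_assoc]

theorem h1Sc_smul {F : Type*} [Field F] {M : Matrix S6I S6I F} {c : F} (k : F) (hM : h1Sc M c) :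
    h1Sc (k • M) (k * k * c) := by
  intro x y
  rw [Matrix.smul_mulVec, Matrix.smul_mulVec, Cfsg.Agent.Lib.helper17.sympForm_smul_left,
    Cfsg.Agent.Lib.helper17.sympForm_smul_right, hM]
  ring

theorem h1Sc_adj {F : Type*} [Field F] {a : Matrix S6I S6I F} (ha : h1Sc a 1) (ha2 : a * a = 1)
    (x w : S6I → F) : sympForm 2 F (a *ᵥ x) w = sympForm 2 F x (a *ᵥ w) := by
  have h := ha x (a *ᵥ w)
  rw [Matrix.mulVec_mulVec, ha2, Matrix.one_mulVec, one_mul] at h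
  exact h

theorem h1Sc_U {F : Type*} [Field F] {a b : Matrix S6I S6I F} (ha : h1Sc a 1) (hb : h1Sc b 1)
    (ha2 : a * a = 1) (hb2 : b * b = 1) (hba : b * a = -(a * b)) : h1Sc (1 + a * b) 2 := by
  intro x y
  have hab := h1Sc_mul ha hb
  have e1 : sympForm 2 F ((a * b) *ᵥ x) ((a * b) *ᵥ y) = sympForm 2 F x y := by
    rw [hab]; ring
  have e2 : sympForm 2 F ((a * b) *ᵥ x) y = - sympForm 2 F x ((a * b) *ᵥ y) := by
    rw [← Matrix.mulVec_mulVec, h1Sc_adj ha ha2, h1Sc_adj hb hb2, Matrix.mulVec_mulVec, hba,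
      Matrix.neg_mulVec, Cfsg.Agent.Lib.helper17.sympForm_neg_right]
  rw [Matrix.add_mulVec, Matrix.add_mulVec, Matrix.one_mulVec, Matrix.one_mulVec,
    Cfsg.Agent.Lib.helper17.sympForm_add_left, Cfsg.Agent.Lib.helper17.sympForm_add_right,
    Cfsg.Agent.Lib.helper17.sympForm_add_right, e1, e2]
  ring

theorem h1_U_inv {F : Type*} [Field F] (a b : Matrix S6I S6I F) (ha : a * a = 1) (hb : b * b = 1)
    (hba : b * a = -(a * b)) : (1 + a * b) * (1 - a * b) = (2 : F) • (1 : Matrix S6I S6I F) := by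
  have e : (a * b) * (a * b) = -1 := by
    rw [mul_assoc, ← mul_assoc b a b, hba, neg_mul, mul_neg, mul_assoc a b b, hb, mul_one, ha]
  rw [mul_sub, mul_one, add_mul, one_mul, e, two_smul]
  abel

theorem h1_peel {F : Type*} [Field F] (u v P Q : Matrix S6I S6I F) (c d : F)
    (huv : u * v = c • (1 : Matrix S6I S6I F)) (hPQ : P * Q = d • (1 : Matrix S6I S6I F)) :
    (P * u) * (v * Q) = (c * d) • (1 : Matrix S6I S6I F) := by
  rw [mul_assoc, ← mul_assoc u v Q, huv, smul_mul_assoc, one_mul, mul_smul_comm, hPQ, smul_smul]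

theorem s6_exists_five_elt {F : Type*} [Field F] [Fintype F] (h2 : (2 : F) ≠ 0) (R : Subgroup (GL S6I F)) (hG : S6Good R) :
    ∃ h : GL S6I F, h ∈ spGL 2 F ∧ h ∈ subgroupNormalizer R ∧ h ^ 5 = 1 ∧ h ≠ 1 := by
  classical
  obtain ⟨t, htR, htsq, htanti, htgen⟩ := hG.frame
  obtain ⟨z, hzR, hz⟩ := hG.neg
  obtain ⟨a0, ha0⟩ : ∃ a : Matrix S6I S6I F, a = (t 0 : Matrix S6I S6I F) := ⟨_, rfl⟩
  obtain ⟨a1, ha1⟩ : ∃ a : Matrix S6I S6I F, a = (t 1 : Matrix S6I S6I F) := ⟨_, rfl⟩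
  obtain ⟨a2, ha2⟩ : ∃ a : Matrix S6I S6I F, a = (t 2 : Matrix S6I S6I F) := ⟨_, rfl⟩
  obtain ⟨a3, ha3⟩ : ∃ a : Matrix S6I S6I F, a = (t 3 : Matrix S6I S6I F) := ⟨_, rfl⟩
  have s0 : a0 * a0 = 1 := by rw [ha0]; exact htsq 0
  have s1 : a1 * a1 = 1 := by rw [ha1]; exact htsq 1
  have s2 : a2 * a2 = 1 := by rw [ha2]; exact htsq 2
  have s3 : a3 * a3 = 1 := by rw [ha3]; exact htsq 3
  have r01 : a0 * a1 = -(a1 * a0) := by rw [ha0, ha1]; exact htanti 0 1 (by decide)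
  have r02 : a0 * a2 = -(a2 * a0) := by rw [ha0, ha2]; exact htanti 0 2 (by decide)
  have r03 : a0 * a3 = -(a3 * a0) := by rw [ha0, ha3]; exact htanti 0 3 (by decide)
  have r12 : a1 * a2 = -(a2 * a1) := by rw [ha1, ha2]; exact htanti 1 2 (by decide)
  have r13 : a1 * a3 = -(a3 * a1) := by rw [ha1, ha3]; exact htanti 1 3 (by decide)
  have r23 : a2 * a3 = -(a3 * a2) := by rw [ha2, ha3]; exact htanti 2 3 (by decide)
  have r10 : a1 * a0 = -(a0 * a1) := by rw [ha0, ha1]; exact htanti 1 0 (by decide)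
  have r20 : a2 * a0 = -(a0 * a2) := by rw [ha0, ha2]; exact htanti 2 0 (by decide)
  have r30 : a3 * a0 = -(a0 * a3) := by rw [ha0, ha3]; exact htanti 3 0 (by decide)
  have r21 : a2 * a1 = -(a1 * a2) := by rw [ha1, ha2]; exact htanti 2 1 (by decide)
  have r31 : a3 * a1 = -(a1 * a3) := by rw [ha1, ha3]; exact htanti 3 1 (by decide)
  have r32 : a3 * a2 = -(a2 * a3) := by rw [ha2, ha3]; exact htanti 3 2 (by decide)
  obtain ⟨s4, r40, r41, r42, r43⟩ := h1_a4 a0 a1 a2 a3 s0 s1 s2 s3 r10 r20 r30 r21 r31 r32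
  obtain ⟨a4, ha4⟩ : ∃ a : Matrix S6I S6I F, a = a0 * a1 * a2 * a3 := ⟨_, rfl⟩
  rw [← ha4] at s4 r40 r41 r42 r43
  have r04 : a0 * a4 = -(a4 * a0) := by rw [r40, neg_neg]
  have r14 : a1 * a4 = -(a4 * a1) := by rw [r41, neg_neg]
  have r24 : a2 * a4 = -(a4 * a2) := by rw [r42, neg_neg]
  have r34 : a3 * a4 = -(a4 * a3) := by rw [r43, neg_neg]
  -- the symplectic form
  have hSc : ∀ i, h1Sc (t i : Matrix S6I S6I F) 1 := by
    intro i x y
    rw [one_mul]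
    exact hG.sp (htR i) x y
  have c0 : h1Sc a0 1 := by rw [ha0]; exact hSc 0
  have c1 : h1Sc a1 1 := by rw [ha1]; exact hSc 1
  have c2 : h1Sc a2 1 := by rw [ha2]; exact hSc 2
  have c3 : h1Sc a3 1 := by rw [ha3]; exact hSc 3
  have c4 : h1Sc a4 1 := by
    rw [ha4]
    have h := h1Sc_mul (h1Sc_mul (h1Sc_mul c0 c1) c2) c3
    simp only [mul_one] at h
    exact h
  have cu1 : h1Sc (1 + a0 * a1) 2 := h1Sc_U c0 c1 s0 s1 r10
  have cu2 : h1Sc (1 + a1 * a2) 2 := h1Sc_U c1 c2 s1 s2 r21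
  have cu3 : h1Sc (1 + a2 * a3) 2 := h1Sc_U c2 c3 s2 s3 r32
  have cu4 : h1Sc (1 + a3 * a4) 2 := h1Sc_U c3 c4 s3 s4 r43
  have h4ne : (4 : F) ≠ 0 := by
    have e : (4 : F) = 2 * 2 := by norm_num
    rw [e]; exact mul_ne_zero h2 h2
  obtain ⟨P, hP⟩ : ∃ P : Matrix S6I S6I F,
      P = (1 + a0 * a1) * (1 + a1 * a2) * (1 + a2 * a3) * (1 + a3 * a4) := ⟨_, rfl⟩
  obtain ⟨g, hg⟩ : ∃ g : Matrix S6I S6I F, g = (4 : F)⁻¹ • P := ⟨_, rfl⟩
  have cg : h1Sc g 1 := by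
    have h := h1Sc_smul (4 : F)⁻¹ (h1Sc_mul (h1Sc_mul (h1Sc_mul cu1 cu2) cu3) cu4)
    rw [← hP, ← hg] at h
    have e : (4 : F)⁻¹ * (4 : F)⁻¹ * (2 * 2 * 2 * 2) = 1 := by
      field_simp
      norm_num
    rwa [e] at h
  -- conjugation relations
  have p0 : P * a0 = -a1 * P := by
    rw [hP]
    exact h1_pass4 _ _ _ _ a0 a0 a0 a0 (-a1)
      (h1_U_comm a3 a4 a0 (h1_anti2 a3 a4 a0 r03 r04))
      (h1_U_comm a2 a3 a0 (h1_anti2 a2 a3 a0 r02 r03))
      (h1_U_comm a1 a2 a0 (h1_anti2 a1 a2 a0 r01 r02))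
      (h1_U_conj_left a0 a1 s0 s1 r01)
  have p1 : P * a1 = -a2 * P := by
    rw [hP]
    exact h1_pass4 _ _ _ _ a1 a1 a1 (-a2) (-a2)
      (h1_U_comm a3 a4 a1 (h1_anti2 a3 a4 a1 r13 r14))
      (h1_U_comm a2 a3 a1 (h1_anti2 a2 a3 a1 r12 r13))
      (h1_U_conj_left a1 a2 s1 s2 r12)
      (h1_neg_pass _ _ _ (h1_U_comm a0 a1 a2 (h1_anti2 a0 a1 a2 r20 r21)))
  have p2 : P * a2 = -a3 * P := by
    rw [hP]
    exact h1_pass4 _ _ _ _ a2 a2 (-a3) (-a3) (-a3)
      (h1_U_comm a3 a4 a2 (h1_anti2 a3 a4 a2 r23 r24))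
      (h1_U_conj_left a2 a3 s2 s3 r23)
      (h1_neg_pass _ _ _ (h1_U_comm a1 a2 a3 (h1_anti2 a1 a2 a3 r31 r32)))
      (h1_neg_pass _ _ _ (h1_U_comm a0 a1 a3 (h1_anti2 a0 a1 a3 r30 r31)))
  have p3 : P * a3 = -a4 * P := by
    rw [hP]
    exact h1_pass4 _ _ _ _ a3 (-a4) (-a4) (-a4) (-a4)
      (h1_U_conj_left a3 a4 s3 s4 r34)
      (h1_neg_pass _ _ _ (h1_U_comm a2 a3 a4 (h1_anti2 a2 a3 a4 r42 r43)))
      (h1_neg_pass _ _ _ (h1_U_comm a1 a2 a4 (h1_anti2 a1 a2 a4 r41 r42)))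
      (h1_neg_pass _ _ _ (h1_U_comm a0 a1 a4 (h1_anti2 a0 a1 a4 r40 r41)))
  have p4 : P * a4 = a0 * P := by
    rw [hP]
    exact h1_pass4 _ _ _ _ a4 a3 a2 a1 a0
      (h1_U_conj_right a3 a4 s3 s4)
      (h1_U_conj_right a2 a3 s2 s3)
      (h1_U_conj_right a1 a2 s1 s2)
      (h1_U_conj_right a0 a1 s0 s1)
  have gpass : ∀ x y : Matrix S6I S6I F, P * x = y * P → g * x = y * g := by
    intro x y h
    rw [hg, smul_mul_assoc, h, mul_smul_comm]
  have g0 : g * a0 = -a1 * g := gpass _ _ p0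
  have g1 : g * a1 = -a2 * g := gpass _ _ p1
  have g2 : g * a2 = -a3 * g := gpass _ _ p2
  have g3 : g * a3 = -a4 * g := gpass _ _ p3
  have g4 : g * a4 = a0 * g := gpass _ _ p4
  have g0n : g * (-a0) = a1 * g := by
    have h := h1_neg_pass g a0 (-a1) g0
    rwa [neg_neg] at h
  have g1n : g * (-a1) = a2 * g := by
    have h := h1_neg_pass g a1 (-a2) g1
    rwa [neg_neg] at h
  have g2n : g * (-a2) = a3 * g := by
    have h := h1_neg_pass g a2 (-a3) g2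
    rwa [neg_neg] at h
  have g3n : g * (-a3) = a4 * g := by
    have h := h1_neg_pass g a3 (-a4) g3
    rwa [neg_neg] at h
  have g4n : g * (-a4) = -a0 * g := h1_neg_pass g a4 a0 g4
  have q0 : g ^ 5 * a0 = a0 * g ^ 5 := h1_pass5 g a0 (-a1) a2 (-a3) a4 a0 g0 g1n g2 g3n g4
  have q1 : g ^ 5 * a1 = a1 * g ^ 5 := h1_pass5 g a1 (-a2) a3 (-a4) (-a0) a1 g1 g2n g3 g4n g0n
  have q2 : g ^ 5 * a2 = a2 * g ^ 5 := h1_pass5 g a2 (-a3) a4 a0 (-a1) a2 g2 g3n g4 g0 g1n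
  have q3 : g ^ 5 * a3 = a3 * g ^ 5 := h1_pass5 g a3 (-a4) (-a0) a1 (-a2) a3 g3 g4n g0n g1 g2n
  -- Schur
  obtain ⟨c, hc⟩ := hG.schur (g ^ 5) (by
    intro s hs
    obtain ⟨a, ε, hsa⟩ := htgen s hs
    rw [hsa, ← ha0, ← ha1, ← ha2, ← ha3]
    have f0 : (if a 0 then a0 else 1) * g ^ 5 = g ^ 5 * (if a 0 then a0 else 1) := by
      split_ifs
      · exact q0.symm
      · rw [mul_one, one_mul]
    have f1 : (if a 1 then a1 else 1) * g ^ 5 = g ^ 5 * (if a 1 then a1 else 1) := by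
      split_ifs
      · exact q1.symm
      · rw [mul_one, one_mul]
    have f2 : (if a 2 then a2 else 1) * g ^ 5 = g ^ 5 * (if a 2 then a2 else 1) := by
      split_ifs
      · exact q2.symm
      · rw [mul_one, one_mul]
    have f3 : (if a 3 then a3 else 1) * g ^ 5 = g ^ 5 * (if a 3 then a3 else 1) := by
      split_ifs
      · exact q3.symm
      · rw [mul_one, one_mul]
    have h := h1_pass4 _ _ _ _ (g ^ 5) (g ^ 5) (g ^ 5) (g ^ 5) (g ^ 5) f3 f2 f1 f0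
    rw [mul_smul_comm, smul_mul_assoc, h])
  -- c * c = 1
  have hcc : c * c = 1 := by
    have e5 : g ^ 5 = g * g * g * g * g := by
      rw [pow_succ, pow_succ, pow_succ, pow_succ, pow_one]
    have cg5 : h1Sc (g ^ 5) 1 := by
      rw [e5]
      have h := h1Sc_mul (h1Sc_mul (h1Sc_mul (h1Sc_mul cg cg) cg) cg) cg
      simp only [mul_one] at h
      exact h
    have h := cg5 (Pi.single (Sum.inr 0) 1) (Pi.single (Sum.inl 0) 1)
    rw [hc, Matrix.smul_mulVec, Matrix.smul_mulVec, Matrix.one_mulVec, Matrix.one_mulVec,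
      Cfsg.Agent.Lib.helper17.sympForm_smul_left, Cfsg.Agent.Lib.helper17.sympForm_smul_right,
      Cfsg.Agent.Lib.helper17.sympForm_single_inr_left, Pi.single_eq_same] at h
    simp only [mul_one] at h
    exact h
  -- the inverse of g
  obtain ⟨Q, hQ⟩ : ∃ Q : Matrix S6I S6I F,
      Q = (1 - a3 * a4) * ((1 - a2 * a3) * ((1 - a1 * a2) * (1 - a0 * a1))) := ⟨_, rfl⟩
  have hPQ : P * Q = ((2 : F) * (2 * (2 * 2))) • (1 : Matrix S6I S6I F) := by
    rw [hP, hQ]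
    have k1 := h1_U_inv a0 a1 s0 s1 r10
    have k2 := h1_peel _ _ _ _ _ _ (h1_U_inv a1 a2 s1 s2 r21) k1
    have k3 := h1_peel _ _ _ _ _ _ (h1_U_inv a2 a3 s2 s3 r32) k2
    exact h1_peel _ _ _ _ _ _ (h1_U_inv a3 a4 s3 s4 r43) k3
  obtain ⟨gi, hgi⟩ : ∃ gi : Matrix S6I S6I F, gi = (4 : F)⁻¹ • Q := ⟨_, rfl⟩
  have hgg : g * gi = 1 := by
    rw [hg, hgi, smul_mul_smul_comm, hPQ, smul_smul]
    have e : (4 : F)⁻¹ * (4 : F)⁻¹ * (2 * (2 * (2 * 2))) = 1 := by
      field_simp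
      norm_num
    rw [e, one_smul]
  have hgg' : gi * g = 1 := _root_.mul_eq_one_comm.mp hgg
  let h : GL S6I F := ⟨g * g, gi * gi,
    by rw [mul_assoc, ← mul_assoc g gi gi, hgg, one_mul, hgg],
    by rw [mul_assoc, ← mul_assoc gi g g, hgg', one_mul, hgg']⟩
  have hval : (h : Matrix S6I S6I F) = g * g := rfl
  -- h ^ 5 = 1
  have h5 : h ^ 5 = 1 := by
    apply Units.ext
    rw [Units.val_pow_eq_pow_val, hval, Units.val_one, ← pow_two, ← pow_mul]
    have e : g ^ (2 * 5) = g ^ 5 * g ^ 5 := by rw [← pow_add]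
    rw [e, hc, smul_mul_smul_comm, hcc, one_smul, one_mul]
  -- relations for h
  have H0 : (g * g) * a0 = a2 * (g * g) := by rw [mul_assoc, g0, ← mul_assoc, g1n, mul_assoc]
  have H1 : (g * g) * a1 = a3 * (g * g) := by rw [mul_assoc, g1, ← mul_assoc, g2n, mul_assoc]
  have H2 : (g * g) * a2 = a4 * (g * g) := by rw [mul_assoc, g2, ← mul_assoc, g3n, mul_assoc]
  have H3 : (g * g) * a3 = -a0 * (g * g) := by rw [mul_assoc, g3, ← mul_assoc, g4n, mul_assoc]
  have t4R : t 0 * t 1 * t 2 * t 3 ∈ R :=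
    R.mul_mem (R.mul_mem (R.mul_mem (htR 0) (htR 1)) (htR 2)) (htR 3)
  have fwd0 : h * t 0 * h⁻¹ ∈ R := by
    have e : h * t 0 = t 2 * h := by
      apply Units.ext
      rw [Units.val_mul, Units.val_mul, hval, ← ha0, ← ha2]
      exact H0
    rw [e, mul_inv_cancel_right]
    exact htR 2
  have fwd1 : h * t 1 * h⁻¹ ∈ R := by
    have e : h * t 1 = t 3 * h := by
      apply Units.ext
      rw [Units.val_mul, Units.val_mul, hval, ← ha1, ← ha3]
      exact H1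
    rw [e, mul_inv_cancel_right]
    exact htR 3
  have fwd2 : h * t 2 * h⁻¹ ∈ R := by
    have e : h * t 2 = (t 0 * t 1 * t 2 * t 3) * h := by
      apply Units.ext
      rw [Units.val_mul, Units.val_mul, Units.val_mul, Units.val_mul, Units.val_mul, hval,
        ← ha0, ← ha1, ← ha2, ← ha3, ← ha4]
      exact H2
    rw [e, mul_inv_cancel_right]
    exact t4R
  have fwd3 : h * t 3 * h⁻¹ ∈ R := by
    have e : h * t 3 = (z * t 0) * h := by
      apply Units.ext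
      rw [Units.val_mul, Units.val_mul, Units.val_mul, hval, hz, ← ha0, ← ha3, neg_one_mul]
      exact H3
    rw [e, mul_inv_cancel_right]
    exact R.mul_mem hzR (htR 0)
  have fwdz : h * z * h⁻¹ ∈ R := by
    have e : h * z = z * h := by
      apply Units.ext
      rw [Units.val_mul, Units.val_mul, hz, mul_neg, mul_one, neg_one_mul]
    rw [e, mul_inv_cancel_right]
    exact hzR
  have fwd : ∀ s ∈ R, h * s * h⁻¹ ∈ R := by
    intro s hs
    obtain ⟨a, ε, hsa⟩ := htgen s hs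
    have hmem : ∀ x : GL S6I F, x ∈ R.comap (MulAut.conj h).toMonoidHom ↔ h * x * h⁻¹ ∈ R := by
      intro x
      rw [Subgroup.mem_comap]
      rfl
    have e : s = (if ε then z else 1) * ((if a 0 then t 0 else 1) * (if a 1 then t 1 else 1) *
        (if a 2 then t 2 else 1) * (if a 3 then t 3 else 1)) := by
      apply Units.ext
      rw [hsa, Units.val_mul, Units.val_mul, Units.val_mul, Units.val_mul]
      have e1 : ((if ε then z else 1 : GL S6I F) : Matrix S6I S6I F) =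
          (if ε then (-1 : F) else 1) • (1 : Matrix S6I S6I F) := by
        split_ifs
        · rw [hz, neg_one_smul]
        · rw [Units.val_one, one_smul]
      have e2 : ∀ i, ((if a i then t i else 1 : GL S6I F) : Matrix S6I S6I F) =
          if a i then (t i : Matrix S6I S6I F) else 1 := by
        intro i
        split_ifs
        · rfl
        · rfl
      rw [e1, e2 0, e2 1, e2 2, e2 3, smul_mul_assoc, one_mul]
    rw [← hmem, e]
    have m0 : ∀ i, (if a i then t i else 1 : GL S6I F) ∈ R.comap (MulAut.conj h).toMonoidHom := by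
      intro i
      split_ifs
      · rw [hmem]
        fin_cases i
        · exact fwd0
        · exact fwd1
        · exact fwd2
        · exact fwd3
      · exact Subgroup.one_mem _
    have mz : (if ε then z else 1 : GL S6I F) ∈ R.comap (MulAut.conj h).toMonoidHom := by
      split_ifs
      · rw [hmem]; exact fwdz
      · exact Subgroup.one_mem _
    exact Subgroup.mul_mem _ mz (Subgroup.mul_mem _ (Subgroup.mul_mem _ (Subgroup.mul_mem _
      (m0 0) (m0 1)) (m0 2)) (m0 3))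
  refine ⟨h, ?_, ?_, h5, ?_⟩
  · -- symplectic
    have key : h ∈ spGL 2 F ↔ ∀ u v, sympForm 2 F ((h : Matrix S6I S6I F) *ᵥ u)
        ((h : Matrix S6I S6I F) *ᵥ v) = sympForm 2 F u v := Iff.rfl
    rw [key, hval]
    intro u v
    have e := h1Sc_mul cg cg u v
    rw [one_mul, one_mul] at e
    exact e
  · -- normalizer
    show h ∈ Subgroup.normalizer (R : Set (GL S6I F))
    rw [Subgroup.mem_normalizer_iff]
    intro s
    constructor
    · exact fwd s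
    · intro hs
      rw [← h1_conj5 h s h5]
      exact fwd _ (fwd _ (fwd _ (fwd _ hs)))
  · -- h ≠ 1
    intro h1
    have e1 : g * g = 1 := by
      rw [← hval, h1, Units.val_one]
    rw [e1, one_mul, mul_one] at H0
    -- a0 = a2
    have e2 := r02
    rw [H0, s2] at e2
    have e3 := congrFun (congrFun e2 (Sum.inl 0)) (Sum.inl 0)
    rw [Matrix.neg_apply, Matrix.one_apply_eq] at e3
    apply h2
    have e4 : (2 : F) = 1 + 1 := by norm_num
    rw [e4]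
    nth_rewrite 1 [e3]
    ring

end Cfsg.Agent.Lib.helper24
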