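import Mathlib
import Cfsg.Agent.Lib.helper24.S6eDefs

/-! S6002 piece B5F (helper1): if `q` has order 4 modulo 5, a `4 × 4` matrix `c ≠ 1` with `c ^ 5 = 1`
has no eigenvalue 1 (count the fixed vectors of the 5-group `⟨c⟩` modulo 5). -/

set_option autoImplicit false

namespace Cfsg.Agent.Lib.helper24

open Matrix Cfsg Cfsg.Geo

theorem s6_five_no_fix {F : Type*} [Field F] [Fintype F]
    (h4 : orderOf ((Fintype.card F : ℕ) : ZMod 5) = 4) (c : Matrix S6I S6I F) (hc : c ^ 5 = 1) (hc1 : c ≠ 1) :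
    (c - 1).det ≠ 0 := by
  classical
  intro hdet
  have : Fact (Nat.Prime 5) := ⟨by norm_num⟩
  obtain ⟨T, hT⟩ : ∃ T : Module.End F (S6I → F), T = Matrix.toLinAlgEquiv' c := ⟨_, rfl⟩
  have hTv : ∀ v, T v = c *ᵥ v := by
    intro v; rw [hT]; rfl
  have hT5 : T ^ 5 = 1 := by rw [hT, ← map_pow, hc, map_one]
  let u : (Module.End F (S6I → F))ˣ :=
    ⟨T, T ^ 4, by rw [← pow_succ', hT5], by rw [← pow_succ, hT5]⟩
  have hu : ∀ v : S6I → F, u • v = T v := fun v => rfl
  have hu5 : u ^ 5 = 1 := Units.ext (by simpa using hT5)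
  have hG : IsPGroup 5 ↥(Subgroup.zpowers u) := by
    intro g
    refine ⟨1, ?_⟩
    obtain ⟨z, hz⟩ := Subgroup.mem_zpowers_iff.mp g.2
    apply Subtype.ext
    rw [pow_one, Subgroup.coe_pow, ← hz, ← zpow_natCast, ← _root_.zpow_mul, mul_comm,
      _root_.zpow_mul, zpow_natCast, hu5, _root_.one_zpow]
    rfl
  have hmod := hG.card_modEq_card_fixedPoints (S6I → F)
  -- the fixed points are the kernel of `T - 1`
  have hfix : (MulAction.fixedPoints ↥(Subgroup.zpowers u) (S6I → F)) =
      ((LinearMap.ker (T - 1) : Submodule F (S6I → F)) : Set (S6I → F)) := by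
    ext v
    rw [MulAction.mem_fixedPoints, SetLike.mem_coe, LinearMap.mem_ker, LinearMap.sub_apply,
      Module.End.one_apply, sub_eq_zero]
    constructor
    · intro h
      have := h ⟨u, Subgroup.mem_zpowers u⟩
      exact this
    · intro h g
      have hle : Subgroup.zpowers u ≤ MulAction.stabilizer (Module.End F (S6I → F))ˣ v := by
        rw [Subgroup.zpowers_le]
        exact MulAction.mem_stabilizer_iff.mpr h
      exact MulAction.mem_stabilizer_iff.mp (hle g.2)
  have hcardfix : Nat.card (MulAction.fixedPoints ↥(Subgroup.zpowers u) (S6I → F)) =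
      Fintype.card F ^ Module.finrank F (LinearMap.ker (T - 1)) := by
    rw [hfix]
    have := Module.natCard_eq_pow_finrank (K := F) (V := LinearMap.ker (T - 1))
    rw [Nat.card_eq_fintype_card (α := F)] at this
    exact this
  have hcardV : Nat.card (S6I → F) = Fintype.card F ^ 4 := by
    have := Module.natCard_eq_pow_finrank (K := F) (V := S6I → F)
    rw [Nat.card_eq_fintype_card (α := F), Module.finrank_fintype_fun_eq_card] at this
    rw [this]
    rfl
  rw [hcardfix, hcardV] at hmod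
  obtain ⟨k, hk⟩ : ∃ k, k = Module.finrank F (LinearMap.ker (T - 1)) := ⟨_, rfl⟩
  rw [← hk] at hmod
  have hk4 : k ≤ 4 := by
    rw [hk]
    have := Submodule.finrank_le (LinearMap.ker (T - 1))
    rw [Module.finrank_fintype_fun_eq_card] at this
    exact this
  have hzmod : ((Fintype.card F : ℕ) : ZMod 5) ^ 4 = ((Fintype.card F : ℕ) : ZMod 5) ^ k := by
    have := (ZMod.natCast_eq_natCast_iff _ _ 5).mpr hmod
    push_cast at this
    exact this
  have h41 : ((Fintype.card F : ℕ) : ZMod 5) ^ 4 = 1 := by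
    rw [← h4]; exact pow_orderOf_eq_one _
  rw [h41] at hzmod
  have hdvd : 4 ∣ k := by
    rw [← h4]; exact orderOf_dvd_of_pow_eq_one hzmod.symm
  -- a fixed vector
  obtain ⟨v, hv0, hv⟩ := Matrix.exists_mulVec_eq_zero_iff.mpr hdet
  have hvker : v ∈ LinearMap.ker (T - 1) := by
    rw [LinearMap.mem_ker, LinearMap.sub_apply, Module.End.one_apply, hTv]
    rw [Matrix.sub_mulVec, Matrix.one_mulVec] at hv
    exact hv
  have hkpos : 0 < k := by
    rw [hk]
    apply Module.finrank_pos_iff.mpr
    exact ⟨⟨⟨v, hvker⟩, 0, fun h => hv0 (congrArg Subtype.val h)⟩⟩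
  have hk44 : k = 4 := by
    obtain ⟨j, hj⟩ := hdvd
    omega
  have htop : LinearMap.ker (T - 1) = ⊤ := by
    apply Submodule.eq_top_of_finrank_eq
    rw [← hk, hk44, Module.finrank_fintype_fun_eq_card]
    rfl
  apply hc1
  have hT1 : T = 1 := by
    apply LinearMap.ext
    intro w
    have hw : w ∈ LinearMap.ker (T - 1) := by rw [htop]; trivial
    rw [LinearMap.mem_ker, LinearMap.sub_apply, sub_eq_zero] at hw
    exact hw
  apply (Matrix.toLinAlgEquiv' (R := F) (n := S6I)).injective
  rw [← hT, hT1, map_one]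

end Cfsg.Agent.Lib.helper24
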