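import Mathlib
import Cfsg.Agent.Lib.helper9.Srg77Defs

/-!
Piece H3 of the S0429 split (uniqueness of the strongly regular graph (77,16,0,4)):
two distinct 21-cocliques meet in a line, three distinct ones in exactly one vertex.
-/

set_option autoImplicit false

namespace Cfsg.Agent.Lib.helper1

open Finset Cfsg.Agent.Lib.helper9

variable {V : Type*} [Fintype V] [DecidableEq V] {G : SimpleGraph V} [DecidableRel G.Adj]

/-- A line is the line through any two of its points. -/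
theorem s77_line_eq
    (hL : ∀ x y a b : V, x ≠ y → ¬ G.Adj x y → a ∈ line G x y → b ∈ line G x y → a ≠ b →
      ¬ G.Adj a b ∧ line G a b = line G x y)
    {L : Finset V} (hLine : IsLine G L) {a b : V} (ha : a ∈ L) (hb : b ∈ L) (hab : a ≠ b) :
    ¬ G.Adj a b ∧ line G a b = L := by
  obtain ⟨x, y, hxy, hadj, rfl⟩ := hLine
  exact hL x y a b hxy hadj ha hb hab

/-- A line has five points. -/
theorem s77_line_card
    (hcl : ∀ x y : V, x ≠ y → ¬ G.Adj x y → (line G x y).card = 5)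
    {L : Finset V} (hLine : IsLine G L) : L.card = 5 := by
  obtain ⟨x, y, hxy, hadj, rfl⟩ := hLine
  exact hcl x y hxy hadj

/-- The five lines joining a vertex `u` to the points of a line `L` (with `u` off `L` and not
adjacent to any point of `L`) are pairwise disjoint outside `u`. -/
theorem s77_star_disjoint
    (hL : ∀ x y a b : V, x ≠ y → ¬ G.Adj x y → a ∈ line G x y → b ∈ line G x y → a ≠ b →
      ¬ G.Adj a b ∧ line G a b = line G x y)
    {L : Finset V} (hLine : IsLine G L) {u : V} (hu : u ∉ L)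
    (hnear : ∀ p ∈ L, ¬ G.Adj u p) :
    ∀ p ∈ L, ∀ p' ∈ L, p ≠ p' →
      Disjoint ((line G u p).erase u) ((line G u p').erase u) := by
  intro p hp p' hp' hpp'
  rw [Finset.disjoint_left]
  intro w hw hw'
  rw [Finset.mem_erase] at hw hw'
  have hup : u ≠ p := fun h => hu (h ▸ hp)
  have hup' : u ≠ p' := fun h => hu (h ▸ hp')
  have e1 := (hL u p u w hup (hnear p hp) (left_mem_line u p) hw.2 (Ne.symm hw.1)).2
  have e2 := (hL u p' u w hup' (hnear p' hp') (left_mem_line u p') hw'.2 (Ne.symm hw'.1)).2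
  have e3 : line G u p = line G u p' := e1.symm.trans e2
  have hp'mem : p' ∈ line G u p := by
    rw [e3]
    exact right_mem_line u p'
  have e4 := (hL u p p p' hup (hnear p hp) (right_mem_line u p) hp'mem hpp').2
  have e5 := (s77_line_eq hL hLine hp hp' hpp').2
  apply hu
  rw [← e5, e4]
  exact left_mem_line u p

/-- The star of `u` over a line `L` has `20` points besides `u`. -/
theorem s77_star_card
    (hcl : ∀ x y : V, x ≠ y → ¬ G.Adj x y → (line G x y).card = 5)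
    (hL : ∀ x y a b : V, x ≠ y → ¬ G.Adj x y → a ∈ line G x y → b ∈ line G x y → a ≠ b →
      ¬ G.Adj a b ∧ line G a b = line G x y)
    {L : Finset V} (hLine : IsLine G L) {u : V} (hu : u ∉ L)
    (hnear : ∀ p ∈ L, ¬ G.Adj u p) :
    (L.biUnion (fun p => (line G u p).erase u)).card = 20 := by
  rw [Finset.card_biUnion (s77_star_disjoint hL hLine hu hnear)]
  have h4 : ∀ p ∈ L, ((line G u p).erase u).card = 4 := by
    intro p hp
    have hup : u ≠ p := fun h => hu (h ▸ hp)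
    rw [Finset.card_erase_of_mem (left_mem_line u p), hcl u p hup (hnear p hp)]
  rw [Finset.sum_congr rfl h4, Finset.sum_const, s77_line_card hcl hLine]
  rfl

/-- LEMMA K: two 21-cocliques sharing two points `a ≠ b` and a point off `line a b` are
equal. -/
theorem s77_lemmaK
    (hcl : ∀ x y : V, x ≠ y → ¬ G.Adj x y → (line G x y).card = 5)
    (hL : ∀ x y a b : V, x ≠ y → ¬ G.Adj x y → a ∈ line G x y → b ∈ line G x y → a ≠ b →
      ¬ G.Adj a b ∧ line G a b = line G x y)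
    (hG2 : ∀ C : Finset V, C ∈ cocl G → ∀ x c : V, x ∈ C → c ∈ C → x ≠ c → line G x c ⊆ C)
    {C C' : Finset V} (hC : C ∈ cocl G) (hC' : C' ∈ cocl G) {a b u : V}
    (ha : a ∈ C ∩ C') (hb : b ∈ C ∩ C') (hab : a ≠ b) (hu : u ∈ C ∩ C')
    (hul : u ∉ line G a b) : C = C' := by
  rw [Finset.mem_inter] at ha hb hu
  have hCc := (mem_cocl.1 hC)
  have hCc' := (mem_cocl.1 hC')
  have hnab : ¬ G.Adj a b := hCc.1 a ha.1 b hb.1
  have hLine : IsLine G (line G a b) := ⟨a, b, hab, hnab, rfl⟩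
  have hLC : line G a b ⊆ C := hG2 C hC a b ha.1 hb.1 hab
  have hLC' : line G a b ⊆ C' := hG2 C' hC' a b ha.2 hb.2 hab
  have hnear : ∀ p ∈ line G a b, ¬ G.Adj u p := fun p hp => hCc.1 u hu.1 p (hLC hp)
  have h20 := s77_star_card hcl hL hLine hul hnear
  have hsub : (line G a b).biUnion (fun p => (line G u p).erase u) ⊆ (C ∩ C').erase u := by
    intro w hw
    rw [Finset.mem_biUnion] at hw
    obtain ⟨p, hp, hw⟩ := hw
    rw [Finset.mem_erase] at hw ⊢
    have hup : u ≠ p := fun h => hul (h ▸ hp)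
    refine ⟨hw.1, Finset.mem_inter.2 ⟨?_, ?_⟩⟩
    · exact hG2 C hC u p hu.1 (hLC hp) hup hw.2
    · exact hG2 C' hC' u p hu.2 (hLC' hp) hup hw.2
  have hle := Finset.card_le_card hsub
  rw [h20, Finset.card_erase_of_mem (Finset.mem_inter.2 hu)] at hle
  have h21 : 21 ≤ (C ∩ C').card := by omega
  have e1 : C ∩ C' = C := Finset.eq_of_subset_of_card_le Finset.inter_subset_left (by rw [hCc.2]; exact h21)
  have e2 : C ∩ C' = C' := Finset.eq_of_subset_of_card_le Finset.inter_subset_right (by rw [hCc'.2]; exact h21)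
  exact e1.symm.trans e2

/-- Two distinct 21-cocliques with two common points meet exactly in the line through them. -/
theorem s77_inter_eq_line
    (hcl : ∀ x y : V, x ≠ y → ¬ G.Adj x y → (line G x y).card = 5)
    (hL : ∀ x y a b : V, x ≠ y → ¬ G.Adj x y → a ∈ line G x y → b ∈ line G x y → a ≠ b →
      ¬ G.Adj a b ∧ line G a b = line G x y)
    (hG2 : ∀ C : Finset V, C ∈ cocl G → ∀ x c : V, x ∈ C → c ∈ C → x ≠ c → line G x c ⊆ C)
    {C C' : Finset V} (hC : C ∈ cocl G) (hC' : C' ∈ cocl G) (hne : C ≠ C') {a b : V}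
    (ha : a ∈ C ∩ C') (hb : b ∈ C ∩ C') (hab : a ≠ b) : C ∩ C' = line G a b := by
  apply Finset.Subset.antisymm
  · intro u hu
    by_contra hul
    exact hne (s77_lemmaK hcl hL hG2 hC hC' ha hb hab hu hul)
  · rw [Finset.mem_inter] at ha hb
    exact Finset.subset_inter (hG2 C hC a b ha.1 hb.1 hab) (hG2 C' hC' a b ha.2 hb.2 hab)

/-- Two distinct 21-cocliques meet in at most five points. -/
theorem s77_inter_card_le
    (hcl : ∀ x y : V, x ≠ y → ¬ G.Adj x y → (line G x y).card = 5)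
    (hL : ∀ x y a b : V, x ≠ y → ¬ G.Adj x y → a ∈ line G x y → b ∈ line G x y → a ≠ b →
      ¬ G.Adj a b ∧ line G a b = line G x y)
    (hG2 : ∀ C : Finset V, C ∈ cocl G → ∀ x c : V, x ∈ C → c ∈ C → x ≠ c → line G x c ⊆ C)
    {C C' : Finset V} (hC : C ∈ cocl G) (hC' : C' ∈ cocl G) (hne : C ≠ C') :
    (C ∩ C').card ≤ 5 := by
  by_cases h1 : (C ∩ C').card ≤ 1
  · omega
  · have h2 : 1 < (C ∩ C').card := by omega
    obtain ⟨a, ha, b, hb, hab⟩ := Finset.one_lt_card.1 h2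
    have hnab : ¬ G.Adj a b :=
      (mem_cocl.1 hC).1 a (Finset.mem_inter.1 ha).1 b (Finset.mem_inter.1 hb).1
    rw [s77_inter_eq_line hcl hL hG2 hC hC' hne ha hb hab, hcl a b hab hnab]

theorem cocl_inter_isLine
    (hcl : ∀ x y : V, x ≠ y → ¬ G.Adj x y → (line G x y).card = 5)
    (hL : ∀ x y a b : V, x ≠ y → ¬ G.Adj x y → a ∈ line G x y → b ∈ line G x y → a ≠ b →
      ¬ G.Adj a b ∧ line G a b = line G x y)
    (hG2 : ∀ C : Finset V, C ∈ cocl G → ∀ x c : V, x ∈ C → c ∈ C → x ≠ c → line G x c ⊆ C)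
    (hH2 : ∀ x : V, ((cocl G).filter (fun C => x ∈ C)).card = 6)
    (hcard : (cocl G).card = 22)
    {C C' : Finset V} (hC : C ∈ cocl G) (hC' : C' ∈ cocl G) (hne : C ≠ C') :
    IsLine G (C ∩ C') := by
  -- the counting
  have hsum : ∑ D ∈ (cocl G).erase C, (C ∩ D).card = 105 := by
    have e1 : ∀ D ∈ (cocl G).erase C, (C ∩ D).card = ∑ x ∈ C, if x ∈ D then 1 else 0 := by
      intro D _
      rw [← Finset.card_filter]
      congr 1
    rw [Finset.sum_congr rfl e1, Finset.sum_comm]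
    have e2 : ∀ x ∈ C, (∑ D ∈ (cocl G).erase C, if x ∈ D then 1 else 0) = 5 := by
      intro x hx
      rw [← Finset.card_filter]
      have e3 : ((cocl G).erase C).filter (fun D => x ∈ D)
          = ((cocl G).filter (fun D => x ∈ D)).erase C := by
        ext D
        simp only [Finset.mem_filter, Finset.mem_erase]
        tauto
      rw [e3, Finset.card_erase_of_mem (Finset.mem_filter.2 ⟨hC, hx⟩), hH2 x]
    rw [Finset.sum_congr rfl e2, Finset.sum_const, (mem_cocl.1 hC).2]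
    rfl
  have hcardE : ((cocl G).erase C).card = 21 := by
    rw [Finset.card_erase_of_mem hC, hcard]
  have hle : ∀ D ∈ (cocl G).erase C, (C ∩ D).card ≤ 5 := by
    intro D hD
    rw [Finset.mem_erase] at hD
    exact s77_inter_card_le hcl hL hG2 hC hD.2 (Ne.symm hD.1)
  have h5 : (C ∩ C').card = 5 := by
    by_contra hlt
    have hC'mem : C' ∈ (cocl G).erase C := Finset.mem_erase.2 ⟨Ne.symm hne, hC'⟩
    have hlt' : (C ∩ C').card < 5 := lt_of_le_of_ne (hle C' hC'mem) hlt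
    have := Finset.sum_lt_sum hle ⟨C', hC'mem, hlt'⟩
    rw [hsum, Finset.sum_const, hcardE] at this
    exact absurd this (by decide)
  have h2 : 1 < (C ∩ C').card := by omega
  obtain ⟨a, ha, b, hb, hab⟩ := Finset.one_lt_card.1 h2
  have hnab : ¬ G.Adj a b :=
    (mem_cocl.1 hC).1 a (Finset.mem_inter.1 ha).1 b (Finset.mem_inter.1 hb).1
  exact ⟨a, b, hab, hnab, s77_inter_eq_line hcl hL hG2 hC hC' hne ha hb hab⟩

theorem cocl_inter_three
    (hcl : ∀ x y : V, x ≠ y → ¬ G.Adj x y → (line G x y).card = 5)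
    (hL : ∀ x y a b : V, x ≠ y → ¬ G.Adj x y → a ∈ line G x y → b ∈ line G x y → a ≠ b →
      ¬ G.Adj a b ∧ line G a b = line G x y)
    (hG2 : ∀ C : Finset V, C ∈ cocl G → ∀ x c : V, x ∈ C → c ∈ C → x ≠ c → line G x c ⊆ C)
    (hH1 : ∀ L : Finset V, IsLine G L → ((cocl G).filter (fun C => L ⊆ C)).card = 2)
    (hI : ∀ C C' : Finset V, C ∈ cocl G → C' ∈ cocl G → C ≠ C' → IsLine G (C ∩ C'))
    {C₁ C₂ C₃ : Finset V} (h₁ : C₁ ∈ cocl G) (h₂ : C₂ ∈ cocl G) (h₃ : C₃ ∈ cocl G)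
    (h₁₂ : C₁ ≠ C₂) (h₁₃ : C₁ ≠ C₃) (h₂₃ : C₂ ≠ C₃) : (C₁ ∩ C₂ ∩ C₃).card = 1 := by
  have hL2 : IsLine G (C₁ ∩ C₂) := hI C₁ C₂ h₁ h₂ h₁₂
  have hL3 : IsLine G (C₁ ∩ C₃) := hI C₁ C₃ h₁ h₃ h₁₃
  have hc2 := s77_line_card hcl hL2
  have hc3 := s77_line_card hcl hL3
  have hC1 := mem_cocl.1 h₁
  -- the two lines are different
  have hne : C₁ ∩ C₂ ≠ C₁ ∩ C₃ := by
    intro he
    have hsub : ({C₁, C₂, C₃} : Finset (Finset V)) ⊆ (cocl G).filter (fun C => C₁ ∩ C₂ ⊆ C) := by
      intro D hD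
      rw [Finset.mem_insert, Finset.mem_insert, Finset.mem_singleton] at hD
      rw [Finset.mem_filter]
      rcases hD with rfl | rfl | rfl
      · exact ⟨h₁, Finset.inter_subset_left⟩
      · exact ⟨h₂, Finset.inter_subset_right⟩
      · exact ⟨h₃, he ▸ Finset.inter_subset_right⟩
    have h3 : ({C₁, C₂, C₃} : Finset (Finset V)).card = 3 := by
      rw [Finset.card_insert_of_notMem, Finset.card_insert_of_notMem, Finset.card_singleton]
      · rw [Finset.mem_singleton]; exact h₂₃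
      · rw [Finset.mem_insert, Finset.mem_singleton]
        rintro (h | h)
        · exact h₁₂ h
        · exact h₁₃ h
    have := Finset.card_le_card hsub
    rw [h3, hH1 _ hL2] at this
    omega
  have heq : C₁ ∩ C₂ ∩ C₃ = (C₁ ∩ C₂) ∩ (C₁ ∩ C₃) := by
    ext x
    simp only [Finset.mem_inter]
    tauto
  rw [heq]
  -- at most one common point
  have hle : ((C₁ ∩ C₂) ∩ (C₁ ∩ C₃)).card ≤ 1 := by
    by_contra hgt
    have h2 : 1 < ((C₁ ∩ C₂) ∩ (C₁ ∩ C₃)).card := by omega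
    obtain ⟨a, ha, b, hb, hab⟩ := Finset.one_lt_card.1 h2
    rw [Finset.mem_inter] at ha hb
    have e2 := (s77_line_eq hL hL2 ha.1 hb.1 hab).2
    have e3 := (s77_line_eq hL hL3 ha.2 hb.2 hab).2
    exact hne (e2.symm.trans e3)
  -- at least one common point
  have hge : 1 ≤ ((C₁ ∩ C₂) ∩ (C₁ ∩ C₃)).card := by
    rw [Nat.one_le_iff_ne_zero, Ne, Finset.card_eq_zero, ← Ne, ← Finset.nonempty_iff_ne_empty]
    have hne2 : (C₁ ∩ C₂).Nonempty := by
      rw [← Finset.card_pos, hc2]; decide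
    obtain ⟨a, ha⟩ := hne2
    by_cases ha3 : a ∈ C₁ ∩ C₃
    · exact ⟨a, Finset.mem_inter.2 ⟨ha, ha3⟩⟩
    · have haC1 : a ∈ C₁ := (Finset.mem_inter.1 ha).1
      have hnear : ∀ p ∈ C₁ ∩ C₃, ¬ G.Adj a p :=
        fun p hp => hC1.1 a haC1 p (Finset.mem_inter.1 hp).1
      have h20 := s77_star_card hcl hL hL3 ha3 hnear
      have hsub : (C₁ ∩ C₃).biUnion (fun p => (line G a p).erase a) ⊆ C₁.erase a := by
        intro w hw
        rw [Finset.mem_biUnion] at hw
        obtain ⟨p, hp, hw⟩ := hw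
        rw [Finset.mem_erase] at hw ⊢
        have hap : a ≠ p := fun h => ha3 (h ▸ hp)
        exact ⟨hw.1, hG2 C₁ h₁ a p haC1 (Finset.mem_inter.1 hp).1 hap hw.2⟩
      have hEq : (C₁ ∩ C₃).biUnion (fun p => (line G a p).erase a) = C₁.erase a := by
        apply Finset.eq_of_subset_of_card_le hsub
        rw [h20, Finset.card_erase_of_mem haC1, hC1.2]
      -- a second point of the line C₁ ∩ C₂
      have hex : ∃ a₂ ∈ C₁ ∩ C₂, a₂ ≠ a := by
        have h2 : 1 < (C₁ ∩ C₂).card := by rw [hc2]; decide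
        obtain ⟨x, hx, y, hy, hxy⟩ := Finset.one_lt_card.1 h2
        by_cases hxa : x = a
        · exact ⟨y, hy, fun h => hxy (hxa.trans h.symm)⟩
        · exact ⟨x, hx, hxa⟩
      obtain ⟨a₂, ha₂, ha₂a⟩ := hex
      have ha₂mem : a₂ ∈ C₁.erase a :=
        Finset.mem_erase.2 ⟨ha₂a, (Finset.mem_inter.1 ha₂).1⟩
      rw [← hEq, Finset.mem_biUnion] at ha₂mem
      obtain ⟨b, hb, hw⟩ := ha₂mem
      rw [Finset.mem_erase] at hw
      have hab : a ≠ b := fun h => ha3 (h ▸ hb)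
      have e1 := (s77_line_eq hL hL2 ha ha₂ (Ne.symm ha₂a)).2
      have e2 := (hL a b a a₂ hab (hnear b hb) (left_mem_line a b) hw.2 (Ne.symm ha₂a)).2
      refine ⟨b, Finset.mem_inter.2 ⟨?_, hb⟩⟩
      rw [← e1, e2]
      exact right_mem_line a b
  omega

end Cfsg.Agent.Lib.helper1
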