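import Mathlib
import Cfsg.Prelude.Def_Sporadic_a
import Cfsg.Agent.Lib.helper9.Srg77Defs

/-!
Piece I of the S0429 split (uniqueness of the strongly regular graph (77,16,0,4)):
the 77 vertices, as 6-sets of 21-cocliques, form a Steiner system S(3,6,22).
-/

set_option autoImplicit false

namespace Cfsg.Agent.Lib.helper1

open Finset Cfsg.Agent.Lib.helper9

variable {V : Type*} [Fintype V] [DecidableEq V] {G : SimpleGraph V} [DecidableRel G.Adj]

/-- The block of a vertex has six elements. -/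
theorem s77_block_card (hH2 : ∀ x : V, ((cocl G).filter (fun C => x ∈ C)).card = 6) (x : V) :
    (Finset.univ.filter (fun C : {C : Finset V // C ∈ cocl G} => x ∈ C.1)).card = 6 := by
  rw [← hH2 x]
  refine Finset.card_bij (fun C _ => C.1) ?_ ?_ ?_
  · intro C hC
    rw [Finset.mem_filter] at hC ⊢
    exact ⟨C.2, hC.2⟩
  · intro C _ D _ h
    exact Subtype.ext h
  · intro C hC
    rw [Finset.mem_filter] at hC
    exact ⟨⟨C, hC.1⟩, Finset.mem_filter.2 ⟨Finset.mem_univ _, hC.2⟩, rfl⟩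

theorem cBlocks_steiner
    (hH2 : ∀ x : V, ((cocl G).filter (fun C => x ∈ C)).card = 6)
    (hH3 : ∀ C₁ C₂ C₃ : Finset V, C₁ ∈ cocl G → C₂ ∈ cocl G → C₃ ∈ cocl G → C₁ ≠ C₂ → C₁ ≠ C₃ →
      C₂ ≠ C₃ → (C₁ ∩ C₂ ∩ C₃).card = 1) :
    Cfsg.IsSteinerSystem 3 6 (cBlocks G) := by
  constructor
  · rintro b ⟨x, rfl⟩
    exact s77_block_card hH2 x
  · intro s hs
    rw [Finset.card_eq_three] at hs
    obtain ⟨C₁, C₂, C₃, h12, h13, h23, rfl⟩ := hs
    have hcard := hH3 C₁.1 C₂.1 C₃.1 C₁.2 C₂.2 C₃.2 (fun h => h12 (Subtype.ext h))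
      (fun h => h13 (Subtype.ext h)) (fun h => h23 (Subtype.ext h))
    rw [Finset.card_eq_one] at hcard
    obtain ⟨x, hx⟩ := hcard
    have hxmem : x ∈ C₁.1 ∩ C₂.1 ∩ C₃.1 := by
      rw [hx]
      exact Finset.mem_singleton_self x
    rw [Finset.mem_inter, Finset.mem_inter] at hxmem
    refine ⟨Finset.univ.filter (fun C : {C : Finset V // C ∈ cocl G} => x ∈ C.1),
      ⟨⟨x, rfl⟩, ?_⟩, ?_⟩
    · intro C hC
      rw [Finset.mem_insert, Finset.mem_insert, Finset.mem_singleton] at hC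
      rw [Finset.mem_filter]
      refine ⟨Finset.mem_univ _, ?_⟩
      rcases hC with rfl | rfl | rfl
      · exact hxmem.1.1
      · exact hxmem.1.2
      · exact hxmem.2
    · rintro b ⟨⟨y, rfl⟩, hsub⟩
      have hy : ∀ C ∈ ({C₁, C₂, C₃} : Finset {C : Finset V // C ∈ cocl G}), y ∈ C.1 :=
        fun C hC => (Finset.mem_filter.1 (hsub hC)).2
      have hymem : y ∈ C₁.1 ∩ C₂.1 ∩ C₃.1 := by
        rw [Finset.mem_inter, Finset.mem_inter]
        exact ⟨⟨hy C₁ (by simp), hy C₂ (by simp)⟩, hy C₃ (by simp)⟩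
      rw [hx, Finset.mem_singleton] at hymem
      rw [hymem]

end Cfsg.Agent.Lib.helper1
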