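import Mathlib
import Cfsg.Agent.Lib.helper73.ReeNormOrbit

/-!
Piece F1 of the S1158/S1159 split: local structure of the torus `T = C(x)`.
-/

set_option autoImplicit false

namespace Cfsg.Agent.Lib.helper1

open Subgroup

/-- In a cyclic group, a subgroup of order `d` consists of the solutions of `t ^ d = 1`. -/
theorem wtl_mem_of_pow_card {G : Type*} [Group G] [Finite G] (T A₀ : Subgroup G)
    (hT : IsCyclic ↥T) (hA : A₀ ≤ T) {t : G} (ht : t ∈ T) (hpow : t ^ Nat.card ↥A₀ = 1) :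
    t ∈ A₀ := by
  classical
  have : Fintype ↥T := Fintype.ofFinite _
  have hd0 : 0 < Nat.card ↥A₀ := Nat.card_pos
  have hle := IsCyclic.card_pow_eq_one_le (α := ↥T) hd0
  -- the elements of `A₀` inside `T`
  let F₀ : Finset ↥T := Finset.univ.filter (fun a : ↥T => (a : G) ∈ A₀)
  let F : Finset ↥T := Finset.univ.filter (fun a : ↥T => a ^ Nat.card ↥A₀ = 1)
  have hsub : F₀ ⊆ F := by
    intro a ha
    rw [Finset.mem_filter] at ha ⊢
    refine ⟨Finset.mem_univ _, ?_⟩
    apply Subtype.ext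
    have h1 : (⟨(a : G), ha.2⟩ : ↥A₀) ^ Nat.card ↥A₀ = 1 := pow_card_eq_one'
    have h2 := congrArg (Subtype.val) h1
    rw [Subgroup.coe_pow, Subgroup.coe_one] at h2
    rw [Subgroup.coe_pow, Subgroup.coe_one]
    exact h2
  have hcard : F₀.card = Nat.card ↥A₀ := by
    haveI : Fintype ↥A₀ := Fintype.ofFinite _
    rw [Nat.card_eq_fintype_card (α := ↥A₀)]
    rw [← Finset.card_univ]
    symm
    refine Finset.card_bij (fun (a : ↥A₀) _ => (⟨(a : G), hA a.2⟩ : ↥T)) ?_ ?_ ?_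
    · intro a _
      rw [Finset.mem_filter]
      exact ⟨Finset.mem_univ _, a.2⟩
    · intro a _ b _ h
      apply Subtype.ext
      exact congrArg (fun z : ↥T => (z : G)) h
    · intro b hb
      rw [Finset.mem_filter] at hb
      exact ⟨⟨(b : G), hb.2⟩, Finset.mem_univ _, rfl⟩
  have hEq : F₀ = F := Finset.eq_of_subset_of_card_le hsub (by rw [hcard]; exact hle)
  have hmem : (⟨t, ht⟩ : ↥T) ∈ F := by
    rw [Finset.mem_filter]
    refine ⟨Finset.mem_univ _, ?_⟩
    apply Subtype.ext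
    rw [Subgroup.coe_pow, Subgroup.coe_one]
    exact hpow
  rw [← hEq, Finset.mem_filter] at hmem
  exact hmem.2

/-- A commutative subgroup of exponent dividing `Pn`, in a group whose Sylow `p`-subgroups are
cyclic for the primes `p ∣ Pn`, is cyclic. -/
theorem wtl_isCyclic {G : Type*} [Group G] [Finite G] (Pn : ℕ) (T : Subgroup G)
    (hTcomm : ∀ a ∈ T, ∀ b ∈ T, a * b = b * a) (hTexp : ∀ y ∈ T, y ^ Pn = 1)
    (hcyc : ∀ (p : ℕ) [Fact p.Prime], p ∣ Pn → ∀ P : Sylow p G, IsCyclic ↥(P : Subgroup G)) :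
    IsCyclic ↥T := by
  have hZ : IsZGroup ↥T := by
    refine ⟨fun p hp P => ?_⟩
    haveI : Fact p.Prime := ⟨hp⟩
    by_cases hpn : p ∣ Pn
    · have hP' : IsPGroup p ↥((P : Subgroup ↥T).map T.subtype) := P.isPGroup'.map T.subtype
      obtain ⟨S, hS⟩ := hP'.exists_le_sylow
      haveI : IsCyclic ↥(S : Subgroup G) := hcyc p hpn S
      haveI : IsCyclic ↥((P : Subgroup ↥T).map T.subtype) := Subgroup.isCyclic_of_le hS
      let e := (P : Subgroup ↥T).equivMapOfInjective T.subtype T.subtype_injective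
      exact isCyclic_of_surjective e.symm e.symm.surjective
    · haveI : Subsingleton ↥(P : Subgroup ↥T) := by
        refine ⟨fun a b => ?_⟩
        have key : ∀ y : ↥(P : Subgroup ↥T), y = 1 := by
          intro y
          obtain ⟨k, hk⟩ := P.isPGroup' y
          have hy : y ^ Pn = 1 := by
            apply Subtype.ext
            apply Subtype.ext
            rw [Subgroup.coe_pow, Subgroup.coe_pow, Subgroup.coe_one, Subgroup.coe_one]
            exact hTexp _ (y : ↥T).2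
          have h1 : orderOf y ∣ p ^ k := orderOf_dvd_of_pow_eq_one hk
          have h2 : orderOf y ∣ Pn := orderOf_dvd_of_pow_eq_one hy
          have hcop : Nat.Coprime (p ^ k) Pn :=
            Nat.Coprime.pow_left k ((Nat.Prime.coprime_iff_not_dvd hp).2 hpn)
          have h3 : orderOf y ∣ 1 := by
            have := Nat.dvd_gcd h1 h2
            rwa [hcop.gcd_eq_one] at this
          exact orderOf_eq_one_iff.1 (Nat.dvd_one.1 h3)
        rw [key a, key b]
      exact isCyclic_of_subsingleton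
  have hN : Group.IsNilpotent ↥T :=
    ⟨⟨1, Subgroup.upperCentralSeries_one_eq_top_iff.2
      ⟨⟨fun a b => Subtype.ext (hTcomm a a.2 b b.2)⟩⟩⟩⟩
  exact inferInstance

theorem ward_torus_local {G : Type*} [Group G] [Finite G] (Pn Q : ℕ)
    (hcomm : ∀ x : G, (orderOf x).Prime → x ^ Pn = 1 → ∀ c₁ c₂ : G, c₁ * x = x * c₁ → c₂ * x = x * c₂ → c₁ * c₂ = c₂ * c₁)
    (hexp : ∀ x y : G, (orderOf x).Prime → x ^ Pn = 1 → y * x = x * y → y ^ Pn = 1)
    (hcyc : ∀ (p : ℕ) [Fact p.Prime], p ∣ Pn → ∀ P : Sylow p G, IsCyclic ↥(P : Subgroup G))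
    (hnorm : ∀ x n : G, (orderOf x).Prime → x ^ Pn = 1 → n * x * n⁻¹ * x = x * (n * x * n⁻¹) → ∃ i : ℕ, i < 6 ∧ n * x * n⁻¹ = x ^ (Q ^ i))
    (hQ6 : ∀ x : G, x ^ Pn = 1 → x ^ (Q ^ 6) = x)
    (hinj : ∀ x : G, (orderOf x).Prime → x ^ Pn = 1 → ∀ i j : ℕ, i < 6 → j < 6 → x ^ (Q ^ i) = x ^ (Q ^ j) → i = j)
    (x : G) (hx : (orderOf x).Prime) (hxP : x ^ Pn = 1) (T : Subgroup G) (hT : T = Subgroup.centralizer ({x} : Set G)) :
    IsCyclic ↥T ∧ Nat.card ↥T ∣ Pn ∧ 1 < Nat.card ↥T ∧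
    (∀ y ∈ T, y ≠ 1 → Subgroup.centralizer ({y} : Set G) = T) ∧
    (∃ e : ℕ, e ∣ 6 ∧ Nat.card ↥(Subgroup.normalizer (T : Set G)) = e * Nat.card ↥T) ∧
    (∀ A₀ : Subgroup G, A₀ ≤ T → A₀ ≠ ⊥ → Subgroup.normalizer (A₀ : Set G) = Subgroup.normalizer (T : Set G)) ∧
    Nat.card {g : G // g ≠ 1 ∧ ∃ c : G, c⁻¹ * g * c ∈ T} * Nat.card ↥(Subgroup.normalizer (T : Set G)) = Nat.card G * (Nat.card ↥T - 1) := by
  classical
  have hmem : ∀ g : G, g ∈ T ↔ g * x = x * g := by
    intro g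
    rw [hT, Subgroup.mem_centralizer_singleton_iff]
  have hTcomm : ∀ a ∈ T, ∀ b ∈ T, a * b = b * a :=
    fun a ha b hb => hcomm x hx hxP a b ((hmem a).1 ha) ((hmem b).1 hb)
  have hTexp : ∀ y ∈ T, y ^ Pn = 1 := fun y hy => hexp x y hx hxP ((hmem y).1 hy)
  have hxT : x ∈ T := (hmem x).2 rfl
  have hx1 : x ≠ 1 := by
    rintro rfl
    rw [orderOf_one] at hx
    exact Nat.not_prime_one hx
  -- `T` is cyclic
  have hTcyc : IsCyclic ↥T := wtl_isCyclic Pn T hTcomm hTexp hcyc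
  -- the order of `T`
  have hTdvd : Nat.card ↥T ∣ Pn := by
    obtain ⟨g, hg⟩ := hTcyc.exists_generator
    rw [← orderOf_eq_card_of_forall_mem_zpowers hg]
    apply orderOf_dvd_of_pow_eq_one
    apply Subtype.ext
    rw [Subgroup.coe_pow, Subgroup.coe_one]
    exact hTexp _ g.2
  have hTgt : 1 < Nat.card ↥T := by
    rw [Subgroup.one_lt_card_iff_ne_bot]
    intro h
    rw [h, Subgroup.mem_bot] at hxT
    exact hx1 hxT
  -- `T` is the centralizer of each of its non-identity elements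
  have hTI : ∀ y ∈ T, y ≠ 1 → Subgroup.centralizer ({y} : Set G) = T := by
    intro y hy hy1
    have hord : orderOf y ≠ 1 := fun h => hy1 (orderOf_eq_one_iff.1 h)
    obtain ⟨p, hp, hpd⟩ := Nat.exists_prime_and_dvd hord
    have hpos : orderOf y ≠ 0 := (orderOf_pos y).ne'
    have hy'ord : orderOf (y ^ (orderOf y / p)) = p := orderOf_pow_orderOf_div hpos hpd
    have hy'T : y ^ (orderOf y / p) ∈ T := T.pow_mem hy _
    have hy'P : (y ^ (orderOf y / p)) ^ Pn = 1 := hTexp _ hy'T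
    have hpr : (orderOf (y ^ (orderOf y / p))).Prime := hy'ord.symm ▸ hp
    apply le_antisymm
    · intro c hc
      rw [Subgroup.mem_centralizer_singleton_iff] at hc
      have hc' : c * y ^ (orderOf y / p) = y ^ (orderOf y / p) * c :=
        (Commute.pow_right (show Commute c y from hc) _).eq
      have hxy' : x * y ^ (orderOf y / p) = y ^ (orderOf y / p) * x := hTcomm x hxT _ hy'T
      exact (hmem c).2 (hcomm _ hpr hy'P c x hc' hxy')
    · intro t ht
      rw [Subgroup.mem_centralizer_singleton_iff]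
      exact hTcomm t ht y hy
  -- an element conjugating a non-identity element of `T` into `T` normalizes `T`
  have key : ∀ n y : G, y ∈ T → y ≠ 1 → n * y * n⁻¹ ∈ T →
      n ∈ Subgroup.normalizer (T : Set G) := by
    intro n y hy hy1 hny
    have hny1 : n * y * n⁻¹ ≠ 1 := fun h => hy1 (conj_eq_one_iff.1 h)
    have h1 := hTI y hy hy1
    have h2 := hTI (n * y * n⁻¹) hny hny1
    rw [Subgroup.mem_normalizer_iff]
    intro h
    constructor
    · intro hh
      have hh' : h ∈ Subgroup.centralizer ({y} : Set G) := by rw [h1]; exact hh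
      rw [Subgroup.mem_centralizer_singleton_iff] at hh'
      have goal : n * h * n⁻¹ ∈ Subgroup.centralizer ({n * y * n⁻¹} : Set G) := by
        rw [Subgroup.mem_centralizer_singleton_iff]
        calc n * h * n⁻¹ * (n * y * n⁻¹) = n * (h * y) * n⁻¹ := by group
          _ = n * (y * h) * n⁻¹ := by rw [hh']
          _ = n * y * n⁻¹ * (n * h * n⁻¹) := by group
      rw [h2] at goal
      exact goal
    · intro hh
      have hh' : n * h * n⁻¹ ∈ Subgroup.centralizer ({n * y * n⁻¹} : Set G) := by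
        rw [h2]; exact hh
      rw [Subgroup.mem_centralizer_singleton_iff] at hh'
      have goal : h ∈ Subgroup.centralizer ({y} : Set G) := by
        rw [Subgroup.mem_centralizer_singleton_iff]
        have e1 : h * y = n⁻¹ * (n * h * n⁻¹ * (n * y * n⁻¹)) * n := by group
        have e2 : y * h = n⁻¹ * (n * y * n⁻¹ * (n * h * n⁻¹)) * n := by group
        rw [e1, e2, hh']
      rw [h1] at goal
      exact goal
  -- the index of `T` in its normalizer
  have hN : ∀ n ∈ Subgroup.normalizer (T : Set G), ∃ i : ℕ, i < 6 ∧ n * x * n⁻¹ = x ^ (Q ^ i) := by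
    intro n hn
    have hnx : n * x * n⁻¹ ∈ T := (Subgroup.mem_normalizer_iff.1 hn x).1 hxT
    exact hnorm x n hx hxP ((hmem _).1 hnx)
  have hE := Cfsg.Agent.Lib.helper73.card_normalizer_of_pow_orbit x Q (hQ6 x hxP)
    (hinj x hx hxP) T hmem hN
  -- normalizers of the subgroups of `T`
  have hNA : ∀ A₀ : Subgroup G, A₀ ≤ T → A₀ ≠ ⊥ →
      Subgroup.normalizer (A₀ : Set G) = Subgroup.normalizer (T : Set G) := by
    intro A₀ hA hA0
    obtain ⟨y, hyA, hy1⟩ := (A₀.bot_or_exists_ne_one).resolve_left hA0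
    have hpowA : ∀ h ∈ A₀, h ^ Nat.card ↥A₀ = 1 := by
      intro h hh
      have h1 : (⟨h, hh⟩ : ↥A₀) ^ Nat.card ↥A₀ = 1 := pow_card_eq_one'
      have h2 := congrArg Subtype.val h1
      rwa [Subgroup.coe_pow, Subgroup.coe_one] at h2
    apply le_antisymm
    · intro n hn
      have hny : n * y * n⁻¹ ∈ A₀ := (Subgroup.mem_normalizer_iff.1 hn y).1 hyA
      exact key n y (hA hyA) hy1 (hA hny)
    · intro n hn
      rw [Subgroup.mem_normalizer_iff]
      intro h
      constructor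
      · intro hh
        have hT' : n * h * n⁻¹ ∈ T := (Subgroup.mem_normalizer_iff.1 hn h).1 (hA hh)
        apply wtl_mem_of_pow_card T A₀ hTcyc hA hT'
        rw [conj_pow, hpowA h hh]
        group
      · intro hh
        have hT' : h ∈ T := (Subgroup.mem_normalizer_iff.1 hn h).2 (hA hh)
        apply wtl_mem_of_pow_card T A₀ hTcyc hA hT'
        have h3 := hpowA _ hh
        rw [conj_pow] at h3
        exact conj_eq_one_iff.1 h3
  -- the class count
  have hcount : Nat.card {g : G // g ≠ 1 ∧ ∃ c : G, c⁻¹ * g * c ∈ T} *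
      Nat.card ↥(Subgroup.normalizer (T : Set G)) = Nat.card G * (Nat.card ↥T - 1) := by
    have hcb : ∀ b : {g : G // g ≠ 1 ∧ ∃ c : G, c⁻¹ * g * c ∈ T},
        (Classical.choose b.2.2)⁻¹ * (b : G) * Classical.choose b.2.2 ∈ T :=
      fun b => Classical.choose_spec b.2.2
    have htb1 : ∀ b : {g : G // g ≠ 1 ∧ ∃ c : G, c⁻¹ * g * c ∈ T},
        (Classical.choose b.2.2)⁻¹ * (b : G) * Classical.choose b.2.2 ≠ 1 := by
      intro b h
      apply b.2.1
      have e : (b : G) = Classical.choose b.2.2 *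
          ((Classical.choose b.2.2)⁻¹ * (b : G) * Classical.choose b.2.2) *
          (Classical.choose b.2.2)⁻¹ := by group
      rw [e, h]
      group
    have hmemT : ∀ (b : {g : G // g ≠ 1 ∧ ∃ c : G, c⁻¹ * g * c ∈ T})
        (n : ↥(Subgroup.normalizer (T : Set G))),
        (n : G) * ((Classical.choose b.2.2)⁻¹ * (b : G) * Classical.choose b.2.2) * (n : G)⁻¹ ∈ T :=
      fun b n => (Subgroup.mem_normalizer_iff.1 n.2 _).1 (hcb b)
    have hne1 : ∀ (b : {g : G // g ≠ 1 ∧ ∃ c : G, c⁻¹ * g * c ∈ T})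
        (n : ↥(Subgroup.normalizer (T : Set G))),
        (⟨_, hmemT b n⟩ : ↥T) ≠ 1 := by
      intro b n h
      have h' := congrArg Subtype.val h
      exact htb1 b (conj_eq_one_iff.1 h')
    let Ψ : {g : G // g ≠ 1 ∧ ∃ c : G, c⁻¹ * g * c ∈ T} × ↥(Subgroup.normalizer (T : Set G)) →
        G × {t : ↥T // t ≠ 1} := fun bn =>
      (Classical.choose bn.1.2.2 * (bn.2 : G)⁻¹, ⟨⟨_, hmemT bn.1 bn.2⟩, hne1 bn.1 bn.2⟩)
    have hΨinj : Function.Injective Ψ := by
      rintro ⟨b, n⟩ ⟨b', n'⟩ h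
      have h1 : Classical.choose b.2.2 * (n : G)⁻¹ = Classical.choose b'.2.2 * (n' : G)⁻¹ :=
        congrArg Prod.fst h
      have h2 : (n : G) * ((Classical.choose b.2.2)⁻¹ * (b : G) * Classical.choose b.2.2) * (n : G)⁻¹
          = (n' : G) * ((Classical.choose b'.2.2)⁻¹ * (b' : G) * Classical.choose b'.2.2) * (n' : G)⁻¹ :=
        congrArg (fun z : G × {t : ↥T // t ≠ 1} => ((z.2 : ↥T) : G)) h
      have hb : (b : G) = b' := by
        have e1 : (b : G) = (Classical.choose b.2.2 * (n : G)⁻¹) *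
            ((n : G) * ((Classical.choose b.2.2)⁻¹ * (b : G) * Classical.choose b.2.2) * (n : G)⁻¹) *
            (Classical.choose b.2.2 * (n : G)⁻¹)⁻¹ := by group
        have e2 : (b' : G) = (Classical.choose b'.2.2 * (n' : G)⁻¹) *
            ((n' : G) * ((Classical.choose b'.2.2)⁻¹ * (b' : G) * Classical.choose b'.2.2) * (n' : G)⁻¹) *
            (Classical.choose b'.2.2 * (n' : G)⁻¹)⁻¹ := by group
        rw [e1, e2, h1, h2]
      have hbb : b = b' := Subtype.ext hb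
      subst hbb
      have hn : (n : G) = n' := inv_injective (mul_left_cancel h1)
      have hnn : n = n' := Subtype.ext hn
      rw [hnn]
    have hΨsurj : Function.Surjective Ψ := by
      rintro ⟨c, ⟨⟨t, htT⟩, ht1⟩⟩
      have ht1' : t ≠ 1 := fun h => ht1 (Subtype.ext h)
      have hg1 : c * t * c⁻¹ ≠ 1 := fun h => ht1' (conj_eq_one_iff.1 h)
      have hgc : c⁻¹ * (c * t * c⁻¹) * c ∈ T := by
        have e : c⁻¹ * (c * t * c⁻¹) * c = t := by group
        rw [e]; exact htT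
      have hn : ∀ d : G, d⁻¹ * (c * t * c⁻¹) * d ∈ T → d⁻¹ * (c * t * c⁻¹) * d ≠ 1 →
          c⁻¹ * d ∈ Subgroup.normalizer (T : Set G) := by
        intro d hd hd1
        refine key (c⁻¹ * d) (d⁻¹ * (c * t * c⁻¹) * d) hd hd1 ?_
        have e : c⁻¹ * d * (d⁻¹ * (c * t * c⁻¹) * d) * (c⁻¹ * d)⁻¹ = t := by group
        rw [e]; exact htT
      refine ⟨(⟨c * t * c⁻¹, hg1, ⟨c, hgc⟩⟩,
        ⟨c⁻¹ * Classical.choose (⟨c, hgc⟩ : ∃ c' : G, c'⁻¹ * (c * t * c⁻¹) * c' ∈ T),
          hn _ (hcb ⟨c * t * c⁻¹, hg1, ⟨c, hgc⟩⟩) (htb1 ⟨c * t * c⁻¹, hg1, ⟨c, hgc⟩⟩)⟩), ?_⟩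
      apply Prod.ext
      · show Classical.choose (⟨c, hgc⟩ : ∃ c' : G, c'⁻¹ * (c * t * c⁻¹) * c' ∈ T) *
            (c⁻¹ * Classical.choose (⟨c, hgc⟩ : ∃ c' : G, c'⁻¹ * (c * t * c⁻¹) * c' ∈ T))⁻¹ = c
        group
      · apply Subtype.ext
        apply Subtype.ext
        show (c⁻¹ * Classical.choose (⟨c, hgc⟩ : ∃ c' : G, c'⁻¹ * (c * t * c⁻¹) * c' ∈ T)) *
            ((Classical.choose (⟨c, hgc⟩ : ∃ c' : G, c'⁻¹ * (c * t * c⁻¹) * c' ∈ T))⁻¹ *
              (c * t * c⁻¹) * Classical.choose (⟨c, hgc⟩ : ∃ c' : G, c'⁻¹ * (c * t * c⁻¹) * c' ∈ T)) *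
            (c⁻¹ * Classical.choose (⟨c, hgc⟩ : ∃ c' : G, c'⁻¹ * (c * t * c⁻¹) * c' ∈ T))⁻¹ = t
        group
    have hcard := Nat.card_congr (Equiv.ofBijective Ψ ⟨hΨinj, hΨsurj⟩)
    rw [Nat.card_prod, Nat.card_prod] at hcard
    have hT1 : Nat.card {t : ↥T // t ≠ 1} = Nat.card ↥T - 1 := by
      have h := Nat.card_congr (Equiv.optionSubtypeNe (1 : ↥T))
      rw [Finite.card_option] at h
      omega
    rw [hcard, hT1]
  exact ⟨hTcyc, hTdvd, hTgt, hTI, hE, hNA, hcount⟩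

end Cfsg.Agent.Lib.helper1
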