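import Mathlib
import Cfsg.Agent.Lib.helper61.SL25Pres

/-!
Piece C of the S3359 / S0689 / S0686 split (helper14): `|Aut(SL(2,5))| ≤ 120`.

An automorphism `φ` is determined by `(φ a, φ b)` for the generators `a = mX` (order 3) and
`b = mY` (order 5) of helper61; the pair `(x, y) = (φ a, φ b)` satisfies `x³ = 1 ≠ x`,
`y⁵ = 1 ≠ y`, `(xy)⁴ = 1 ≠ (xy)²`, and there are at most `20 * 6` such pairs of matrices
(kernel computation over the entries).
-/

set_option autoImplicit false

namespace Cfsg.Agent.Lib.helper1

namespace Z2C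

open Cfsg.Agent.Lib.helper61.SL25

/-- Entries of a `2 × 2` matrix over `ZMod 5`. -/
abbrev Q : Type := ZMod 5 × ZMod 5 × ZMod 5 × ZMod 5

/-- The matrix with the given entries. -/
def M (q : Q) : Matrix (Fin 2) (Fin 2) (ZMod 5) := !![q.1, q.2.1; q.2.2.1, q.2.2.2]

/-- Order three. -/
def condX (q : Q) : Prop := M q * M q * M q = 1 ∧ M q ≠ 1

instance decCondX : DecidablePred condX := fun q => by unfold condX; infer_instance

/-- Order five, with product of order four. -/
def condY (q q' : Q) : Prop :=
  M q' * M q' * M q' * M q' * M q' = 1 ∧ M q' ≠ 1 ∧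
    (M q * M q') * (M q * M q') * ((M q * M q') * (M q * M q')) = 1 ∧
    (M q * M q') * (M q * M q') ≠ 1

instance decCondY (q : Q) : DecidablePred (condY q) := fun q' => by unfold condY; infer_instance

set_option maxRecDepth 100000 in
theorem d1 : (Finset.univ.filter condX).card ≤ 20 := by decide +kernel

set_option maxRecDepth 100000 in
theorem d2 : ∀ q : Q, condX q → (Finset.univ.filter (condY q)).card ≤ 6 := by decide +kernel

/-- The entries of an element of `SL(2,5)`. -/
def code (g : Matrix.SpecialLinearGroup (Fin 2) (ZMod 5)) : Q :=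
  (g.1 0 0, g.1 0 1, g.1 1 0, g.1 1 1)

theorem M_code (g : Matrix.SpecialLinearGroup (Fin 2) (ZMod 5)) : M (code g) = g.1 :=
  (Matrix.eta_fin_two g.1).symm

theorem code_injective : Function.Injective code := by
  intro g h hgh
  apply Subtype.ext
  rw [← M_code g, ← M_code h, hgh]

theorem closure_ab :
    Subgroup.closure ({mX, mY} : Set (Matrix.SpecialLinearGroup (Fin 2) (ZMod 5))) = ⊤ := by
  have hX : mX ∈ Subgroup.closure ({mX, mY} : Set (Matrix.SpecialLinearGroup (Fin 2) (ZMod 5))) :=
    Subgroup.subset_closure (by simp)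
  have hY : mY ∈ Subgroup.closure ({mX, mY} : Set (Matrix.SpecialLinearGroup (Fin 2) (ZMod 5))) :=
    Subgroup.subset_closure (by simp)
  rw [eq_top_iff, ← closure_elem, Subgroup.closure_le]
  rintro g (hg | hg)
  · have h : g = (mX * mY) * mY⁻¹ * (mX * mY)⁻¹ := by
      apply Subtype.ext
      rw [hg]
      decide
    rw [h]
    exact mul_mem (mul_mem (mul_mem hX hY) (inv_mem hY)) (inv_mem (mul_mem hX hY))
  · have h : g = mY := by
      apply Subtype.ext
      rw [hg]
      rfl
    rw [h]
    exact hY

/-- The pairs of entry tuples that can be `(φ a, φ b)`. -/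
def S : Finset (Q × Q) :=
  (Finset.univ.filter condX).biUnion
    (fun q => (Finset.univ.filter (condY q)).image (fun q' => (q, q')))

theorem card_S : S.card ≤ 120 := by
  unfold S
  refine le_trans Finset.card_biUnion_le ?_
  have h : ∀ q ∈ Finset.univ.filter condX,
      ((Finset.univ.filter (condY q)).image (fun q' => (q, q'))).card ≤ 6 := by
    intro q hq
    exact le_trans Finset.card_image_le (d2 q (Finset.mem_filter.1 hq).2)
  refine le_trans (Finset.sum_le_card_nsmul _ _ 6 h) ?_
  have := d1
  rw [smul_eq_mul]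
  omega

/-- The invariant of an automorphism. -/
def F (φ : MulAut (Matrix.SpecialLinearGroup (Fin 2) (ZMod 5))) : Q × Q :=
  (code (φ mX), code (φ mY))

theorem F_injective : Function.Injective F := by
  intro φ ψ h
  have h1 : φ mX = ψ mX := code_injective (congrArg Prod.fst h)
  have h2 : φ mY = ψ mY := code_injective (congrArg Prod.snd h)
  have h3 : φ.toMonoidHom = ψ.toMonoidHom := by
    apply MonoidHom.eq_of_eqOn_dense closure_ab
    intro g hg
    rcases hg with rfl | rfl
    · exact h1
    · exact h2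
  apply MulEquiv.ext
  intro g
  exact DFunLike.congr_fun h3 g

theorem F_mem (φ : MulAut (Matrix.SpecialLinearGroup (Fin 2) (ZMod 5))) : F φ ∈ S := by
  have e1 : (φ mX) ^ 3 = 1 := by rw [← map_pow, mX3, map_one]
  have e2 : φ mX ≠ 1 := by
    intro h
    have : mX = 1 := φ.injective (by rw [h, map_one])
    revert this
    decide
  have e3 : (φ mY) ^ 5 = 1 := by rw [← map_pow, mY5, map_one]
  have e4 : φ mY ≠ 1 := by
    intro h
    have : mY = 1 := φ.injective (by rw [h, map_one])
    revert this
    decide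
  have e5 : (φ mX * φ mY) ^ 4 = 1 := by
    rw [← map_mul, ← map_pow]
    have : (mX * mY) ^ 4 = 1 := by decide
    rw [this, map_one]
  have e6 : (φ mX * φ mY) ^ 2 ≠ 1 := by
    rw [← map_mul, ← map_pow]
    intro h
    have : (mX * mY) ^ 2 = 1 := φ.injective (by rw [h, map_one])
    revert this
    decide
  have c1 : condX (code (φ mX)) := by
    unfold condX
    rw [M_code]
    refine ⟨?_, ?_⟩
    · have := congrArg Subtype.val e1
      simpa [pow_succ] using this
    · intro h
      exact e2 (Subtype.ext h)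
  have c2 : condY (code (φ mX)) (code (φ mY)) := by
    unfold condY
    rw [M_code, M_code]
    refine ⟨?_, ?_, ?_, ?_⟩
    · have := congrArg Subtype.val e3
      simpa [pow_succ] using this
    · intro h
      exact e4 (Subtype.ext h)
    · have := congrArg Subtype.val e5
      simpa [pow_succ, mul_assoc] using this
    · intro h
      apply e6
      apply Subtype.ext
      simpa [pow_succ] using h
  unfold S F
  rw [Finset.mem_biUnion]
  refine ⟨code (φ mX), Finset.mem_filter.2 ⟨Finset.mem_univ _, c1⟩, ?_⟩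
  rw [Finset.mem_image]
  exact ⟨code (φ mY), Finset.mem_filter.2 ⟨Finset.mem_univ _, c2⟩, rfl⟩

end Z2C

/-- PIECE C -/
theorem card_mulAut_sl25_le : Finite (MulAut (Matrix.SpecialLinearGroup (Fin 2) (ZMod 5))) ∧ Nat.card (MulAut (Matrix.SpecialLinearGroup (Fin 2) (ZMod 5))) ≤ 120 := by
  have hfin : Finite (MulAut (Matrix.SpecialLinearGroup (Fin 2) (ZMod 5))) :=
    Finite.of_injective Z2C.F Z2C.F_injective
  refine ⟨hfin, ?_⟩
  have h1 : Nat.card (MulAut (Matrix.SpecialLinearGroup (Fin 2) (ZMod 5))) ≤ Nat.card ↥Z2C.S :=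
    Nat.card_le_card_of_injective (fun φ => (⟨Z2C.F φ, Z2C.F_mem φ⟩ : ↥Z2C.S))
      (fun φ ψ h => Z2C.F_injective (congrArg Subtype.val h))
  have h2 : Nat.card ↥Z2C.S = Z2C.S.card := by
    rw [Nat.card_eq_fintype_card, Fintype.card_coe]
  rw [h2] at h1
  exact le_trans h1 Z2C.card_S

end Cfsg.Agent.Lib.helper1
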